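import Mathlib
import Cfsg.Agent.TcData.Fi24C.Common
import Cfsg.Agent.TcData.Fi24C.I920808.T0
import Cfsg.Agent.TcData.Fi24C.I920808.T1
import Cfsg.Agent.TcData.Fi24C.I920808.T2
import Cfsg.Agent.TcData.Fi24C.I920808.T3
import Cfsg.Agent.TcData.Fi24C.I920808.T4
import Cfsg.Agent.TcData.Fi24C.I920808.T5
import Cfsg.Agent.TcData.Fi24C.I920808.T6
import Cfsg.Agent.TcData.Fi24C.I920808.T7
import Cfsg.Agent.TcData.Fi24C.I920808.T8
import Cfsg.Agent.TcData.Fi24C.I920808.T9
import Cfsg.Agent.TcData.Fi24C.I920808.T10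
import Cfsg.Agent.TcData.Fi24C.I920808.T11
import Cfsg.Agent.TcData.Fi24C.I920808.T12
import Cfsg.Agent.TcData.Fi24C.I920808.T13
import Cfsg.Agent.TcData.Fi24C.I920808.T14
import Cfsg.Agent.TcData.Fi24C.I920808.T15
import Cfsg.Agent.TcData.Fi24C.I920808.T16
import Cfsg.Agent.TcData.Fi24C.I920808.T17
import Cfsg.Agent.TcData.Fi24C.I920808.T18
import Cfsg.Agent.TcData.Fi24C.I920808.T19
import Cfsg.Agent.TcData.Fi24C.I920808.T20
import Cfsg.Agent.TcData.Fi24C.I920808.T21
import Cfsg.Agent.TcData.Fi24C.I920808.T22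
import Cfsg.Agent.TcData.Fi24C.I920808.T23
import Cfsg.Agent.TcData.Fi24C.I920808.T24
import Cfsg.Agent.TcData.Fi24C.I920808.T25
import Cfsg.Agent.TcData.Fi24C.I920808.T26
import Cfsg.Agent.TcData.Fi24C.I920808.T27
import Cfsg.Agent.TcData.Fi24C.I920808.T28
import Cfsg.Agent.TcData.Fi24C.I920808.T29
import Cfsg.Agent.TcData.Fi24C.I920808.T30
import Cfsg.Agent.TcData.Fi24C.I920808.T31
import Cfsg.Agent.TcData.Fi24C.I920808.T32
import Cfsg.Agent.TcData.Fi24C.I920808.T33
import Cfsg.Agent.TcData.Fi24C.I920808.T34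
import Cfsg.Agent.TcData.Fi24C.I920808.T35
import Cfsg.Agent.TcData.Fi24C.I920808.T36
import Cfsg.Agent.TcData.Fi24C.I920808.T37
import Cfsg.Agent.TcData.Fi24C.I920808.T38
import Cfsg.Agent.TcData.Fi24C.I920808.T39
import Cfsg.Agent.TcData.Fi24C.I920808.T40
import Cfsg.Agent.TcData.Fi24C.I920808.T41
import Cfsg.Agent.TcData.Fi24C.I920808.T42
import Cfsg.Agent.TcData.Fi24C.I920808.T43
import Cfsg.Agent.TcData.Fi24C.I920808.T44
import Cfsg.Agent.TcData.Fi24C.I920808.T45
import Cfsg.Agent.TcData.Fi24C.I920808.T46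
import Cfsg.Agent.TcData.Fi24C.I920808.T47
import Cfsg.Agent.TcData.Fi24C.I920808.T48
import Cfsg.Agent.TcData.Fi24C.I920808.T49
import Cfsg.Agent.TcData.Fi24C.I920808.T50
import Cfsg.Agent.TcData.Fi24C.I920808.T51
import Cfsg.Agent.TcData.Fi24C.I920808.T52
import Cfsg.Agent.TcData.Fi24C.I920808.T53
import Cfsg.Agent.TcData.Fi24C.I920808.T54
import Cfsg.Agent.TcData.Fi24C.I920808.T55
import Cfsg.Agent.TcData.Fi24C.I920808.T56
import Cfsg.Agent.TcData.Fi24C.I920808.T57
import Cfsg.Agent.TcData.Fi24C.I920808.T58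
import Cfsg.Agent.TcData.Fi24C.I920808.T59
import Cfsg.Agent.TcData.Fi24C.I920808.T60
import Cfsg.Agent.TcData.Fi24C.I920808.T61
import Cfsg.Agent.TcData.Fi24C.I920808.T62
import Cfsg.Agent.TcData.Fi24C.I920808.T63
import Cfsg.Agent.TcData.Fi24C.I920808.T64
import Cfsg.Agent.TcData.Fi24C.I920808.T65
import Cfsg.Agent.TcData.Fi24C.I920808.T66
import Cfsg.Agent.TcData.Fi24C.I920808.T67
import Cfsg.Agent.TcData.Fi24C.I920808.T68
import Cfsg.Agent.TcData.Fi24C.I920808.T69
import Cfsg.Agent.TcData.Fi24C.I920808.T70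
import Cfsg.Agent.TcData.Fi24C.I920808.T71
import Cfsg.Agent.TcData.Fi24C.I920808.T72
import Cfsg.Agent.TcData.Fi24C.I920808.T73
import Cfsg.Agent.TcData.Fi24C.I920808.T74
import Cfsg.Agent.TcData.Fi24C.I920808.T75
import Cfsg.Agent.TcData.Fi24C.I920808.T76
import Cfsg.Agent.TcData.Fi24C.I920808.T77
import Cfsg.Agent.TcData.Fi24C.I920808.T78
import Cfsg.Agent.TcData.Fi24C.I920808.T79
import Cfsg.Agent.TcData.Fi24C.I920808.T80
import Cfsg.Agent.TcData.Fi24C.I920808.T81
import Cfsg.Agent.TcData.Fi24C.I920808.T82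
import Cfsg.Agent.TcData.Fi24C.I920808.T83
import Cfsg.Agent.TcData.Fi24C.I920808.T84
import Cfsg.Agent.TcData.Fi24C.I920808.T85
import Cfsg.Agent.TcData.Fi24C.I920808.T86
import Cfsg.Agent.TcData.Fi24C.I920808.T87
import Cfsg.Agent.TcData.Fi24C.I920808.T88
import Cfsg.Agent.TcData.Fi24C.I920808.T89
import Cfsg.Agent.TcData.Fi24C.I920808.T90
import Cfsg.Agent.TcData.Fi24C.I920808.T91
import Cfsg.Agent.TcData.Fi24C.I920808.T92
import Cfsg.Agent.TcData.Fi24C.I920808.T93
import Cfsg.Agent.TcData.Fi24C.I920808.T94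
import Cfsg.Agent.TcData.Fi24C.I920808.T95
import Cfsg.Agent.TcData.Fi24C.I920808.T96
import Cfsg.Agent.TcData.Fi24C.I920808.T97
import Cfsg.Agent.TcData.Fi24C.I920808.T98
import Cfsg.Agent.TcData.Fi24C.I920808.T99
import Cfsg.Agent.TcData.Fi24C.I920808.T100
import Cfsg.Agent.TcData.Fi24C.I920808.T101
import Cfsg.Agent.TcData.Fi24C.I920808.T102
import Cfsg.Agent.TcData.Fi24C.I920808.T103
import Cfsg.Agent.TcData.Fi24C.I920808.T104
import Cfsg.Agent.TcData.Fi24C.I920808.T105
import Cfsg.Agent.TcData.Fi24C.I920808.T106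
import Cfsg.Agent.TcData.Fi24C.I920808.T107
import Cfsg.Agent.TcData.Fi24C.I920808.T108
import Cfsg.Agent.TcData.Fi24C.I920808.T109
import Cfsg.Agent.TcData.Fi24C.I920808.T110
import Cfsg.Agent.TcData.Fi24C.I920808.T111
import Cfsg.Agent.TcData.Fi24C.I920808.T112
import Cfsg.Agent.TcData.Fi24C.I920808.T113
import Cfsg.Agent.TcData.Fi24C.I920808.T114
import Cfsg.Agent.TcData.Fi24C.I920808.T115
import Cfsg.Agent.TcData.Fi24C.I920808.T116
import Cfsg.Agent.TcData.Fi24C.I920808.T117
import Cfsg.Agent.TcData.Fi24C.I920808.T118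
import Cfsg.Agent.TcData.Fi24C.I920808.T119
import Cfsg.Agent.TcData.Fi24C.I920808.T120
import Cfsg.Agent.TcData.Fi24C.I920808.T121
import Cfsg.Agent.TcData.Fi24C.I920808.T122
import Cfsg.Agent.TcData.Fi24C.I920808.T123
import Cfsg.Agent.TcData.Fi24C.I920808.T124
import Cfsg.Agent.TcData.Fi24C.I920808.T125
import Cfsg.Agent.TcData.Fi24C.I920808.T126
import Cfsg.Agent.TcData.Fi24C.I920808.T127

set_option autoImplicit false
set_option Elab.async false
set_option maxRecDepth 100000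
set_option linter.all false

namespace Cfsg.Agent.TcData.Fi24C.I920808

open Cfsg.Spor Cfsg.Agent.Lib.TcFacts Cfsg.Agent.Lib.TcBits Cfsg.Agent.Lib.TcPres Cfsg.Agent.Lib.Fi24CP Cfsg.Agent.TcData.Fi24C

/-- The generators of the subgroup. -/
abbrev SS : Set (FreeGroup Gen) := {a, b, c, d, e, f, g, j, h, i, l}

/-- The subgroup. -/
abbrev HH : Subgroup (PresentedGroup RR) := (Subgroup.closure SS).map (PresentedGroup.mk RR)

/-- Long generators of the subgroup. -/
noncomputable def macros : List (FreeGroup Gen) := []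

/-- The relators, as words in letters. -/
def Rels : List (List ℕ) := [
  [0, 0],
  [0, 1, 0, 1, 0, 1],
  [0, 2, 0, 2],
  [0, 3, 0, 3],
  [0, 4, 0, 4],
  [0, 5, 0, 5],
  [0, 6, 0, 6],
  [0, 7, 0, 7],
  [0, 8, 0, 8],
  [0, 9, 0, 9],
  [0, 10, 0, 10],
  [0, 11, 0, 11],
  [1, 0, 1, 0, 1, 0],
  [1, 1],
  [1, 2, 1, 2, 1, 2],
  [1, 3, 1, 3],
  [1, 4, 1, 4],
  [1, 5, 1, 5],
  [1, 6, 1, 6],
  [1, 7, 1, 7],
  [1, 8, 1, 8],
  [1, 9, 1, 9],
  [1, 10, 1, 10],
  [1, 11, 1, 11],
  [2, 0, 2, 0],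
  [2, 1, 2, 1, 2, 1],
  [2, 2],
  [2, 3, 2, 3, 2, 3],
  [2, 4, 2, 4],
  [2, 5, 2, 5],
  [2, 6, 2, 6],
  [2, 7, 2, 7],
  [2, 8, 2, 8],
  [2, 9, 2, 9],
  [2, 10, 2, 10],
  [2, 11, 2, 11],
  [3, 0, 3, 0],
  [3, 1, 3, 1],
  [3, 2, 3, 2, 3, 2],
  [3, 3],
  [3, 4, 3, 4, 3, 4],
  [3, 5, 3, 5],
  [3, 6, 3, 6],
  [3, 7, 3, 7],
  [3, 8, 3, 8],
  [3, 9, 3, 9],
  [3, 10, 3, 10],
  [3, 11, 3, 11],
  [4, 0, 4, 0],
  [4, 1, 4, 1],
  [4, 2, 4, 2],
  [4, 3, 4, 3, 4, 3],
  [4, 4],
  [4, 5, 4, 5, 4, 5],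
  [4, 6, 4, 6],
  [4, 7, 4, 7],
  [4, 8, 4, 8],
  [4, 9, 4, 9],
  [4, 10, 4, 10],
  [4, 11, 4, 11],
  [5, 0, 5, 0],
  [5, 1, 5, 1],
  [5, 2, 5, 2],
  [5, 3, 5, 3],
  [5, 4, 5, 4, 5, 4],
  [5, 5],
  [5, 6, 5, 6, 5, 6],
  [5, 7, 5, 7],
  [5, 8, 5, 8],
  [5, 9, 5, 9],
  [5, 10, 5, 10, 5, 10],
  [5, 11, 5, 11],
  [6, 0, 6, 0],
  [6, 1, 6, 1],
  [6, 2, 6, 2],
  [6, 3, 6, 3],
  [6, 4, 6, 4],
  [6, 5, 6, 5, 6, 5],
  [6, 6],
  [6, 7, 6, 7, 6, 7],
  [6, 8, 6, 8],
  [6, 9, 6, 9],
  [6, 10, 6, 10],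
  [6, 11, 6, 11],
  [7, 0, 7, 0],
  [7, 1, 7, 1],
  [7, 2, 7, 2],
  [7, 3, 7, 3],
  [7, 4, 7, 4],
  [7, 5, 7, 5],
  [7, 6, 7, 6, 7, 6],
  [7, 7],
  [7, 8, 7, 8, 7, 8],
  [7, 9, 7, 9],
  [7, 10, 7, 10],
  [7, 11, 7, 11],
  [8, 0, 8, 0],
  [8, 1, 8, 1],
  [8, 2, 8, 2],
  [8, 3, 8, 3],
  [8, 4, 8, 4],
  [8, 5, 8, 5],
  [8, 6, 8, 6],
  [8, 7, 8, 7, 8, 7],
  [8, 8],
  [8, 9, 8, 9, 8, 9],
  [8, 10, 8, 10],
  [8, 11, 8, 11],
  [9, 0, 9, 0],
  [9, 1, 9, 1],
  [9, 2, 9, 2],
  [9, 3, 9, 3],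
  [9, 4, 9, 4],
  [9, 5, 9, 5],
  [9, 6, 9, 6],
  [9, 7, 9, 7],
  [9, 8, 9, 8, 9, 8],
  [9, 9],
  [9, 10, 9, 10],
  [9, 11, 9, 11],
  [10, 0, 10, 0],
  [10, 1, 10, 1],
  [10, 2, 10, 2],
  [10, 3, 10, 3],
  [10, 4, 10, 4],
  [10, 5, 10, 5, 10, 5],
  [10, 6, 10, 6],
  [10, 7, 10, 7],
  [10, 8, 10, 8],
  [10, 9, 10, 9],
  [10, 10],
  [10, 11, 10, 11, 10, 11],
  [11, 0, 11, 0],
  [11, 1, 11, 1],
  [11, 2, 11, 2],
  [11, 3, 11, 3],
  [11, 4, 11, 4],
  [11, 5, 11, 5],
  [11, 6, 11, 6],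
  [11, 7, 11, 7],
  [11, 8, 11, 8],
  [11, 9, 11, 9],
  [11, 10, 11, 10, 11, 10],
  [11, 11],
  [0, 10, 7, 6, 5, 4, 3, 2, 10, 7, 6, 5, 4, 3, 2, 10, 7, 6, 5, 4, 3, 2, 10, 7, 6, 5, 4, 3, 2, 10, 7, 6, 5, 4, 3, 2, 10, 7, 6, 5, 4, 3, 2, 10, 7, 6, 5, 4, 3, 2, 10, 7, 6, 5, 4, 3, 2, 10, 7, 6, 5, 4, 3, 2],
  [5, 4, 3, 5, 6, 7, 5, 10, 11, 5, 4, 3, 5, 6, 7, 5, 10, 11, 5, 4, 3, 5, 6, 7, 5, 10, 11, 5, 4, 3, 5, 6, 7, 5, 10, 11, 5, 4, 3, 5, 6, 7, 5, 10, 11, 5, 4, 3, 5, 6, 7, 5, 10, 11, 5, 4, 3, 5, 6, 7, 5, 10, 11, 5, 4, 3, 5, 6, 7, 5, 10, 11, 5, 4, 3, 5, 6, 7, 5, 10, 11, 5, 4, 3, 5, 6, 7, 5, 10, 11],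
  [2, 3, 4, 5, 6, 7, 10, 2, 3, 4, 5, 6, 7, 10, 2, 3, 4, 5, 6, 7, 10, 2, 3, 4, 5, 6, 7, 10, 2, 3, 4, 5, 6, 7, 10, 2, 3, 4, 5, 6, 7, 10, 2, 3, 4, 5, 6, 7, 10, 2, 3, 4, 5, 6, 7, 10, 2, 3, 4, 5, 6, 7, 10, 0],
  [11, 10, 5, 7, 6, 5, 3, 4, 5, 11, 10, 5, 7, 6, 5, 3, 4, 5, 11, 10, 5, 7, 6, 5, 3, 4, 5, 11, 10, 5, 7, 6, 5, 3, 4, 5, 11, 10, 5, 7, 6, 5, 3, 4, 5, 11, 10, 5, 7, 6, 5, 3, 4, 5, 11, 10, 5, 7, 6, 5, 3, 4, 5, 11, 10, 5, 7, 6, 5, 3, 4, 5, 11, 10, 5, 7, 6, 5, 3, 4, 5, 11, 10, 5, 7, 6, 5, 3, 4, 5],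
  [0, 0],
  [0, 0],
  [1, 1],
  [1, 1],
  [2, 2],
  [2, 2],
  [3, 3],
  [3, 3],
  [4, 4],
  [4, 4],
  [5, 5],
  [5, 5],
  [6, 6],
  [6, 6],
  [7, 7],
  [7, 7],
  [8, 8],
  [8, 8],
  [9, 9],
  [9, 9],
  [10, 10],
  [10, 10],
  [11, 11],
  [11, 11]]

/-- The table. -/
noncomputable def T : Tr := (.node (.node (.node (.node (.node (.node (.node S0 S64) (.node S32 S96)) (.node (.node S16 S80) (.node S48 S112))) (.node (.node (.node S8 S72) (.node S40 S104)) (.node (.node S24 S88) (.node S56 S120)))) (.node (.node (.node (.node S4 S68) (.node S36 S100)) (.node (.node S20 S84) (.node S52 S116))) (.node (.node (.node S12 S76) (.node S44 S108)) (.node (.node S28 S92) (.node S60 S124))))) (.node (.node (.node (.node (.node S2 S66) (.node S34 S98)) (.node (.node S18 S82) (.node S50 S114))) (.node (.node (.node S10 S74) (.node S42 S106)) (.node (.node S26 S90) (.node S58 S122)))) (.node (.node (.node (.node S6 S70) (.node S38 S102)) (.node (.node S22 S86) (.node S54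 S118))) (.node (.node (.node S14 S78) (.node S46 S110)) (.node (.node S30 S94) (.node S62 S126)))))) (.node (.node (.node (.node (.node (.node S1 S65) (.node S33 S97)) (.node (.node S17 S81) (.node S49 S113))) (.node (.node (.node S9 S73) (.node S41 S105)) (.node (.node S25 S89) (.node S57 S121)))) (.node (.node (.node (.node S5 S69) (.node S37 S101)) (.node (.node S21 S85) (.node S53 S117))) (.node (.node (.node S13 S77) (.node S45 S109)) (.node (.node S29 S93) (.node S61 S125))))) (.node (.node (.node (.node (.node S3 S67) (.node S35 S99)) (.node (.node S19 S83) (.node S51 S115))) (.node (.node (.node S11 S75) (.node S43 S107)) (.node (.node S27 S91) (.node S59 S123)))) (.node (.node (.node (.node S7 S71) (.node S39 S103)) (.node (.node S23 S87) (.node S55 S119))) (.node (.node (.node S15 S79) (.node S47 S111)) (.node (.node S31 S95) (.node S63 S127)))))))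

/-- The words. -/
noncomputable def WT : Tr := (.node (.node (.node (.node (.node (.node (.node (.node (.node (.leaf (nat_lit 0xb876543b876543b876543b876543b876543b876543b876543b876543b8765431)) (.leaf (nat_lit 0x543b8765431b876543b876543b876543b876543b876543b876543b876543b876))) (.node (.leaf (nat_lit 0xa5a5)) (.leaf (nat_lit 0x0)))) (.node (.node (.leaf (nat_lit 0x6a6a)) (.leaf (nat_lit 0x0))) (.node (.leaf (nat_lit 0x5c5cd)) (.leaf (nat_lit 0x0))))) (.node (.node (.node (.leaf (nat_lit 0x3131)) (.leaf (nat_lit 0x678b345678b345678b345678b1345678b345678b345678b345678b345678b345))) (.node (.leaf (nat_lit 0x786bc6546786bc6546786bc6546786bc6546786bc6546786bc6546786bc6546786bc6546786bc6546786bc6546)) (.leaf (nat_lit 0x0)))) (.node (.node (.leaf (nat_lit 0x8c8c)) (.leaf (nat_lit 0x0))) (.node (.leaf (nat_lit 0x8282d)) (.leaf (nat_lit 0x0)))))) (.node (.node (.node (.node (.leaf (nat_lit 0x1717)) (.leaf (nat_lit 0x4848d))) (.node (.leaf (nat_lit 0x678b345678b345678b345678b345678b345678b345678b345678b345678b1345))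 (.leaf (nat_lit 0x0)))) (.node (.node (.leaf (nat_lit 0xb4b4)) (.leaf (nat_lit 0x0))) (.node (.leaf (nat_lit 0x1345678b345678b345678b345678b345678b345678b345678b345678b345678b)) (.leaf (nat_lit 0x0))))) (.node (.node (.node (.leaf (nat_lit 0x5353)) (.leaf (nat_lit 0x45678b345678b345678b345678b345678b345678b1345678b345678b345678b3))) (.node (.leaf (nat_lit 0xb345678b345678b345678b345678b1345678b345678b345678b345678b345678)) (.leaf (nat_lit 0x0)))) (.node (.node (.leaf (nat_lit 0x9292)) (.leaf (nat_lit 0x0))) (.node (.leaf (nat_lit 0x78b345678b345678b1345678b345678b345678b345678b345678b345678b3456)) (.leaf (nat_lit 0x0))))))) (.node (.node (.node (.node (.node (.leaf (nat_lit 0x2a2a)) (.leaf (nat_lit 0x76543b876543b8765431b876543b876543b876543b876543b876543b876543b8))) (.node (.leaf (nat_lit 0x787878)) (.leaf (nat_lit 0x0)))) (.node (.node (.leaf (nat_lit 0x7575)) (.leaf (nat_lit 0x0))) (.node (.leaf (nat_lit 0xb876543b876543b876543b876543b876543b8765431b876543b876543b876543))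 (.leaf (nat_lit 0x0))))) (.node (.node (.node (.leaf (nat_lit 0x4a4a)) (.leaf (nat_lit 0x5678b345678b345678b1345678b345678b345678b345678b345678b345678b34))) (.node (.leaf (nat_lit 0xb3b3d)) (.leaf (nat_lit 0x0)))) (.node (.node (.leaf (nat_lit 0xc8c8)) (.leaf (nat_lit 0x0))) (.node (.leaf (nat_lit 0xb876543b876543b8765431b876543b876543b876543b876543b876543b876543)) (.leaf (nat_lit 0x0)))))) (.node (.node (.node (.node (.leaf (nat_lit 0x3535)) (.leaf (nat_lit 0x4c4cd))) (.node (.leaf (nat_lit 0x876543b876543b876543b876543b876543b876543b876543b876543b8765431b)) (.leaf (nat_lit 0x0)))) (.node (.node (.leaf (nat_lit 0x88)) (.leaf (nat_lit 0x0))) (.node (.leaf (nat_lit 0x76543b876543b876543b876543b876543b876543b876543b8765431b876543b8)) (.leaf (nat_lit 0x0))))) (.node (.node (.node (.leaf (nat_lit 0x5151)) (.leaf (nat_lit 0x0))) (.node (.leaf (nat_lit 0x6543b876543b876543b876543b876543b876543b876543b876543b8765431b87)) (.leaf (nat_lit 0x0)))) (.node (.node (.leaf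 (nat_lit 0x676767)) (.leaf (nat_lit 0x0))) (.node (.leaf (nat_lit 0x78b345678b345678b345678b345678b345678b1345678b345678b345678b3456)) (.leaf (nat_lit 0x0)))))))) (.node (.node (.node (.node (.node (.node (.leaf (nat_lit 0x2626)) (.leaf (nat_lit 0x45678b345678b1345678b345678b345678b345678b345678b345678b345678b3))) (.node (.leaf (nat_lit 0xa9a9a9)) (.leaf (nat_lit 0x0)))) (.node (.node (.leaf (nat_lit 0x77)) (.leaf (nat_lit 0x0))) (.node (.leaf (nat_lit 0xbcbcbcd)) (.leaf (nat_lit 0x0))))) (.node (.node (.node (.leaf (nat_lit 0x4646)) (.leaf (nat_lit 0x78b345678b345678b345678b345678b1345678b345678b345678b345678b3456))) (.node (.leaf (nat_lit 0x876543b876543b8765431b876543b876543b876543b876543b876543b876543b)) (.leaf (nat_lit 0x0)))) (.node (.node (.leaf (nat_lit 0xc3c3)) (.leaf (nat_lit 0x0))) (.node (.leaf (nat_lit 0x9494d)) (.leaf (nat_lit 0x0)))))) (.node (.node (.node (.node (.leaf (nat_lit 0x1b1b)) (.leaf (nat_lit 0x456cb6876456cb6876456cb6876456cb6876456cb6876456cb6876456cb6876456cb6876456cb6876456cb6876)))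 (.node (.leaf (nat_lit 0xb876543b876543b876543b876543b876543b876543b876543b8765431b876543)) (.leaf (nat_lit 0x0)))) (.node (.node (.leaf (nat_lit 0xb9b9)) (.leaf (nat_lit 0x0))) (.node (.leaf (nat_lit 0x78b345678b345678b345678b345678b345678b345678b1345678b345678b3456)) (.leaf (nat_lit 0x0))))) (.node (.node (.node (.leaf (nat_lit 0x5959)) (.leaf (nat_lit 0x0))) (.node (.leaf (nat_lit 0x6bc6546786bc6546786bc6546786bc6546786bc6546786bc6546786bc6546786bc6546786bc6546786bc654678)) (.leaf (nat_lit 0x0)))) (.node (.node (.leaf (nat_lit 0x9696)) (.leaf (nat_lit 0x0))) (.node (.leaf (nat_lit 0x5431b876543b876543b876543b876543b876543b876543b876543b876543b876)) (.leaf (nat_lit 0x0))))))) (.node (.node (.node (.node (.node (.leaf (nat_lit 0x121212)) (.leaf (nat_lit 0x656565d))) (.node (.leaf (nat_lit 0x8b8b)) (.leaf (nat_lit 0x0)))) (.node (.node (.leaf (nat_lit 0x7c7c)) (.leaf (nat_lit 0x0))) (.node (.leaf (nat_lit 0x45678b345678b345678b345678b345678b345678b345678b345678b1345678b3))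 (.leaf (nat_lit 0x0))))) (.node (.node (.node (.leaf (nat_lit 0x232323)) (.leaf (nat_lit 0x76543b876543b876543b876543b8765431b876543b876543b876543b876543b8))) (.node (.leaf (nat_lit 0x76456cb6876456cb6876456cb6876456cb6876456cb6876456cb6876456cb6876456cb6876456cb6876456cb68)) (.leaf (nat_lit 0x0)))) (.node (.node (.leaf (nat_lit 0x454545)) (.leaf (nat_lit 0x0))) (.node (.leaf (nat_lit 0x6546786bc6546786bc6546786bc6546786bc6546786bc6546786bc6546786bc6546786bc6546786bc6546786bc)) (.leaf (nat_lit 0x0)))))) (.node (.node (.node (.node (.leaf (nat_lit 0x3939)) (.leaf (nat_lit 0x4b4bd))) (.node (.leaf (nat_lit 0x3b876543b876543b876543b8765431b876543b876543b876543b876543b87654d)) (.leaf (nat_lit 0x0)))) (.node (.node (.leaf (nat_lit 0x8585)) (.leaf (nat_lit 0x0))) (.node (.leaf (nat_lit 0x5678b345678b1345678b345678b345678b345678b345678b345678b345678b34)) (.leaf (nat_lit 0x0))))) (.node (.node (.node (.leaf (nat_lit 0x6464)) (.leaf (nat_lit 0x0))) (.node (.leaf (nat_lit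 0x43b876543b876543b8765431b876543b876543b876543b876543b876543b8765d)) (.leaf (nat_lit 0x0)))) (.node (.node (.leaf (nat_lit 0xaa)) (.leaf (nat_lit 0x0))) (.node (.leaf (nat_lit 0xb876543b876543b876543b876543b876543b876543b8765431b876543b876543)) (.leaf (nat_lit 0x0))))))))) (.node (.node (.node (.node (.node (.node (.node (.leaf (nat_lit 0x2424)) (.leaf (nat_lit 0xb876543b876543b876543b8765431b876543b876543b876543b876543b876543))) (.node (.leaf (nat_lit 0xa7a7)) (.leaf (nat_lit 0x0)))) (.node (.node (.leaf (nat_lit 0x343434)) (.leaf (nat_lit 0x0))) (.node (.leaf (nat_lit 0xc7c7d)) (.leaf (nat_lit 0x0))))) (.node (.node (.node (.leaf (nat_lit 0x4242)) (.leaf (nat_lit 0x6543b876543b876543b876543b8765431b876543b876543b876543b876543b87))) (.node (.leaf (nat_lit 0x76543b876543b876543b876543b876543b8765431b876543b876543b876543b8)) (.leaf (nat_lit 0x0)))) (.node (.node (.leaf (nat_lit 0xcc)) (.leaf (nat_lit 0x0))) (.node (.leaf (nat_lit 0x7171d)) (.leaf (nat_lit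 0x0)))))) (.node (.node (.node (.node (.leaf (nat_lit 0x1919)) (.leaf (nat_lit 0x565656d))) (.node (.leaf (nat_lit 0x5678b345678b345678b345678b345678b345678b345678b345678b1345678b34)) (.leaf (nat_lit 0x0)))) (.node (.node (.leaf (nat_lit 0xb6b6b6)) (.leaf (nat_lit 0x0))) (.node (.leaf (nat_lit 0x56cb6876456cb6876456cb6876456cb6876456cb6876456cb6876456cb6876456cb6876456cb6876456cb68764)) (.leaf (nat_lit 0x0))))) (.node (.node (.node (.leaf (nat_lit 0x5757)) (.leaf (nat_lit 0x45678b345678b345678b345678b345678b1345678b345678b345678b345678b3))) (.node (.leaf (nat_lit 0x6cb6876456cb6876456cb6876456cb6876456cb6876456cb6876456cb6876456cb6876456cb6876456cb687645)) (.leaf (nat_lit 0x0)))) (.node (.node (.leaf (nat_lit 0x9494)) (.leaf (nat_lit 0x0))) (.node (.leaf (nat_lit 0xb345678b345678b345678b345678b345678b1345678b345678b345678b345678)) (.leaf (nat_lit 0x0))))))) (.node (.node (.node (.node (.node (.leaf (nat_lit 0x2c2c)) (.leaf (nat_lit 0x767676d))) (.node (.leaf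 (nat_lit 0xbcbcbc)) (.leaf (nat_lit 0x0)))) (.node (.node (.leaf (nat_lit 0x7979)) (.leaf (nat_lit 0x0))) (.node (.leaf (nat_lit 0x76543b876543b876543b876543b876543b876543b876543b876543b8765431b8)) (.leaf (nat_lit 0x0))))) (.node (.node (.node (.leaf (nat_lit 0x4c4c)) (.leaf (nat_lit 0x45678b345678b345678b1345678b345678b345678b345678b345678b345678b3))) (.node (.leaf (nat_lit 0xc1c1d)) (.leaf (nat_lit 0x0)))) (.node (.node (.leaf (nat_lit 0xcaca)) (.leaf (nat_lit 0x0))) (.node (.leaf (nat_lit 0x876543b876543b876543b876543b8765431b876543b876543b876543b876543b)) (.leaf (nat_lit 0x0)))))) (.node (.node (.node (.node (.leaf (nat_lit 0x3737)) (.leaf (nat_lit 0x6c6cd))) (.node (.leaf (nat_lit 0x5678b345678b345678b345678b345678b345678b345678b345678b345678b134)) (.leaf (nat_lit 0x0)))) (.node (.node (.leaf (nat_lit 0x8383)) (.leaf (nat_lit 0x0))) (.node (.leaf (nat_lit 0xb345678b345678b345678b345678b345678b345678b1345678b345678b345678)) (.leaf (nat_lit 0x0))))) (.node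 (.node (.node (.leaf (nat_lit 0x6262)) (.leaf (nat_lit 0x0))) (.node (.leaf (nat_lit 0x8b345678b345678b345678b345678b345678b345678b345678b345678b134567)) (.leaf (nat_lit 0x0)))) (.node (.node (.leaf (nat_lit 0xc7c7)) (.leaf (nat_lit 0x0))) (.node (.leaf (nat_lit 0x8b345678b345678b345678b345678b345678b345678b1345678b345678b34567)) (.leaf (nat_lit 0x0)))))))) (.node (.node (.node (.node (.node (.node (.leaf (nat_lit 0x2828)) (.leaf (nat_lit 0x345678b345678b345678b345678b345678b345678b1345678b345678b345678b))) (.node (.leaf (nat_lit 0x565656)) (.leaf (nat_lit 0x0)))) (.node (.node (.leaf (nat_lit 0x7373)) (.leaf (nat_lit 0x0))) (.node (.leaf (nat_lit 0x6464d)) (.leaf (nat_lit 0x0))))) (.node (.node (.node (.leaf (nat_lit 0x4848)) (.leaf (nat_lit 0x5678b1345678b345678b345678b345678b345678b345678b345678b345678b34))) (.node (.leaf (nat_lit 0xb4b4d)) (.leaf (nat_lit 0x0)))) (.node (.node (.leaf (nat_lit 0xc5c5)) (.leaf (nat_lit 0x0))) (.node (.leaf (nat_lit 0x8b345678b345678b1345678b345678b345678b345678b345678b345678b34567))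 (.leaf (nat_lit 0x0)))))) (.node (.node (.node (.node (.leaf (nat_lit 0x33)) (.leaf (nat_lit 0x678b345678b1345678b345678b345678b345678b345678b345678b345678b345))) (.node (.leaf (nat_lit 0xabab)) (.leaf (nat_lit 0x0)))) (.node (.node (.leaf (nat_lit 0x7171)) (.leaf (nat_lit 0x0))) (.node (.leaf (nat_lit 0xb345678b345678b345678b1345678b345678b345678b345678b345678b345678)) (.leaf (nat_lit 0x0))))) (.node (.node (.node (.leaf (nat_lit 0x5b5b)) (.leaf (nat_lit 0x0))) (.node (.leaf (nat_lit 0x86bc6546786bc6546786bc6546786bc6546786bc6546786bc6546786bc6546786bc6546786bc6546786bc65467)) (.leaf (nat_lit 0x0)))) (.node (.node (.leaf (nat_lit 0x989898)) (.leaf (nat_lit 0x0))) (.node (.leaf (nat_lit 0x876543b8765431b876543b876543b876543b876543b876543b876543b876543b)) (.leaf (nat_lit 0x0))))))) (.node (.node (.node (.node (.node (.leaf (nat_lit 0x1515)) (.leaf (nat_lit 0x3b876543b876543b876543b876543b876543b876543b876543b8765431b87654))) (.node (.leaf (nat_lit 0x9b9b))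 (.leaf (nat_lit 0x0)))) (.node (.node (.leaf (nat_lit 0xb2b2)) (.leaf (nat_lit 0x0))) (.node (.leaf (nat_lit 0xb8765431b876543b876543b876543b876543b876543b876543b876543b876543)) (.leaf (nat_lit 0x0))))) (.node (.node (.node (.leaf (nat_lit 0x55)) (.leaf (nat_lit 0x345678b345678b345678b345678b345678b345678b345678b345678b345678b1))) (.node (.leaf (nat_lit 0xb345678b345678b345678b345678b345678b345678b345678b1345678b345678)) (.leaf (nat_lit 0x0)))) (.node (.node (.leaf (nat_lit 0xc1c1)) (.leaf (nat_lit 0x0))) (.node (.leaf (nat_lit 0x876543b876543b876543b876543b876543b8765431b876543b876543b876543b)) (.leaf (nat_lit 0x0)))))) (.node (.node (.node (.node (.leaf (nat_lit 0x3b3b)) (.leaf (nat_lit 0x45678b345678b345678b345678b345678b345678b345678b1345678b345678b3))) (.node (.leaf (nat_lit 0x6786bc6546786bc6546786bc6546786bc6546786bc6546786bc6546786bc6546786bc6546786bc6546786bc654)) (.leaf (nat_lit 0x0)))) (.node (.node (.leaf (nat_lit 0x878787)) (.leaf (nat_lit 0x0)))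 (.node (.leaf (nat_lit 0x43b876543b876543b876543b876543b876543b876543b876543b8765431b8765)) (.leaf (nat_lit 0x0))))) (.node (.node (.node (.leaf (nat_lit 0x6868)) (.leaf (nat_lit 0x0))) (.node (.leaf (nat_lit 0x3636d)) (.leaf (nat_lit 0x0)))) (.node (.node (.leaf (nat_lit 0xa3a3)) (.leaf (nat_lit 0x0))) (.node (.leaf (nat_lit 0x6543b8765431b876543b876543b876543b876543b876543b876543b876543b87)) (.leaf (nat_lit 0x0)))))))))) (.node (.node (.node (.node (.node (.node (.node (.node (.leaf (nat_lit 0x22)) (.leaf (nat_lit 0x6543b876543b876543b876543b876543b876543b876543b8765431b876543b87))) (.node (.leaf (nat_lit 0xa6a6)) (.leaf (nat_lit 0x0)))) (.node (.node (.leaf (nat_lit 0x6c6c)) (.leaf (nat_lit 0x0))) (.node (.leaf (nat_lit 0x4747d)) (.leaf (nat_lit 0x0))))) (.node (.node (.node (.leaf (nat_lit 0x44)) (.leaf (nat_lit 0x45678b345678b345678b345678b1345678b345678b345678b345678b345678b3))) (.node (.leaf (nat_lit 0xbc6546786bc6546786bc6546786bc6546786bc6546786bc6546786bc6546786bc6546786bc6546786bc6546786))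 (.leaf (nat_lit 0x0)))) (.node (.node (.leaf (nat_lit 0xb7b7)) (.leaf (nat_lit 0x0))) (.node (.leaf (nat_lit 0x7272d)) (.leaf (nat_lit 0x0)))))) (.node (.node (.node (.node (.leaf (nat_lit 0x1818)) (.leaf (nat_lit 0x878787d))) (.node (.leaf (nat_lit 0x2626d)) (.leaf (nat_lit 0x0)))) (.node (.node (.leaf (nat_lit 0xb5b5)) (.leaf (nat_lit 0x0))) (.node (.leaf (nat_lit 0x678b345678b345678b345678b345678b345678b345678b1345678b345678b345)) (.leaf (nat_lit 0x0))))) (.node (.node (.node (.leaf (nat_lit 0x545454)) (.leaf (nat_lit 0x345678b345678b345678b345678b1345678b345678b345678b345678b345678b))) (.node (.leaf (nat_lit 0xb6876456cb6876456cb6876456cb6876456cb6876456cb6876456cb6876456cb6876456cb6876456cb6876456c)) (.leaf (nat_lit 0x0)))) (.node (.node (.leaf (nat_lit 0x9393)) (.leaf (nat_lit 0x0))) (.node (.leaf (nat_lit 0xb345678b345678b1345678b345678b345678b345678b345678b345678b345678)) (.leaf (nat_lit 0x0))))))) (.node (.node (.node (.node (.node (.leaf (nat_lit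 0x2b2b)) (.leaf (nat_lit 0x6543b876543b876543b8765431b876543b876543b876543b876543b876543b87))) (.node (.leaf (nat_lit 0x7b7b)) (.leaf (nat_lit 0x0)))) (.node (.node (.leaf (nat_lit 0x767676)) (.leaf (nat_lit 0x0))) (.node (.leaf (nat_lit 0xb876543b876543b876543b876543b8765431b876543b876543b876543b876543)) (.leaf (nat_lit 0x0))))) (.node (.node (.node (.leaf (nat_lit 0x4b4b)) (.leaf (nat_lit 0x76543b876543b876543b8765431b876543b876543b876543b876543b876543b8))) (.node (.leaf (nat_lit 0xb1b1d)) (.leaf (nat_lit 0x0)))) (.node (.node (.leaf (nat_lit 0xc9c9)) (.leaf (nat_lit 0x0))) (.node (.leaf (nat_lit 0x876543b876543b876543b8765431b876543b876543b876543b876543b876543b)) (.leaf (nat_lit 0x0)))))) (.node (.node (.node (.node (.leaf (nat_lit 0x3636)) (.leaf (nat_lit 0x5b5bd))) (.node (.leaf (nat_lit 0x678b345678b345678b345678b345678b345678b345678b345678b1345678b345)) (.leaf (nat_lit 0x0)))) (.node (.node (.leaf (nat_lit 0x8282)) (.leaf (nat_lit 0x0))) (.node (.leaf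 (nat_lit 0x5678b345678b345678b345678b345678b1345678b345678b345678b345678b34)) (.leaf (nat_lit 0x0))))) (.node (.node (.node (.leaf (nat_lit 0x66)) (.leaf (nat_lit 0x0))) (.node (.leaf (nat_lit 0x65431b876543b876543b876543b876543b876543b876543b876543b876543b87)) (.leaf (nat_lit 0x0)))) (.node (.node (.leaf (nat_lit 0x6b6b6b)) (.leaf (nat_lit 0x0))) (.node (.leaf (nat_lit 0x678b345678b345678b345678b345678b1345678b345678b345678b345678b345)) (.leaf (nat_lit 0x0)))))))) (.node (.node (.node (.node (.node (.node (.leaf (nat_lit 0x2727)) (.leaf (nat_lit 0x5678b345678b345678b345678b1345678b345678b345678b345678b345678b34))) (.node (.leaf (nat_lit 0xacac)) (.leaf (nat_lit 0x0)))) (.node (.node (.leaf (nat_lit 0x7272)) (.leaf (nat_lit 0x0))) (.node (.leaf (nat_lit 0x4646d)) (.leaf (nat_lit 0x0))))) (.node (.node (.node (.leaf (nat_lit 0x4747)) (.leaf (nat_lit 0x678b345678b345678b1345678b345678b345678b345678b345678b345678b345))) (.node (.leaf (nat_lit 0xcb6876456cb6876456cb6876456cb6876456cb6876456cb6876456cb6876456cb6876456cb6876456cb6876456d))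 (.leaf (nat_lit 0x0)))) (.node (.node (.leaf (nat_lit 0xc4c4)) (.leaf (nat_lit 0x0))) (.node (.leaf (nat_lit 0x6543b876543b876543b876543b876543b8765431b876543b876543b876543b87)) (.leaf (nat_lit 0x0)))))) (.node (.node (.node (.node (.leaf (nat_lit 0x1c1c)) (.leaf (nat_lit 0x345678b345678b1345678b345678b345678b345678b345678b345678b345678b))) (.node (.leaf (nat_lit 0x121212d)) (.leaf (nat_lit 0x0)))) (.node (.node (.leaf (nat_lit 0xbaba)) (.leaf (nat_lit 0x0))) (.node (.leaf (nat_lit 0x678b345678b345678b345678b345678b345678b1345678b345678b345678b345)) (.leaf (nat_lit 0x0))))) (.node (.node (.node (.leaf (nat_lit 0x5a5a)) (.leaf (nat_lit 0x0))) (.node (.leaf (nat_lit 0x6876456cb6876456cb6876456cb6876456cb6876456cb6876456cb6876456cb6876456cb6876456cb6876456cb)) (.leaf (nat_lit 0x0)))) (.node (.node (.leaf (nat_lit 0x9797)) (.leaf (nat_lit 0x0))) (.node (.leaf (nat_lit 0x678b1345678b345678b345678b345678b345678b345678b345678b345678b345)) (.leaf (nat_lit 0x0)))))))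 (.node (.node (.node (.node (.node (.leaf (nat_lit 0x1414)) (.leaf (nat_lit 0x787878d))) (.node (.leaf (nat_lit 0x9a9a9a)) (.leaf (nat_lit 0x0)))) (.node (.node (.leaf (nat_lit 0xbb)) (.leaf (nat_lit 0x0))) (.node (.leaf (nat_lit 0xcb6876456cb6876456cb6876456cb6876456cb6876456cb6876456cb6876456cb6876456cb6876456cb6876456)) (.leaf (nat_lit 0x0))))) (.node (.node (.node (.leaf (nat_lit 0x4141)) (.leaf (nat_lit 0x345678b345678b345678b345678b345678b1345678b345678b345678b345678b))) (.node (.leaf (nat_lit 0x345678b345678b345678b345678b345678b345678b345678b345678b1345678b)) (.leaf (nat_lit 0x0)))) (.node (.node (.leaf (nat_lit 0x8181)) (.leaf (nat_lit 0x0))) (.node (.leaf (nat_lit 0x8b345678b1345678b345678b345678b345678b345678b345678b345678b34567)) (.leaf (nat_lit 0x0)))))) (.node (.node (.node (.node (.leaf (nat_lit 0x3a3a)) (.leaf (nat_lit 0xb6b6b6d))) (.node (.leaf (nat_lit 0x7b7bd)) (.leaf (nat_lit 0x0)))) (.node (.node (.leaf (nat_lit 0x8686)) (.leaf (nat_lit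 0x0))) (.node (.leaf (nat_lit 0x6456cb6876456cb6876456cb6876456cb6876456cb6876456cb6876456cb6876456cb6876456cb6876456cb687)) (.leaf (nat_lit 0x0))))) (.node (.node (.node (.leaf (nat_lit 0x656565)) (.leaf (nat_lit 0x0))) (.node (.leaf (nat_lit 0x2525d)) (.leaf (nat_lit 0x0)))) (.node (.node (.leaf (nat_lit 0xa2a2)) (.leaf (nat_lit 0x0))) (.node (.leaf (nat_lit 0x5678b345678b345678b345678b345678b345678b1345678b345678b345678b34)) (.leaf (nat_lit 0x0))))))))) (.node (.node (.node (.node (.node (.node (.node (.leaf (nat_lit 0x2525)) (.leaf (nat_lit 0xb345678b1345678b345678b345678b345678b345678b345678b345678b345678))) (.node (.leaf (nat_lit 0xa8a8)) (.leaf (nat_lit 0x0)))) (.node (.node (.leaf (nat_lit 0x6161)) (.leaf (nat_lit 0x0))) (.node (.leaf (nat_lit 0x5151d)) (.leaf (nat_lit 0x0))))) (.node (.node (.node (.leaf (nat_lit 0x434343)) (.leaf (nat_lit 0x76543b876543b876543b876543b876543b876543b8765431b876543b876543b8))) (.node (.leaf (nat_lit 0x78b345678b345678b345678b1345678b345678b345678b345678b345678b3456))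 (.leaf (nat_lit 0x0)))) (.node (.node (.leaf (nat_lit 0xc2c2)) (.leaf (nat_lit 0x0))) (.node (.leaf (nat_lit 0x8585d)) (.leaf (nat_lit 0x0)))))) (.node (.node (.node (.node (.leaf (nat_lit 0x1a1a)) (.leaf (nat_lit 0x545454d))) (.node (.leaf (nat_lit 0x876543b876543b876543b876543b876543b876543b8765431b876543b876543b)) (.leaf (nat_lit 0x0)))) (.node (.node (.leaf (nat_lit 0xb8b8)) (.leaf (nat_lit 0x0))) (.node (.leaf (nat_lit 0xb876543b8765431b876543b876543b876543b876543b876543b876543b876543)) (.leaf (nat_lit 0x0))))) (.node (.node (.node (.leaf (nat_lit 0x5858)) (.leaf (nat_lit 0x46786bc6546786bc6546786bc6546786bc6546786bc6546786bc6546786bc6546786bc6546786bc6546786bc65))) (.node (.leaf (nat_lit 0x765431b876543b876543b876543b876543b876543b876543b876543b876543b8)) (.leaf (nat_lit 0x0)))) (.node (.node (.leaf (nat_lit 0x9595)) (.leaf (nat_lit 0x0))) (.node (.leaf (nat_lit 0x5678b345678b345678b345678b345678b345678b345678b1345678b345678b34)) (.leaf (nat_lit 0x0)))))))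 (.node (.node (.node (.node (.node (.leaf (nat_lit 0x11)) (.leaf (nat_lit 0x454545d))) (.node (.leaf (nat_lit 0x898989)) (.leaf (nat_lit 0x0)))) (.node (.node (.leaf (nat_lit 0x7a7a)) (.leaf (nat_lit 0x0))) (.node (.leaf (nat_lit 0x45678b345678b345678b345678b345678b345678b345678b345678b345678b13)) (.leaf (nat_lit 0x0))))) (.node (.node (.node (.leaf (nat_lit 0x212121)) (.leaf (nat_lit 0x345678b345678b345678b345678b345678b345678b345678b1345678b345678b))) (.node (.leaf (nat_lit 0x6363d)) (.leaf (nat_lit 0x0)))) (.node (.node (.leaf (nat_lit 0xcbcbcb)) (.leaf (nat_lit 0x0))) (.node (.leaf (nat_lit 0x8b1345678b345678b345678b345678b345678b345678b345678b345678b34567)) (.leaf (nat_lit 0x0)))))) (.node (.node (.node (.node (.leaf (nat_lit 0x3838)) (.leaf (nat_lit 0x3b3bd))) (.node (.leaf (nat_lit 0x546786bc6546786bc6546786bc6546786bc6546786bc6546786bc6546786bc6546786bc6546786bc6546786bc6)) (.leaf (nat_lit 0x0)))) (.node (.node (.leaf (nat_lit 0x8484)) (.leaf (nat_lit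 0x0))) (.node (.leaf (nat_lit 0x43b876543b876543b876543b876543b876543b876543b8765431b876543b8765)) (.leaf (nat_lit 0x0))))) (.node (.node (.node (.leaf (nat_lit 0x6363)) (.leaf (nat_lit 0x0))) (.node (.leaf (nat_lit 0x876543b876543b876543b876543b876543b876543b876543b8765431b876543b)) (.leaf (nat_lit 0x0)))) (.node (.node (.leaf (nat_lit 0x9191)) (.leaf (nat_lit 0x0))) (.node (.leaf (nat_lit 0x8765431b876543b876543b876543b876543b876543b876543b876543b876543b)) (.leaf (nat_lit 0x0)))))))) (.node (.node (.node (.node (.node (.node (.leaf (nat_lit 0x2929)) (.leaf (nat_lit 0x543b876543b876543b876543b876543b876543b876543b8765431b876543b876))) (.node (.leaf (nat_lit 0xa1a1)) (.leaf (nat_lit 0x0)))) (.node (.node (.leaf (nat_lit 0x7474)) (.leaf (nat_lit 0x0))) (.node (.leaf (nat_lit 0x78b345678b345678b345678b345678b345678b345678b345678b1345678b3456)) (.leaf (nat_lit 0x0))))) (.node (.node (.node (.leaf (nat_lit 0x4949)) (.leaf (nat_lit 0x76543b8765431b876543b876543b876543b876543b876543b876543b876543b8)))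 (.node (.leaf (nat_lit 0xb2b2d)) (.leaf (nat_lit 0x0)))) (.node (.node (.leaf (nat_lit 0xc6c6)) (.leaf (nat_lit 0x0))) (.node (.leaf (nat_lit 0x8b345678b345678b345678b345678b345678b345678b345678b1345678b34567)) (.leaf (nat_lit 0x0)))))) (.node (.node (.node (.node (.leaf (nat_lit 0x323232)) (.leaf (nat_lit 0x6543b876543b876543b876543b876543b876543b8765431b876543b876543b87))) (.node (.leaf (nat_lit 0xb345678b345678b345678b345678b345678b345678b345678b345678b1345678)) (.leaf (nat_lit 0x0)))) (.node (.node (.leaf (nat_lit 0xb1b1)) (.leaf (nat_lit 0x0))) (.node (.leaf (nat_lit 0x78b1345678b345678b345678b345678b345678b345678b345678b345678b3456)) (.leaf (nat_lit 0x0))))) (.node (.node (.node (.leaf (nat_lit 0x5c5c)) (.leaf (nat_lit 0x0))) (.node (.leaf (nat_lit 0xb1345678b345678b345678b345678b345678b345678b345678b345678b345678)) (.leaf (nat_lit 0x0)))) (.node (.node (.leaf (nat_lit 0x9c9c)) (.leaf (nat_lit 0x0))) (.node (.leaf (nat_lit 0x8b345678b345678b345678b345678b345678b1345678b345678b345678b34567))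 (.leaf (nat_lit 0x0))))))) (.node (.node (.node (.node (.node (.leaf (nat_lit 0x1616)) (.leaf (nat_lit 0x3535d))) (.node (.leaf (nat_lit 0x1313)) (.leaf (nat_lit 0x0)))) (.node (.node (.leaf (nat_lit 0xb3b3)) (.leaf (nat_lit 0x0))) (.node (.leaf (nat_lit 0xc6546786bc6546786bc6546786bc6546786bc6546786bc6546786bc6546786bc6546786bc6546786bc6546786b)) (.leaf (nat_lit 0x0))))) (.node (.node (.node (.leaf (nat_lit 0x5252)) (.leaf (nat_lit 0x6543b876543b8765431b876543b876543b876543b876543b876543b876543b87))) (.node (.leaf (nat_lit 0x543b876543b876543b876543b876543b876543b876543b876543b8765431b876)) (.leaf (nat_lit 0x0)))) (.node (.node (.leaf (nat_lit 0x99)) (.leaf (nat_lit 0x0))) (.node (.leaf (nat_lit 0x8b345678b345678b345678b345678b1345678b345678b345678b345678b34567)) (.leaf (nat_lit 0x0)))))) (.node (.node (.node (.node (.leaf (nat_lit 0x3c3c)) (.leaf (nat_lit 0x8b345678b345678b345678b1345678b345678b345678b345678b345678b34567))) (.node (.leaf (nat_lit 0x78b345678b345678b345678b345678b345678b345678b345678b345678b13456))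 (.leaf (nat_lit 0x0)))) (.node (.node (.leaf (nat_lit 0x8a8a)) (.leaf (nat_lit 0x0))) (.node (.leaf (nat_lit 0x9292d)) (.leaf (nat_lit 0x0))))) (.node (.node (.node (.leaf (nat_lit 0x6969)) (.leaf (nat_lit 0x0))) (.node (.leaf (nat_lit 0x6b6b6bd)) (.leaf (nat_lit 0x0)))) (.node (.node (.leaf (nat_lit 0xa4a4)) (.leaf (nat_lit 0x0))) (.node (.leaf (nat_lit 0x78b345678b1345678b345678b345678b345678b345678b345678b345678b3456)) (.leaf (nat_lit 0x0)))))))))))

/-- Side data. -/
noncomputable def ST : Tr := (.node (.node (.node (.node (.node (.leaf (nat_lit 0x38003c000c914002d40044cc0016a002268000b50011358005a800899c001e4002dd6001700022e300080001a258002a0008b1c001f4006748001780023c6000bc0011e40005e0008f2c002f000478e000fe0017eb000c000124100044000da2c001680048ce001080035a3000c70012f30006380097a00031c004bd60018e0025e700087000cc5800668009b8400254007456000c40026c200094000df580070000aa9c0052c007c16001b00029260014a001ef)) (.leaf (nat_lit 0x67f20023a4025ac400922015702004b500ab7000000006f898023240284000000001bea700a1200a6b000000006d298023980278c40054801574b002a400aba0001170066994005d802530001256012d420092b0096a000000006d91802394027992009e0013c800000000e501004938052c00000000392ca01244014b600000000e84180535005418000000039e4a014d401506800a6a00a83000000006d40c024a80278400000001b5470092a009e1)))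 (.node (.leaf (nat_lit 0x400472804f30000000036d14011ca013cc900c4e00cfc0000000067e1c024ac025a940194a019fa00000000cfd480491804f3ac0248c0279d400d5800e648004e40057e500353803c3ac0247802994e00d4801cbcb004e100a6400020700648a800bfc02454c004680192050017b0094630007b803609c002a4013d14000e000d84b0004a0094938003500668ac00288025210001d6019a0a0016900947480104006678800af402535400408019aa9001650094e)) (.leaf (nat_lit 0x0)))) (.node (.node (.leaf (nat_lit 0x480149002d5a80078401f156002800157a6001e000ec15801488055ca800de401f0900054a00b54a001f2007c35800a50055d880036403af160029a015668001e400eba50014c00559180079401efd00029c00b4ca000da007c05800478055b200034803af96002840156a9001d700ebd5001420055a1400da001f0520053200b508001f8004253800ab801869800800008f8e0056c005f28003ab003e048027d002841801ac001b752009ce00a8880039d00409)) (.leaf (nat_lit 0x3fce90000001fe75c000000ff37c0000007f9da0000003fd120000001fe86c000000ff43a0000007f9c60000003fce50000001b70c4000000db8680000006dbc500000036de38000001b6f2c000000db79e0000006da0900000036d060000001a8840000000d442c00000067eb200000033f5a80000019cffc000000ce804000000659c200000032cd60000001966a8000000cb34e000000659bf00000032cdf0000001955c8000000caae800000065578)))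 (.node (.leaf (nat_lit 0x500070002142c00250016b00000de00d90b000a8004f850007f801d4840060c012254001fc00c56b000a700873380079005d5ac005d0021c8c0045801754a002f500871280201005ca98015d00217d400ae8010be70061c0077620041c00524800000003640e0107001492a0083800a4940030e003bb2802180029116010c001488400b9200e390000000071ca80217002920e00eea0172210057b009281802bd8049420015ec024a1400af60125020041000c8b)) (.leaf (nat_lit 0x0))))) (.node (.node (.node (.leaf (nat_lit 0x4802800043a1801b4802e61200a78010c28004040061d38023f802bba00180801ded201018014a0700b1f00d9648041c804ea900180c03655001074013a8900b6000ce5000000006729c0218802569200c3c00e4c800480005763801a9803bd20011b00293d200bc601c8a60045400aaa4801a1803dc20009d801688a0039400f6c700138005a1500066803dbac0021c02aa4e0018e01d64b0013100aa84000df80758a8009a402a9cc0068401d5e80027500aa6)) (.leaf (nat_lit 0x31d0000000018e8400a4a20adf0000000056f800000002b7d8017f1418e900000000c748000000063a8002a6e82b70000000015b800000000adc2000000056e7000000031d7801459415c0c0000000ae06000000056e800000000c5c800000005a00000000032640000000192f00000000c5e0000000059f400000002c58000000014c000000000a428803c400674000000002984300fd1019d51009cd009e180000000673520273402786b00f11019d2)))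 (.node (.leaf (nat_lit 0x40034d803cca80243002a09601218015042006a600e575002718052d1c01aac01e05001254013c200000000cf7480495004f08000000036ad401254013c220074a00c8d4002c500488a801e68032156014d401506200c9c00e585804910052d8c032840395140124e014b04006bb00e521802778052f20013bc029794009de014bc7003a200e5a2001580052f9800ac00297d400560014be7003a300784500276005302001ae0036c14009e0013c870069200daf)) (.leaf (nat_lit 0x0)))) (.node (.node (.leaf (nat_lit 0x5802c38048b2001e50030a1400b180119670074c00c272802ac804662401d4002eece00b20010fe9004140066a4001808026e1c008d801a7d0005cc0122e9003c300c93300162804a5240088001b0d0002f8009ea700100003a73000c3001599c0090400e550006220096e90042a00635200249002d6a400de8010a500054c006206003960041340025c002c7a4018d801e84e011000142600000000d3a40044000509a4019ac01d3d000ab00119a9006f900c29)) (.leaf (nat_lit 0x0))) (.node (.leaf (nat_lit 0x4000c38026d9c0040400e98c00154009e67000fb006c04000b7804a294003bc0333500014a01286700071006bf500025804a210000cc0332d4000980128470006e00cca00004980555980024c02aace000c800f74a0004300aac08002d80756a80022402a88e0019601d5840013400aa330009a005519c0033801ed1400110015482000c000eab500092805501c006c803aa8a004b4015427001b6007b330012e002cf9c00cb801ddd000898013a26005d400d91))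 (.leaf (nat_lit 0x0)))))) (.node (.node (.node (.node (.leaf (nat_lit 0x5000e48075820003600052560014e001fa7000f200172080050000f71c001bc00550400094003a0000062001365000668009ba800300004914001700022e40004e0010c500059000872c002c800438a000ec0032cb0004e0010c50001a000c698001340041500015c00212b000ae00109500039800c614002ac00410c00156002088000ab00104380039000562c001c800418a0009a0031cb0004d0010550003a00057ac002c0004348000f40032ab000500010b)) (.leaf (nat_lit 0x1809cc009e100000000673120273002784a00f10019d02009cb809e080000000672d20272e02782500ef3019812009af809cb0000000058a88021b0032fe000000018ba20095a80cbf1c04ad4065f80026ba02c566010d80197f0809af00a421404d7805210401d920339e50135f0139600000000cc82404d7c04e59401de4033043013600139500000000cc7a404d8004e556026c00272aa00eca019ce0000000073b0000000033fd001136013d2100545008e8))) (.node (.leaf (nat_lit 0x28026a004f2a4013500279500071e01b627002a100a614000fe003c29c00ac4015f500074800e629004f1009693001d60036e2400adc0150d000402008107001580030c300071002119c00548016950003d600f7a90028b00ab12800ed8075aa40051802ab940028c0155c8000dd007bb38004b002d2280018c01ef16000840156070005f00eb758004880557980037003ad14002a20155a3001f7007be280155005311800e6c01e19000988014c670067c00db3))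 (.leaf (nat_lit 0x0)))) (.node (.node (.leaf (nat_lit 0x38028d8048c2400fb801a81000600009ba5004120069c5002c700486ac01e3001e81001424014d6b0074e00c865002ab804891c01d34030950011920142000000000df4500464805082402ee0037cce010fa0150ea00bb200e8d4804620054428019a001e790009b400b1aa006990079f5802c100544980102c03a316009b00150c80066500e8b50025b005429c0199803a28a0096a0156e90063300ebf3802488055c2800d7c03b00c0050001578a00360007c4)) (.leaf (nat_lit 0x7f9e10000003fcf78000001fe6e0000000ff3a20000007f9ba))) (.node (.leaf (nat_lit 0x400225005250800d6001de100090e013a490062800ce3300246004aca400d7001c950004fc00aea7001d40042030009c802d01c0073801ed50004de0154a60034b00e4340013d005261400d5c03908e0090c0149680062700d9218042f004e98000000036388010bc013a670085e009d348042f004e9a00186c01de54010b20149c400b8b00e4050042e805239c01868038fca010b8014909002e5004f640011a801d41c0061400ad0c003fc004805001560030f)) (.leaf (nat_lit 0x0))))) (.node (.node (.node (.leaf (nat_lit 0x380156002bfa000e1401e2120093e014cc70064900db6480263004f420019fc01ccd2011d2012d64006de00c534802a28047420019f801cd1201136013d270064800789480262802c02000e7001028e005f4009cc8003e1006af480284804981800ed801b252005b6009f2800230003aa3800c20015a98007fc008fce005560061c8003840042648024f002d4840178801ee52008d600b468003520042238013e0018598008f400d68e005ec009148003da0062c))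 (.leaf (nat_lit 0x32abf800000194aac000000b7e8c0000005bf490000002d347800000169a4400000022800000000113ff000000089ff000000041204000000209000000001048200000002b71800000018ec800a2c20ae0e0000000570700000002b830017b5418ec40000000c762000000063ae0028b402b81000000015c080000000c74a005182056fc00000002b7e000000019b080000000cd8c000000056f9002f7f031d1000000018e880000000adee005f03063a0))) (.node (.leaf (nat_lit 0x3802c580488280162c02441000f36018462008e300a5c1804718052e0000000036b0e011c6014b800000000e594804718052e0000000039314011c6014b88006aa007825004948052a2c024a40295060195601c9200000000e495004930052c8001e5c03228e0121e014fa00000000e824004878053e800000003a0d40121e014fa60069a00e8118026c80540200199c03a18c011900150200000000ded38046400540800000003a1d20119001502a008c800a81)) (.leaf (nat_lit 0x0)))) (.node (.node (.leaf (nat_lit 0x50010c8036320005dc013dd4001e800d8eb000a00094f3000798066a2c005d802531000430019a4a002da0094b2801ef80658a000be0024b0c0080e00d5aa005790092e5802bc804972001cac032c9400a840125a70073000c50400473004f18000000036814011cc013c6900be200dad000000006d69c02268029754017c601c9a00000000e4d4804738052a8000000032616011ce014aaa0067d00783400272802be2801ab801df96012360125e20078f00c92))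 (.leaf (nat_lit 0x0))) (.node (.leaf (nat_lit 0x73c140243002a0800000001cfc20090f00a7d00000000728880249802964a0124c014b200000000e4a2804948052a0c0162c0244000000001c7c30085c00a480000000071e8c021740291cc008fc0149a30035700e423801ad80201a00122c014ed200c5a00da230048c00959380243804e9080022402a88c0014a01286700308008ca180183804899c008e80323ca003000122870023b0069d40018400465240107802ee4c00624010fc90024200669)) (.leaf (nat_lit 0x0)))))))

/-- Hints for the words. -/
noncomputable def HT : Tr := (.node (.node (.node (.node (.node (.node (.node (.node (.node (.leaf (nat_lit 0x3f092)) (.leaf (nat_lit 0xa092))) (.node (.leaf (nat_lit 0x39)) (.leaf (nat_lit 0x0)))) (.node (.node (.leaf (nat_lit 0x1045)) (.leaf (nat_lit 0x0))) (.node (.leaf (nat_lit 0x100103b)) (.leaf (nat_lit 0x0))))) (.node (.node (.node (.leaf (nat_lit 0x2)) (.leaf (nat_lit 0x1a090))) (.node (.leaf (nat_lit 0x5093)) (.leaf (nat_lit 0x0)))) (.node (.node (.leaf (nat_lit 0x105f)) (.leaf (nat_lit 0x0))) (.node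 (.leaf (nat_lit 0x1000013)) (.leaf (nat_lit 0x0)))))) (.node (.node (.node (.node (.leaf (nat_lit 0x1006)) (.leaf (nat_lit 0x100102b))) (.node (.leaf (nat_lit 0x3d090)) (.leaf (nat_lit 0x0)))) (.node (.node (.leaf (nat_lit 0x2e)) (.leaf (nat_lit 0x0))) (.node (.leaf (nat_lit 0x1090)) (.leaf (nat_lit 0x0))))) (.node (.node (.node (.leaf (nat_lit 0x1c)) (.leaf (nat_lit 0x2a090))) (.node (.leaf (nat_lit 0x1e090)) (.leaf (nat_lit 0x0)))) (.node (.node (.leaf (nat_lit 0x14)) (.leaf (nat_lit 0x0))) (.node (.leaf (nat_lit 0x12090)) (.leaf (nat_lit 0x0))))))) (.node (.node (.node (.node (.node (.leaf (nat_lit 0x1015)) (.leaf (nat_lit 0x13092))) (.node (.leaf (nat_lit 0x104f)) (.leaf (nat_lit 0x0)))) (.node (.node (.leaf (nat_lit 0x36)) (.leaf (nat_lit 0x0))) (.node (.leaf (nat_lit 0x2a092)) (.leaf (nat_lit 0x0))))) (.node (.node (.node (.leaf (nat_lit 0x102d)) (.leaf (nat_lit 0x14090))) (.node (.leaf (nat_lit 0x1000022)) (.leaf (nat_lit 0x0)))) (.node (.node (.leaf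 (nat_lit 0x5f)) (.leaf (nat_lit 0x0))) (.node (.leaf (nat_lit 0x15092)) (.leaf (nat_lit 0x0)))))) (.node (.node (.node (.node (.leaf (nat_lit 0x101c)) (.leaf (nat_lit 0x100102f))) (.node (.leaf (nat_lit 0x3e092)) (.leaf (nat_lit 0x0)))) (.node (.node (.leaf (nat_lit 0x5b)) (.leaf (nat_lit 0x0))) (.node (.leaf (nat_lit 0x36092)) (.leaf (nat_lit 0x0))))) (.node (.node (.node (.leaf (nat_lit 0x4)) (.leaf (nat_lit 0x0))) (.node (.leaf (nat_lit 0x3c092)) (.leaf (nat_lit 0x0)))) (.node (.node (.leaf (nat_lit 0x1042)) (.leaf (nat_lit 0x0))) (.node (.leaf (nat_lit 0x27090)) (.leaf (nat_lit 0x0)))))))) (.node (.node (.node (.node (.node (.node (.leaf (nat_lit 0x1011)) (.leaf (nat_lit 0xe090))) (.node (.leaf (nat_lit 0x69)) (.leaf (nat_lit 0x0)))) (.node (.node (.leaf (nat_lit 0x4e)) (.leaf (nat_lit 0x0))) (.node (.leaf (nat_lit 0x1001083)) (.leaf (nat_lit 0x0))))) (.node (.node (.node (.leaf (nat_lit 0x1029)) (.leaf (nat_lit 0x20090))) (.node (.leaf (nat_lit 0x14092))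 (.leaf (nat_lit 0x0)))) (.node (.node (.leaf (nat_lit 0x23)) (.leaf (nat_lit 0x0))) (.node (.leaf (nat_lit 0x100002c)) (.leaf (nat_lit 0x0)))))) (.node (.node (.node (.node (.leaf (nat_lit 0x100a)) (.leaf (nat_lit 0x3091))) (.node (.leaf (nat_lit 0x38092)) (.leaf (nat_lit 0x0)))) (.node (.node (.leaf (nat_lit 0x6a)) (.leaf (nat_lit 0x0))) (.node (.leaf (nat_lit 0x2e090)) (.leaf (nat_lit 0x0))))) (.node (.node (.node (.leaf (nat_lit 0x1038)) (.leaf (nat_lit 0x0))) (.node (.leaf (nat_lit 0x3093)) (.leaf (nat_lit 0x0)))) (.node (.node (.leaf (nat_lit 0x44)) (.leaf (nat_lit 0x0))) (.node (.leaf (nat_lit 0x3092)) (.leaf (nat_lit 0x0))))))) (.node (.node (.node (.node (.node (.leaf (nat_lit 0x1001)) (.leaf (nat_lit 0x1000035))) (.node (.leaf (nat_lit 0x105e)) (.leaf (nat_lit 0x0)))) (.node (.node (.leaf (nat_lit 0x1053)) (.leaf (nat_lit 0x0))) (.node (.leaf (nat_lit 0x38090)) (.leaf (nat_lit 0x0))))) (.node (.node (.node (.leaf (nat_lit 0x100e)) (.leaf (nat_lit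 0x21092))) (.node (.leaf (nat_lit 0x5091)) (.leaf (nat_lit 0x0)))) (.node (.node (.leaf (nat_lit 0x1028)) (.leaf (nat_lit 0x0))) (.node (.leaf (nat_lit 0x93)) (.leaf (nat_lit 0x0)))))) (.node (.node (.node (.node (.leaf (nat_lit 0x1020)) (.leaf (nat_lit 0x100102e))) (.node (.leaf (nat_lit 0x101d092)) (.leaf (nat_lit 0x0)))) (.node (.node (.leaf (nat_lit 0x37)) (.leaf (nat_lit 0x0))) (.node (.leaf (nat_lit 0xd090)) (.leaf (nat_lit 0x0))))) (.node (.node (.node (.leaf (nat_lit 0x29)) (.leaf (nat_lit 0x0))) (.node (.leaf (nat_lit 0x1017092)) (.leaf (nat_lit 0x0)))) (.node (.node (.leaf (nat_lit 0x75)) (.leaf (nat_lit 0x0))) (.node (.leaf (nat_lit 0x31092)) (.leaf (nat_lit 0x0))))))))) (.node (.node (.node (.node (.node (.node (.node (.leaf (nat_lit 0x100f)) (.leaf (nat_lit 0x1c092))) (.node (.leaf (nat_lit 0x51)) (.leaf (nat_lit 0x0)))) (.node (.node (.leaf (nat_lit 0x101b)) (.leaf (nat_lit 0x0))) (.node (.leaf (nat_lit 0x1000053)) (.leaf (nat_lit 0x0))))) (.node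 (.node (.node (.leaf (nat_lit 0xf)) (.leaf (nat_lit 0x20092))) (.node (.leaf (nat_lit 0x28092)) (.leaf (nat_lit 0x0)))) (.node (.node (.leaf (nat_lit 0x8f)) (.leaf (nat_lit 0x0))) (.node (.leaf (nat_lit 0x1000006)) (.leaf (nat_lit 0x0)))))) (.node (.node (.node (.node (.leaf (nat_lit 0x1008)) (.leaf (nat_lit 0x1001035))) (.node (.leaf (nat_lit 0x37090)) (.leaf (nat_lit 0x0)))) (.node (.node (.leaf (nat_lit 0x46)) (.leaf (nat_lit 0x0))) (.node (.leaf (nat_lit 0x2091)) (.leaf (nat_lit 0x0))))) (.node (.node (.node (.leaf (nat_lit 0x1036)) (.leaf (nat_lit 0x23090))) (.node (.leaf (nat_lit 0x1091)) (.leaf (nat_lit 0x0)))) (.node (.node (.leaf (nat_lit 0x2c)) (.leaf (nat_lit 0x0))) (.node (.leaf (nat_lit 0x25090)) (.leaf (nat_lit 0x0))))))) (.node (.node (.node (.node (.node (.leaf (nat_lit 0x1017)) (.leaf (nat_lit 0x1000042))) (.node (.leaf (nat_lit 0x1083)) (.leaf (nat_lit 0x0)))) (.node (.node (.leaf (nat_lit 0x1050)) (.leaf (nat_lit 0x0))) (.node (.leaf (nat_lit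 0x3d092)) (.leaf (nat_lit 0x0))))) (.node (.node (.node (.leaf (nat_lit 0x102f)) (.leaf (nat_lit 0x15090))) (.node (.leaf (nat_lit 0x100000b)) (.leaf (nat_lit 0x0)))) (.node (.node (.leaf (nat_lit 0x77)) (.leaf (nat_lit 0x0))) (.node (.leaf (nat_lit 0x22092)) (.leaf (nat_lit 0x0)))))) (.node (.node (.node (.node (.leaf (nat_lit 0x101e)) (.leaf (nat_lit 0x1001047))) (.node (.leaf (nat_lit 0x3e090)) (.leaf (nat_lit 0x0)))) (.node (.node (.leaf (nat_lit 0x1f)) (.leaf (nat_lit 0x0))) (.node (.leaf (nat_lit 0x2c090)) (.leaf (nat_lit 0x0))))) (.node (.node (.node (.leaf (nat_lit 0x11)) (.leaf (nat_lit 0x0))) (.node (.leaf (nat_lit 0x3b090)) (.leaf (nat_lit 0x0)))) (.node (.node (.leaf (nat_lit 0x53)) (.leaf (nat_lit 0x0))) (.node (.leaf (nat_lit 0x2d090)) (.leaf (nat_lit 0x0)))))))) (.node (.node (.node (.node (.node (.node (.leaf (nat_lit 0x1013)) (.leaf (nat_lit 0x2b090))) (.node (.leaf (nat_lit 0x1035)) (.leaf (nat_lit 0x0)))) (.node (.node (.leaf (nat_lit 0x1e))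 (.leaf (nat_lit 0x0))) (.node (.leaf (nat_lit 0x1000029)) (.leaf (nat_lit 0x0))))) (.node (.node (.node (.leaf (nat_lit 0x102b)) (.leaf (nat_lit 0x6090))) (.node (.leaf (nat_lit 0x100002e)) (.leaf (nat_lit 0x0)))) (.node (.node (.leaf (nat_lit 0x3b)) (.leaf (nat_lit 0x0))) (.node (.leaf (nat_lit 0x11090)) (.leaf (nat_lit 0x0)))))) (.node (.node (.node (.node (.leaf (nat_lit 0x1a)) (.leaf (nat_lit 0xc090))) (.node (.leaf (nat_lit 0x1076)) (.leaf (nat_lit 0x0)))) (.node (.node (.leaf (nat_lit 0x6)) (.leaf (nat_lit 0x0))) (.node (.leaf (nat_lit 0x17090)) (.leaf (nat_lit 0x0))))) (.node (.node (.node (.leaf (nat_lit 0x103a)) (.leaf (nat_lit 0x0))) (.node (.leaf (nat_lit 0x4093)) (.leaf (nat_lit 0x0)))) (.node (.node (.leaf (nat_lit 0x5c)) (.leaf (nat_lit 0x0))) (.node (.leaf (nat_lit 0xd092)) (.leaf (nat_lit 0x0))))))) (.node (.node (.node (.node (.node (.leaf (nat_lit 0x1004)) (.leaf (nat_lit 0x39092))) (.node (.leaf (nat_lit 0x106a)) (.leaf (nat_lit 0x0))))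 (.node (.node (.leaf (nat_lit 0x16)) (.leaf (nat_lit 0x0))) (.node (.leaf (nat_lit 0x7092)) (.leaf (nat_lit 0x0))))) (.node (.node (.node (.leaf (nat_lit 0x34)) (.leaf (nat_lit 0x90))) (.node (.leaf (nat_lit 0x33090)) (.leaf (nat_lit 0x0)))) (.node (.node (.leaf (nat_lit 0xb)) (.leaf (nat_lit 0x0))) (.node (.leaf (nat_lit 0x29092)) (.leaf (nat_lit 0x0)))))) (.node (.node (.node (.node (.leaf (nat_lit 0x1022)) (.leaf (nat_lit 0x31090))) (.node (.leaf (nat_lit 0x6093)) (.leaf (nat_lit 0x0)))) (.node (.node (.leaf (nat_lit 0x4f)) (.leaf (nat_lit 0x0))) (.node (.leaf (nat_lit 0x3a092)) (.leaf (nat_lit 0x0))))) (.node (.node (.node (.leaf (nat_lit 0x1043)) (.leaf (nat_lit 0x0))) (.node (.leaf (nat_lit 0x100101d)) (.leaf (nat_lit 0x0)))) (.node (.node (.leaf (nat_lit 0x21)) (.leaf (nat_lit 0x0))) (.node (.leaf (nat_lit 0xb092)) (.leaf (nat_lit 0x0)))))))))) (.node (.node (.node (.node (.node (.node (.node (.node (.leaf (nat_lit 0xd)) (.leaf (nat_lit 0x35092)))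 (.node (.leaf (nat_lit 0x45)) (.leaf (nat_lit 0x0)))) (.node (.node (.leaf (nat_lit 0x1047)) (.leaf (nat_lit 0x0))) (.node (.leaf (nat_lit 0x100102a)) (.leaf (nat_lit 0x0))))) (.node (.node (.node (.leaf (nat_lit 0x27)) (.leaf (nat_lit 0x1c090))) (.node (.leaf (nat_lit 0x2093)) (.leaf (nat_lit 0x0)))) (.node (.node (.leaf (nat_lit 0x52)) (.leaf (nat_lit 0x0))) (.node (.leaf (nat_lit 0x1000012)) (.leaf (nat_lit 0x0)))))) (.node (.node (.node (.node (.leaf (nat_lit 0x1007)) (.leaf (nat_lit 0x100004f))) (.node (.leaf (nat_lit 0x1001011)) (.leaf (nat_lit 0x0)))) (.node (.node (.leaf (nat_lit 0x3a)) (.leaf (nat_lit 0x0))) (.node (.leaf (nat_lit 0x2f090)) (.leaf (nat_lit 0x0))))) (.node (.node (.node (.leaf (nat_lit 0x28)) (.leaf (nat_lit 0x1d090))) (.node (.leaf (nat_lit 0x8091)) (.leaf (nat_lit 0x0)))) (.node (.node (.leaf (nat_lit 0x20)) (.leaf (nat_lit 0x0))) (.node (.leaf (nat_lit 0x10090)) (.leaf (nat_lit 0x0))))))) (.node (.node (.node (.node (.node (.leaf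 (nat_lit 0x1016)) (.leaf (nat_lit 0x19092))) (.node (.leaf (nat_lit 0x1052)) (.leaf (nat_lit 0x0)))) (.node (.node (.leaf (nat_lit 0x42)) (.leaf (nat_lit 0x0))) (.node (.leaf (nat_lit 0x23092)) (.leaf (nat_lit 0x0))))) (.node (.node (.node (.leaf (nat_lit 0x102e)) (.leaf (nat_lit 0x1a092))) (.node (.leaf (nat_lit 0x100000a)) (.leaf (nat_lit 0x0)))) (.node (.node (.leaf (nat_lit 0x6b)) (.leaf (nat_lit 0x0))) (.node (.leaf (nat_lit 0x1b092)) (.leaf (nat_lit 0x0)))))) (.node (.node (.node (.node (.leaf (nat_lit 0x101d)) (.leaf (nat_lit 0x100103a))) (.node (.leaf (nat_lit 0x36090)) (.leaf (nat_lit 0x0)))) (.node (.node (.leaf (nat_lit 0x13)) (.leaf (nat_lit 0x0))) (.node (.leaf (nat_lit 0x22090)) (.leaf (nat_lit 0x0))))) (.node (.node (.node (.leaf (nat_lit 0x41)) (.leaf (nat_lit 0x0))) (.node (.leaf (nat_lit 0x4092)) (.leaf (nat_lit 0x0)))) (.node (.node (.leaf (nat_lit 0x1046)) (.leaf (nat_lit 0x0))) (.node (.leaf (nat_lit 0x21090)) (.leaf (nat_lit 0x0))))))))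 (.node (.node (.node (.node (.node (.node (.leaf (nat_lit 0x1012)) (.leaf (nat_lit 0x1b090))) (.node (.leaf (nat_lit 0x1077)) (.leaf (nat_lit 0x0)))) (.node (.node (.leaf (nat_lit 0x12)) (.leaf (nat_lit 0x0))) (.node (.leaf (nat_lit 0x1001029)) (.leaf (nat_lit 0x0))))) (.node (.node (.node (.leaf (nat_lit 0x102a)) (.leaf (nat_lit 0x13090))) (.node (.leaf (nat_lit 0x1000091)) (.leaf (nat_lit 0x0)))) (.node (.node (.leaf (nat_lit 0x2f)) (.leaf (nat_lit 0x0))) (.node (.leaf (nat_lit 0x27092)) (.leaf (nat_lit 0x0)))))) (.node (.node (.node (.node (.leaf (nat_lit 0x100b)) (.leaf (nat_lit 0xf090))) (.node (.leaf (nat_lit 0x1001001)) (.leaf (nat_lit 0x0)))) (.node (.node (.leaf (nat_lit 0x76)) (.leaf (nat_lit 0x0))) (.node (.leaf (nat_lit 0x28090)) (.leaf (nat_lit 0x0))))) (.node (.node (.node (.leaf (nat_lit 0x1039)) (.leaf (nat_lit 0x0))) (.node (.leaf (nat_lit 0x7091)) (.leaf (nat_lit 0x0)))) (.node (.node (.leaf (nat_lit 0x50)) (.leaf (nat_lit 0x0))) (.node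 (.leaf (nat_lit 0x5090)) (.leaf (nat_lit 0x0))))))) (.node (.node (.node (.node (.node (.leaf (nat_lit 0x1003)) (.leaf (nat_lit 0x100104f))) (.node (.leaf (nat_lit 0x1069)) (.leaf (nat_lit 0x0)))) (.node (.node (.leaf (nat_lit 0x82)) (.leaf (nat_lit 0x0))) (.node (.leaf (nat_lit 0x91)) (.leaf (nat_lit 0x0))))) (.node (.node (.node (.leaf (nat_lit 0x3)) (.leaf (nat_lit 0x24090))) (.node (.leaf (nat_lit 0x39090)) (.leaf (nat_lit 0x0)))) (.node (.node (.leaf (nat_lit 0x7)) (.leaf (nat_lit 0x0))) (.node (.leaf (nat_lit 0xa090)) (.leaf (nat_lit 0x0)))))) (.node (.node (.node (.node (.leaf (nat_lit 0x1021)) (.leaf (nat_lit 0x1000046))) (.node (.leaf (nat_lit 0x1001052)) (.leaf (nat_lit 0x0)))) (.node (.node (.leaf (nat_lit 0x43)) (.leaf (nat_lit 0x0))) (.node (.leaf (nat_lit 0x4091)) (.leaf (nat_lit 0x0))))) (.node (.node (.node (.leaf (nat_lit 0x35)) (.leaf (nat_lit 0x0))) (.node (.leaf (nat_lit 0x1001010)) (.leaf (nat_lit 0x0)))) (.node (.node (.leaf (nat_lit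 0x15)) (.leaf (nat_lit 0x0))) (.node (.leaf (nat_lit 0x29090)) (.leaf (nat_lit 0x0))))))))) (.node (.node (.node (.node (.node (.node (.node (.leaf (nat_lit 0x1010)) (.leaf (nat_lit 0x9090))) (.node (.leaf (nat_lit 0x5d)) (.leaf (nat_lit 0x0)))) (.node (.node (.leaf (nat_lit 0x5)) (.leaf (nat_lit 0x0))) (.node (.leaf (nat_lit 0x1000004)) (.leaf (nat_lit 0x0))))) (.node (.node (.node (.leaf (nat_lit 0x1b)) (.leaf (nat_lit 0x2f092))) (.node (.leaf (nat_lit 0x19090)) (.leaf (nat_lit 0x0)))) (.node (.node (.leaf (nat_lit 0x17)) (.leaf (nat_lit 0x0))) (.node (.leaf (nat_lit 0x1000037)) (.leaf (nat_lit 0x0)))))) (.node (.node (.node (.node (.leaf (nat_lit 0x1009)) (.leaf (nat_lit 0x1000028))) (.node (.leaf (nat_lit 0x30092)) (.leaf (nat_lit 0x0)))) (.node (.node (.leaf (nat_lit 0x5e)) (.leaf (nat_lit 0x0))) (.node (.leaf (nat_lit 0xe092)) (.leaf (nat_lit 0x0))))) (.node (.node (.node (.leaf (nat_lit 0x1037)) (.leaf (nat_lit 0x7093))) (.node (.leaf (nat_lit 0x5092))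 (.leaf (nat_lit 0x0)))) (.node (.node (.leaf (nat_lit 0x38)) (.leaf (nat_lit 0x0))) (.node (.leaf (nat_lit 0x30090)) (.leaf (nat_lit 0x0))))))) (.node (.node (.node (.node (.node (.leaf (nat_lit 0x0)) (.leaf (nat_lit 0x1001028))) (.node (.leaf (nat_lit 0x105c)) (.leaf (nat_lit 0x0)))) (.node (.node (.leaf (nat_lit 0x1051)) (.leaf (nat_lit 0x0))) (.node (.leaf (nat_lit 0x3f090)) (.leaf (nat_lit 0x0))))) (.node (.node (.node (.leaf (nat_lit 0x1)) (.leaf (nat_lit 0x32090))) (.node (.leaf (nat_lit 0x100001d)) (.leaf (nat_lit 0x0)))) (.node (.node (.leaf (nat_lit 0x83)) (.leaf (nat_lit 0x0))) (.node (.leaf (nat_lit 0x3090)) (.leaf (nat_lit 0x0)))))) (.node (.node (.node (.node (.leaf (nat_lit 0x101f)) (.leaf (nat_lit 0x1001022))) (.node (.leaf (nat_lit 0x8093)) (.leaf (nat_lit 0x0)))) (.node (.node (.leaf (nat_lit 0x2b)) (.leaf (nat_lit 0x0))) (.node (.leaf (nat_lit 0x33092)) (.leaf (nat_lit 0x0))))) (.node (.node (.node (.leaf (nat_lit 0x1d)) (.leaf (nat_lit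 0x0))) (.node (.leaf (nat_lit 0x37092)) (.leaf (nat_lit 0x0)))) (.node (.node (.leaf (nat_lit 0x8)) (.leaf (nat_lit 0x0))) (.node (.leaf (nat_lit 0x6092)) (.leaf (nat_lit 0x0)))))))) (.node (.node (.node (.node (.node (.node (.leaf (nat_lit 0x1014)) (.leaf (nat_lit 0x34092))) (.node (.leaf (nat_lit 0x9)) (.leaf (nat_lit 0x0)))) (.node (.node (.leaf (nat_lit 0x2a)) (.leaf (nat_lit 0x0))) (.node (.leaf (nat_lit 0x35090)) (.leaf (nat_lit 0x0))))) (.node (.node (.node (.leaf (nat_lit 0x102c)) (.leaf (nat_lit 0xc092))) (.node (.leaf (nat_lit 0x1000016)) (.leaf (nat_lit 0x0)))) (.node (.node (.leaf (nat_lit 0x47)) (.leaf (nat_lit 0x0))) (.node (.leaf (nat_lit 0x34090)) (.leaf (nat_lit 0x0)))))) (.node (.node (.node (.node (.leaf (nat_lit 0xe)) (.leaf (nat_lit 0x2e092))) (.node (.leaf (nat_lit 0x3a090)) (.leaf (nat_lit 0x0)))) (.node (.node (.leaf (nat_lit 0xa)) (.leaf (nat_lit 0x0))) (.node (.leaf (nat_lit 0x4090)) (.leaf (nat_lit 0x0))))) (.node (.node (.node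 (.leaf (nat_lit 0x103b)) (.leaf (nat_lit 0x0))) (.node (.leaf (nat_lit 0x2090)) (.leaf (nat_lit 0x0)))) (.node (.node (.leaf (nat_lit 0x106b)) (.leaf (nat_lit 0x0))) (.node (.leaf (nat_lit 0x26090)) (.leaf (nat_lit 0x0))))))) (.node (.node (.node (.node (.node (.leaf (nat_lit 0x1005)) (.leaf (nat_lit 0x100101c))) (.node (.leaf (nat_lit 0x1002)) (.leaf (nat_lit 0x0)))) (.node (.node (.leaf (nat_lit 0x22)) (.leaf (nat_lit 0x0))) (.node (.leaf (nat_lit 0x1093)) (.leaf (nat_lit 0x0))))) (.node (.node (.node (.leaf (nat_lit 0x10)) (.leaf (nat_lit 0x12092))) (.node (.leaf (nat_lit 0x3b092)) (.leaf (nat_lit 0x0)))) (.node (.node (.leaf (nat_lit 0x68)) (.leaf (nat_lit 0x0))) (.node (.leaf (nat_lit 0x1f090)) (.leaf (nat_lit 0x0)))))) (.node (.node (.node (.node (.leaf (nat_lit 0x1023)) (.leaf (nat_lit 0x18090))) (.node (.leaf (nat_lit 0x3c090)) (.leaf (nat_lit 0x0)))) (.node (.node (.leaf (nat_lit 0x105d)) (.leaf (nat_lit 0x0))) (.node (.leaf (nat_lit 0x1000014))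 (.leaf (nat_lit 0x0))))) (.node (.node (.node (.leaf (nat_lit 0x1044)) (.leaf (nat_lit 0x0))) (.node (.leaf (nat_lit 0x1001046)) (.leaf (nat_lit 0x0)))) (.node (.node (.leaf (nat_lit 0x2d)) (.leaf (nat_lit 0x0))) (.node (.leaf (nat_lit 0xb090)) (.leaf (nat_lit 0x0)))))))))))

/-- An entry of the table. -/
noncomputable def ent (u a : ℕ) : ℕ :=
  Nat.land
    (Nat.shiftRight
      (Nat.rec (motive := fun _ => ℕ) (Tr.get T 0) (fun m _ => Tr.get T (Nat.succ m))
        (Nat.shiftRight u 4))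
      (Nat.add (Nat.mul (Nat.land u 15) 756) (Nat.mul a 54)))
    18014398509481983

/-- The parent of a label. -/
noncomputable def pa (v : ℕ) : ℕ := ent v 13

/-- A word. -/
noncomputable def wd (k : ℕ) : ℕ := Tr.get WT k

/-- Side data. -/
noncomputable def side (k : ℕ) : ℕ :=
  Nat.land
    (Nat.shiftRight
      (Nat.rec (motive := fun _ => ℕ) (Tr.get ST 0) (fun m _ => Tr.get ST (Nat.succ m))
        (Nat.shiftRight k 5))
      (Nat.mul (Nat.land k 31) 45))
    35184372088831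

/-- A hint. -/
noncomputable def hint (k : ℕ) : ℕ := Tr.get HT k

/-- The letters of the subgroup. -/
def baseL : List ℕ := [2, 3, 4, 5, 6, 7, 8, 9, 10, 11, 0]

/-- Is a letter in the subgroup. -/
noncomputable def base (a : ℕ) : Bool := baseL.contains a

/-- The check of a row. -/
noncomputable def F : ℕ → Bool :=
  rowF ent pa wd side base 12 1048575 20 30 921599 4 15 8 91 1023 308 1048576 16777216

/-- Being alive. -/
noncomputable def al : ℕ → Bool := aliveB ent 12 1048576

end Cfsg.Agent.TcData.Fi24C.I920808
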