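import Mathlib
import Cfsg.Agent.TcData.Fi24C.I920808.Chk0
import Cfsg.Agent.TcData.Fi24C.I920808.Chk1
import Cfsg.Agent.TcData.Fi24C.I920808.Chk2
import Cfsg.Agent.TcData.Fi24C.I920808.Chk3
import Cfsg.Agent.TcData.Fi24C.I920808.Chk4
import Cfsg.Agent.TcData.Fi24C.I920808.Chk5
import Cfsg.Agent.TcData.Fi24C.I920808.Chk6
import Cfsg.Agent.TcData.Fi24C.I920808.Chk7
import Cfsg.Agent.TcData.Fi24C.I920808.Chk8
import Cfsg.Agent.TcData.Fi24C.I920808.Chk9
import Cfsg.Agent.TcData.Fi24C.I920808.Chk10
import Cfsg.Agent.TcData.Fi24C.I920808.Chk11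
import Cfsg.Agent.TcData.Fi24C.I920808.Chk12
import Cfsg.Agent.TcData.Fi24C.I920808.Chk13
import Cfsg.Agent.TcData.Fi24C.I920808.Chk14
import Cfsg.Agent.TcData.Fi24C.I920808.Chk15
import Cfsg.Agent.TcData.Fi24C.I920808.Chk16
import Cfsg.Agent.TcData.Fi24C.I920808.Chk17
import Cfsg.Agent.TcData.Fi24C.I920808.Chk18
import Cfsg.Agent.TcData.Fi24C.I920808.Chk19
import Cfsg.Agent.TcData.Fi24C.I920808.Chk20
import Cfsg.Agent.TcData.Fi24C.I920808.Chk21
import Cfsg.Agent.TcData.Fi24C.I920808.Chk22
import Cfsg.Agent.TcData.Fi24C.I920808.Chk23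
import Cfsg.Agent.TcData.Fi24C.I920808.Chk24
import Cfsg.Agent.TcData.Fi24C.I920808.Chk25
import Cfsg.Agent.TcData.Fi24C.I920808.Chk26
import Cfsg.Agent.TcData.Fi24C.I920808.Chk27
import Cfsg.Agent.TcData.Fi24C.I920808.Chk28
import Cfsg.Agent.TcData.Fi24C.I920808.Chk29
import Cfsg.Agent.TcData.Fi24C.I920808.Chk30
import Cfsg.Agent.TcData.Fi24C.I920808.Chk31
import Cfsg.Agent.TcData.Fi24C.I920808.Chk32
import Cfsg.Agent.TcData.Fi24C.I920808.Chk33
import Cfsg.Agent.TcData.Fi24C.I920808.Chk34
import Cfsg.Agent.TcData.Fi24C.I920808.Chk35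
import Cfsg.Agent.TcData.Fi24C.I920808.Chk36
import Cfsg.Agent.TcData.Fi24C.I920808.Chk37
import Cfsg.Agent.TcData.Fi24C.I920808.Chk38
import Cfsg.Agent.TcData.Fi24C.I920808.Chk39
import Cfsg.Agent.TcData.Fi24C.I920808.Chk40
import Cfsg.Agent.TcData.Fi24C.I920808.Chk41
import Cfsg.Agent.TcData.Fi24C.I920808.Chk42
import Cfsg.Agent.TcData.Fi24C.I920808.Chk43
import Cfsg.Agent.TcData.Fi24C.I920808.Chk44
import Cfsg.Agent.TcData.Fi24C.I920808.Chk45
import Cfsg.Agent.TcData.Fi24C.I920808.Chk46
import Cfsg.Agent.TcData.Fi24C.I920808.Chk47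
import Cfsg.Agent.TcData.Fi24C.I920808.Chk48
import Cfsg.Agent.TcData.Fi24C.I920808.Chk49
import Cfsg.Agent.TcData.Fi24C.I920808.Chk50
import Cfsg.Agent.TcData.Fi24C.I920808.Chk51
import Cfsg.Agent.TcData.Fi24C.I920808.Chk52
import Cfsg.Agent.TcData.Fi24C.I920808.Chk53
import Cfsg.Agent.TcData.Fi24C.I920808.Chk54
import Cfsg.Agent.TcData.Fi24C.I920808.Chk55
import Cfsg.Agent.TcData.Fi24C.I920808.Chk56
import Cfsg.Agent.TcData.Fi24C.I920808.Chk57
import Cfsg.Agent.TcData.Fi24C.I920808.Chk58
import Cfsg.Agent.TcData.Fi24C.I920808.Chk59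
import Cfsg.Agent.TcData.Fi24C.I920808.Chk60
import Cfsg.Agent.TcData.Fi24C.I920808.Chk61
import Cfsg.Agent.TcData.Fi24C.I920808.Chk62
import Cfsg.Agent.TcData.Fi24C.I920808.Chk63
import Cfsg.Agent.TcData.Fi24C.I920808.Chk64
import Cfsg.Agent.TcData.Fi24C.I920808.Chk65
import Cfsg.Agent.TcData.Fi24C.I920808.Chk66
import Cfsg.Agent.TcData.Fi24C.I920808.Chk67
import Cfsg.Agent.TcData.Fi24C.I920808.Chk68
import Cfsg.Agent.TcData.Fi24C.I920808.Chk69
import Cfsg.Agent.TcData.Fi24C.I920808.Chk70
import Cfsg.Agent.TcData.Fi24C.I920808.Chk71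
import Cfsg.Agent.TcData.Fi24C.I920808.Chk72
import Cfsg.Agent.TcData.Fi24C.I920808.Chk73
import Cfsg.Agent.TcData.Fi24C.I920808.Chk74
import Cfsg.Agent.TcData.Fi24C.I920808.Chk75
import Cfsg.Agent.TcData.Fi24C.I920808.Chk76
import Cfsg.Agent.TcData.Fi24C.I920808.Chk77
import Cfsg.Agent.TcData.Fi24C.I920808.Chk78
import Cfsg.Agent.TcData.Fi24C.I920808.Chk79
import Cfsg.Agent.TcData.Fi24C.I920808.Chk80
import Cfsg.Agent.TcData.Fi24C.I920808.Chk81
import Cfsg.Agent.TcData.Fi24C.I920808.Chk82
import Cfsg.Agent.TcData.Fi24C.I920808.Chk83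
import Cfsg.Agent.TcData.Fi24C.I920808.Chk84
import Cfsg.Agent.TcData.Fi24C.I920808.Chk85
import Cfsg.Agent.TcData.Fi24C.I920808.Chk86
import Cfsg.Agent.TcData.Fi24C.I920808.Chk87
import Cfsg.Agent.TcData.Fi24C.I920808.Chk88
import Cfsg.Agent.TcData.Fi24C.I920808.Chk89
import Cfsg.Agent.TcData.Fi24C.I920808.Chk90
import Cfsg.Agent.TcData.Fi24C.I920808.Chk91
import Cfsg.Agent.TcData.Fi24C.I920808.Chk92
import Cfsg.Agent.TcData.Fi24C.I920808.Chk93
import Cfsg.Agent.TcData.Fi24C.I920808.Chk94
import Cfsg.Agent.TcData.Fi24C.I920808.Chk95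
import Cfsg.Agent.TcData.Fi24C.I920808.Chk96
import Cfsg.Agent.TcData.Fi24C.I920808.Chk97
import Cfsg.Agent.TcData.Fi24C.I920808.Chk98
import Cfsg.Agent.TcData.Fi24C.I920808.Chk99
import Cfsg.Agent.TcData.Fi24C.I920808.Chk100
import Cfsg.Agent.TcData.Fi24C.I920808.Chk101
import Cfsg.Agent.TcData.Fi24C.I920808.Chk102
import Cfsg.Agent.TcData.Fi24C.I920808.Chk103
import Cfsg.Agent.TcData.Fi24C.I920808.Chk104
import Cfsg.Agent.TcData.Fi24C.I920808.Chk105
import Cfsg.Agent.TcData.Fi24C.I920808.Chk106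
import Cfsg.Agent.TcData.Fi24C.I920808.Chk107
import Cfsg.Agent.TcData.Fi24C.I920808.Chk108
import Cfsg.Agent.TcData.Fi24C.I920808.Chk109
import Cfsg.Agent.TcData.Fi24C.I920808.Chk110
import Cfsg.Agent.TcData.Fi24C.I920808.Chk111
import Cfsg.Agent.TcData.Fi24C.I920808.Chk112
import Cfsg.Agent.TcData.Fi24C.I920808.Chk113
import Cfsg.Agent.TcData.Fi24C.I920808.Chk114
import Cfsg.Agent.TcData.Fi24C.I920808.Chk115
import Cfsg.Agent.TcData.Fi24C.I920808.Chk116
import Cfsg.Agent.TcData.Fi24C.I920808.Chk117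
import Cfsg.Agent.TcData.Fi24C.I920808.Chk118
import Cfsg.Agent.TcData.Fi24C.I920808.Chk119
import Cfsg.Agent.TcData.Fi24C.I920808.Chk120
import Cfsg.Agent.TcData.Fi24C.I920808.Chk121
import Cfsg.Agent.TcData.Fi24C.I920808.Chk122
import Cfsg.Agent.TcData.Fi24C.I920808.Chk123
import Cfsg.Agent.TcData.Fi24C.I920808.Chk124
import Cfsg.Agent.TcData.Fi24C.I920808.Chk125
import Cfsg.Agent.TcData.Fi24C.I920808.Chk126
import Cfsg.Agent.TcData.Fi24C.I920808.Chk127
import Cfsg.Agent.TcData.Fi24C.I920808.Chk128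
import Cfsg.Agent.TcData.Fi24C.I920808.Chk129
import Cfsg.Agent.TcData.Fi24C.I920808.Chk130
import Cfsg.Agent.TcData.Fi24C.I920808.Chk131
import Cfsg.Agent.TcData.Fi24C.I920808.Chk132
import Cfsg.Agent.TcData.Fi24C.I920808.Chk133
import Cfsg.Agent.TcData.Fi24C.I920808.Chk134
import Cfsg.Agent.TcData.Fi24C.I920808.Chk135
import Cfsg.Agent.TcData.Fi24C.I920808.Chk136
import Cfsg.Agent.TcData.Fi24C.I920808.Chk137
import Cfsg.Agent.TcData.Fi24C.I920808.Chk138
import Cfsg.Agent.TcData.Fi24C.I920808.Chk139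
import Cfsg.Agent.TcData.Fi24C.I920808.Chk140
import Cfsg.Agent.TcData.Fi24C.I920808.Chk141
import Cfsg.Agent.TcData.Fi24C.I920808.Chk142
import Cfsg.Agent.TcData.Fi24C.I920808.Chk143
import Cfsg.Agent.TcData.Fi24C.I920808.Chk144
import Cfsg.Agent.TcData.Fi24C.I920808.Chk145
import Cfsg.Agent.TcData.Fi24C.I920808.Chk146
import Cfsg.Agent.TcData.Fi24C.I920808.Chk147
import Cfsg.Agent.TcData.Fi24C.I920808.Chk148
import Cfsg.Agent.TcData.Fi24C.I920808.Chk149
import Cfsg.Agent.TcData.Fi24C.I920808.Chk150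
import Cfsg.Agent.TcData.Fi24C.I920808.Chk151
import Cfsg.Agent.TcData.Fi24C.I920808.Chk152
import Cfsg.Agent.TcData.Fi24C.I920808.Chk153
import Cfsg.Agent.TcData.Fi24C.I920808.Chk154
import Cfsg.Agent.TcData.Fi24C.I920808.Chk155
import Cfsg.Agent.TcData.Fi24C.I920808.Chk156
import Cfsg.Agent.TcData.Fi24C.I920808.Chk157
import Cfsg.Agent.TcData.Fi24C.I920808.Chk158
import Cfsg.Agent.TcData.Fi24C.I920808.Chk159

set_option autoImplicit false
set_option Elab.async false
set_option maxRecDepth 100000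
set_option linter.all false

namespace Cfsg.Agent.TcData.Fi24C.I920808

open Cfsg.Spor Cfsg.Agent.Lib.TcFacts Cfsg.Agent.Lib.TcBits Cfsg.Agent.Lib.TcPres Cfsg.Agent.Lib.Fi24CP Cfsg.Agent.TcData.Fi24C

theorem c0 : Block F al 0 256 247 := b0

theorem c1 : Block F al 0 512 447 :=
  block_comb c0 b1 (Nat.zero_le _) (Nat.le_of_ble_eq_true rfl) rfl

theorem c2 : Block F al 0 768 695 :=
  block_comb c1 b2 (Nat.zero_le _) (Nat.le_of_ble_eq_true rfl) rfl

theorem c3 : Block F al 0 1024 936 :=
  block_comb c2 b3 (Nat.zero_le _) (Nat.le_of_ble_eq_true rfl) rfl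

theorem c4 : Block F al 0 1280 1163 :=
  block_comb c3 b4 (Nat.zero_le _) (Nat.le_of_ble_eq_true rfl) rfl

theorem c5 : Block F al 0 1536 1390 :=
  block_comb c4 b5 (Nat.zero_le _) (Nat.le_of_ble_eq_true rfl) rfl

theorem c6 : Block F al 0 1792 1618 :=
  block_comb c5 b6 (Nat.zero_le _) (Nat.le_of_ble_eq_true rfl) rfl

theorem c7 : Block F al 0 2048 1826 :=
  block_comb c6 b7 (Nat.zero_le _) (Nat.le_of_ble_eq_true rfl) rfl

theorem c8 : Block F al 0 2304 2069 :=
  block_comb c7 b8 (Nat.zero_le _) (Nat.le_of_ble_eq_true rfl) rfl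

theorem c9 : Block F al 0 2560 2277 :=
  block_comb c8 b9 (Nat.zero_le _) (Nat.le_of_ble_eq_true rfl) rfl

theorem c10 : Block F al 0 2816 2462 :=
  block_comb c9 b10 (Nat.zero_le _) (Nat.le_of_ble_eq_true rfl) rfl

theorem c11 : Block F al 0 3072 2707 :=
  block_comb c10 b11 (Nat.zero_le _) (Nat.le_of_ble_eq_true rfl) rfl

theorem c12 : Block F al 0 3328 2912 :=
  block_comb c11 b12 (Nat.zero_le _) (Nat.le_of_ble_eq_true rfl) rfl

theorem c13 : Block F al 0 3584 3138 :=
  block_comb c12 b13 (Nat.zero_le _) (Nat.le_of_ble_eq_true rfl) rfl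

theorem c14 : Block F al 0 3840 3320 :=
  block_comb c13 b14 (Nat.zero_le _) (Nat.le_of_ble_eq_true rfl) rfl

theorem c15 : Block F al 0 4096 3576 :=
  block_comb c14 b15 (Nat.zero_le _) (Nat.le_of_ble_eq_true rfl) rfl

theorem c16 : Block F al 0 4352 3832 :=
  block_comb c15 b16 (Nat.zero_le _) (Nat.le_of_ble_eq_true rfl) rfl

theorem c17 : Block F al 0 4608 4088 :=
  block_comb c16 b17 (Nat.zero_le _) (Nat.le_of_ble_eq_true rfl) rfl

theorem c18 : Block F al 0 4864 4344 :=
  block_comb c17 b18 (Nat.zero_le _) (Nat.le_of_ble_eq_true rfl) rfl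

theorem c19 : Block F al 0 5120 4595 :=
  block_comb c18 b19 (Nat.zero_le _) (Nat.le_of_ble_eq_true rfl) rfl

theorem c20 : Block F al 0 5376 4847 :=
  block_comb c19 b20 (Nat.zero_le _) (Nat.le_of_ble_eq_true rfl) rfl

theorem c21 : Block F al 0 5632 5103 :=
  block_comb c20 b21 (Nat.zero_le _) (Nat.le_of_ble_eq_true rfl) rfl

theorem c22 : Block F al 0 5888 5354 :=
  block_comb c21 b22 (Nat.zero_le _) (Nat.le_of_ble_eq_true rfl) rfl

theorem c23 : Block F al 0 6144 5610 :=
  block_comb c22 b23 (Nat.zero_le _) (Nat.le_of_ble_eq_true rfl) rfl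

theorem c24 : Block F al 0 6400 5862 :=
  block_comb c23 b24 (Nat.zero_le _) (Nat.le_of_ble_eq_true rfl) rfl

theorem c25 : Block F al 0 6656 6100 :=
  block_comb c24 b25 (Nat.zero_le _) (Nat.le_of_ble_eq_true rfl) rfl

theorem c26 : Block F al 0 6912 6356 :=
  block_comb c25 b26 (Nat.zero_le _) (Nat.le_of_ble_eq_true rfl) rfl

theorem c27 : Block F al 0 7168 6612 :=
  block_comb c26 b27 (Nat.zero_le _) (Nat.le_of_ble_eq_true rfl) rfl

theorem c28 : Block F al 0 7424 6868 :=
  block_comb c27 b28 (Nat.zero_le _) (Nat.le_of_ble_eq_true rfl) rfl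

theorem c29 : Block F al 0 7680 7124 :=
  block_comb c28 b29 (Nat.zero_le _) (Nat.le_of_ble_eq_true rfl) rfl

theorem c30 : Block F al 0 7936 7380 :=
  block_comb c29 b30 (Nat.zero_le _) (Nat.le_of_ble_eq_true rfl) rfl

theorem c31 : Block F al 0 8192 7636 :=
  block_comb c30 b31 (Nat.zero_le _) (Nat.le_of_ble_eq_true rfl) rfl

theorem c32 : Block F al 0 8448 7892 :=
  block_comb c31 b32 (Nat.zero_le _) (Nat.le_of_ble_eq_true rfl) rfl

theorem c33 : Block F al 0 8704 8148 :=
  block_comb c32 b33 (Nat.zero_le _) (Nat.le_of_ble_eq_true rfl) rfl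

theorem c34 : Block F al 0 8960 8404 :=
  block_comb c33 b34 (Nat.zero_le _) (Nat.le_of_ble_eq_true rfl) rfl

theorem c35 : Block F al 0 9216 8660 :=
  block_comb c34 b35 (Nat.zero_le _) (Nat.le_of_ble_eq_true rfl) rfl

theorem c36 : Block F al 0 9472 8916 :=
  block_comb c35 b36 (Nat.zero_le _) (Nat.le_of_ble_eq_true rfl) rfl

theorem c37 : Block F al 0 9728 9172 :=
  block_comb c36 b37 (Nat.zero_le _) (Nat.le_of_ble_eq_true rfl) rfl

theorem c38 : Block F al 0 9984 9428 :=
  block_comb c37 b38 (Nat.zero_le _) (Nat.le_of_ble_eq_true rfl) rfl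

theorem c39 : Block F al 0 10240 9684 :=
  block_comb c38 b39 (Nat.zero_le _) (Nat.le_of_ble_eq_true rfl) rfl

theorem c40 : Block F al 0 10496 9940 :=
  block_comb c39 b40 (Nat.zero_le _) (Nat.le_of_ble_eq_true rfl) rfl

theorem c41 : Block F al 0 10752 10196 :=
  block_comb c40 b41 (Nat.zero_le _) (Nat.le_of_ble_eq_true rfl) rfl

theorem c42 : Block F al 0 11008 10452 :=
  block_comb c41 b42 (Nat.zero_le _) (Nat.le_of_ble_eq_true rfl) rfl

theorem c43 : Block F al 0 11264 10708 :=
  block_comb c42 b43 (Nat.zero_le _) (Nat.le_of_ble_eq_true rfl) rfl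

theorem c44 : Block F al 0 11520 10964 :=
  block_comb c43 b44 (Nat.zero_le _) (Nat.le_of_ble_eq_true rfl) rfl

theorem c45 : Block F al 0 11776 11220 :=
  block_comb c44 b45 (Nat.zero_le _) (Nat.le_of_ble_eq_true rfl) rfl

theorem c46 : Block F al 0 12032 11476 :=
  block_comb c45 b46 (Nat.zero_le _) (Nat.le_of_ble_eq_true rfl) rfl

theorem c47 : Block F al 0 12288 11732 :=
  block_comb c46 b47 (Nat.zero_le _) (Nat.le_of_ble_eq_true rfl) rfl

theorem c48 : Block F al 0 12544 11988 :=
  block_comb c47 b48 (Nat.zero_le _) (Nat.le_of_ble_eq_true rfl) rfl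

theorem c49 : Block F al 0 12800 12244 :=
  block_comb c48 b49 (Nat.zero_le _) (Nat.le_of_ble_eq_true rfl) rfl

theorem c50 : Block F al 0 13056 12500 :=
  block_comb c49 b50 (Nat.zero_le _) (Nat.le_of_ble_eq_true rfl) rfl

theorem c51 : Block F al 0 13312 12756 :=
  block_comb c50 b51 (Nat.zero_le _) (Nat.le_of_ble_eq_true rfl) rfl

theorem c52 : Block F al 0 13568 13012 :=
  block_comb c51 b52 (Nat.zero_le _) (Nat.le_of_ble_eq_true rfl) rfl

theorem c53 : Block F al 0 13824 13268 :=
  block_comb c52 b53 (Nat.zero_le _) (Nat.le_of_ble_eq_true rfl) rfl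

theorem c54 : Block F al 0 14080 13524 :=
  block_comb c53 b54 (Nat.zero_le _) (Nat.le_of_ble_eq_true rfl) rfl

theorem c55 : Block F al 0 14336 13780 :=
  block_comb c54 b55 (Nat.zero_le _) (Nat.le_of_ble_eq_true rfl) rfl

theorem c56 : Block F al 0 14592 14036 :=
  block_comb c55 b56 (Nat.zero_le _) (Nat.le_of_ble_eq_true rfl) rfl

theorem c57 : Block F al 0 14848 14292 :=
  block_comb c56 b57 (Nat.zero_le _) (Nat.le_of_ble_eq_true rfl) rfl

theorem c58 : Block F al 0 15104 14548 :=
  block_comb c57 b58 (Nat.zero_le _) (Nat.le_of_ble_eq_true rfl) rfl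

theorem c59 : Block F al 0 15360 14804 :=
  block_comb c58 b59 (Nat.zero_le _) (Nat.le_of_ble_eq_true rfl) rfl

theorem c60 : Block F al 0 15616 15060 :=
  block_comb c59 b60 (Nat.zero_le _) (Nat.le_of_ble_eq_true rfl) rfl

theorem c61 : Block F al 0 15872 15316 :=
  block_comb c60 b61 (Nat.zero_le _) (Nat.le_of_ble_eq_true rfl) rfl

theorem c62 : Block F al 0 16128 15572 :=
  block_comb c61 b62 (Nat.zero_le _) (Nat.le_of_ble_eq_true rfl) rfl

theorem c63 : Block F al 0 16384 15828 :=
  block_comb c62 b63 (Nat.zero_le _) (Nat.le_of_ble_eq_true rfl) rfl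

theorem c64 : Block F al 0 16640 16084 :=
  block_comb c63 b64 (Nat.zero_le _) (Nat.le_of_ble_eq_true rfl) rfl

theorem c65 : Block F al 0 16896 16340 :=
  block_comb c64 b65 (Nat.zero_le _) (Nat.le_of_ble_eq_true rfl) rfl

theorem c66 : Block F al 0 17152 16596 :=
  block_comb c65 b66 (Nat.zero_le _) (Nat.le_of_ble_eq_true rfl) rfl

theorem c67 : Block F al 0 17408 16852 :=
  block_comb c66 b67 (Nat.zero_le _) (Nat.le_of_ble_eq_true rfl) rfl

theorem c68 : Block F al 0 17664 17108 :=
  block_comb c67 b68 (Nat.zero_le _) (Nat.le_of_ble_eq_true rfl) rfl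

theorem c69 : Block F al 0 17920 17364 :=
  block_comb c68 b69 (Nat.zero_le _) (Nat.le_of_ble_eq_true rfl) rfl

theorem c70 : Block F al 0 18176 17620 :=
  block_comb c69 b70 (Nat.zero_le _) (Nat.le_of_ble_eq_true rfl) rfl

theorem c71 : Block F al 0 18432 17876 :=
  block_comb c70 b71 (Nat.zero_le _) (Nat.le_of_ble_eq_true rfl) rfl

theorem c72 : Block F al 0 18688 18132 :=
  block_comb c71 b72 (Nat.zero_le _) (Nat.le_of_ble_eq_true rfl) rfl

theorem c73 : Block F al 0 18944 18388 :=
  block_comb c72 b73 (Nat.zero_le _) (Nat.le_of_ble_eq_true rfl) rfl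

theorem c74 : Block F al 0 19200 18644 :=
  block_comb c73 b74 (Nat.zero_le _) (Nat.le_of_ble_eq_true rfl) rfl

theorem c75 : Block F al 0 19456 18900 :=
  block_comb c74 b75 (Nat.zero_le _) (Nat.le_of_ble_eq_true rfl) rfl

theorem c76 : Block F al 0 19712 19156 :=
  block_comb c75 b76 (Nat.zero_le _) (Nat.le_of_ble_eq_true rfl) rfl

theorem c77 : Block F al 0 19968 19412 :=
  block_comb c76 b77 (Nat.zero_le _) (Nat.le_of_ble_eq_true rfl) rfl

theorem c78 : Block F al 0 20224 19668 :=
  block_comb c77 b78 (Nat.zero_le _) (Nat.le_of_ble_eq_true rfl) rfl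

theorem c79 : Block F al 0 20480 19924 :=
  block_comb c78 b79 (Nat.zero_le _) (Nat.le_of_ble_eq_true rfl) rfl

theorem c80 : Block F al 0 20736 20180 :=
  block_comb c79 b80 (Nat.zero_le _) (Nat.le_of_ble_eq_true rfl) rfl

theorem c81 : Block F al 0 20992 20436 :=
  block_comb c80 b81 (Nat.zero_le _) (Nat.le_of_ble_eq_true rfl) rfl

theorem c82 : Block F al 0 21248 20692 :=
  block_comb c81 b82 (Nat.zero_le _) (Nat.le_of_ble_eq_true rfl) rfl

theorem c83 : Block F al 0 21504 20948 :=
  block_comb c82 b83 (Nat.zero_le _) (Nat.le_of_ble_eq_true rfl) rfl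

theorem c84 : Block F al 0 21760 21204 :=
  block_comb c83 b84 (Nat.zero_le _) (Nat.le_of_ble_eq_true rfl) rfl

theorem c85 : Block F al 0 22016 21460 :=
  block_comb c84 b85 (Nat.zero_le _) (Nat.le_of_ble_eq_true rfl) rfl

theorem c86 : Block F al 0 22272 21706 :=
  block_comb c85 b86 (Nat.zero_le _) (Nat.le_of_ble_eq_true rfl) rfl

theorem c87 : Block F al 0 22528 21958 :=
  block_comb c86 b87 (Nat.zero_le _) (Nat.le_of_ble_eq_true rfl) rfl

theorem c88 : Block F al 0 22784 22214 :=
  block_comb c87 b88 (Nat.zero_le _) (Nat.le_of_ble_eq_true rfl) rfl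

theorem c89 : Block F al 0 23040 22470 :=
  block_comb c88 b89 (Nat.zero_le _) (Nat.le_of_ble_eq_true rfl) rfl

theorem c90 : Block F al 0 23296 22726 :=
  block_comb c89 b90 (Nat.zero_le _) (Nat.le_of_ble_eq_true rfl) rfl

theorem c91 : Block F al 0 23552 22982 :=
  block_comb c90 b91 (Nat.zero_le _) (Nat.le_of_ble_eq_true rfl) rfl

theorem c92 : Block F al 0 23808 23238 :=
  block_comb c91 b92 (Nat.zero_le _) (Nat.le_of_ble_eq_true rfl) rfl

theorem c93 : Block F al 0 24064 23494 :=
  block_comb c92 b93 (Nat.zero_le _) (Nat.le_of_ble_eq_true rfl) rfl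

theorem c94 : Block F al 0 24320 23750 :=
  block_comb c93 b94 (Nat.zero_le _) (Nat.le_of_ble_eq_true rfl) rfl

theorem c95 : Block F al 0 24576 24006 :=
  block_comb c94 b95 (Nat.zero_le _) (Nat.le_of_ble_eq_true rfl) rfl

theorem c96 : Block F al 0 24832 24262 :=
  block_comb c95 b96 (Nat.zero_le _) (Nat.le_of_ble_eq_true rfl) rfl

theorem c97 : Block F al 0 25088 24518 :=
  block_comb c96 b97 (Nat.zero_le _) (Nat.le_of_ble_eq_true rfl) rfl

theorem c98 : Block F al 0 25344 24774 :=
  block_comb c97 b98 (Nat.zero_le _) (Nat.le_of_ble_eq_true rfl) rfl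

theorem c99 : Block F al 0 25600 25020 :=
  block_comb c98 b99 (Nat.zero_le _) (Nat.le_of_ble_eq_true rfl) rfl

theorem c100 : Block F al 0 25856 25276 :=
  block_comb c99 b100 (Nat.zero_le _) (Nat.le_of_ble_eq_true rfl) rfl

theorem c101 : Block F al 0 26112 25532 :=
  block_comb c100 b101 (Nat.zero_le _) (Nat.le_of_ble_eq_true rfl) rfl

theorem c102 : Block F al 0 26368 25786 :=
  block_comb c101 b102 (Nat.zero_le _) (Nat.le_of_ble_eq_true rfl) rfl

theorem c103 : Block F al 0 26624 26042 :=
  block_comb c102 b103 (Nat.zero_le _) (Nat.le_of_ble_eq_true rfl) rfl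

theorem c104 : Block F al 0 26880 26298 :=
  block_comb c103 b104 (Nat.zero_le _) (Nat.le_of_ble_eq_true rfl) rfl

theorem c105 : Block F al 0 27136 26554 :=
  block_comb c104 b105 (Nat.zero_le _) (Nat.le_of_ble_eq_true rfl) rfl

theorem c106 : Block F al 0 27392 26810 :=
  block_comb c105 b106 (Nat.zero_le _) (Nat.le_of_ble_eq_true rfl) rfl

theorem c107 : Block F al 0 27648 27066 :=
  block_comb c106 b107 (Nat.zero_le _) (Nat.le_of_ble_eq_true rfl) rfl

theorem c108 : Block F al 0 27904 27322 :=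
  block_comb c107 b108 (Nat.zero_le _) (Nat.le_of_ble_eq_true rfl) rfl

theorem c109 : Block F al 0 28160 27578 :=
  block_comb c108 b109 (Nat.zero_le _) (Nat.le_of_ble_eq_true rfl) rfl

theorem c110 : Block F al 0 28416 27834 :=
  block_comb c109 b110 (Nat.zero_le _) (Nat.le_of_ble_eq_true rfl) rfl

theorem c111 : Block F al 0 28672 28090 :=
  block_comb c110 b111 (Nat.zero_le _) (Nat.le_of_ble_eq_true rfl) rfl

theorem c112 : Block F al 0 28928 28346 :=
  block_comb c111 b112 (Nat.zero_le _) (Nat.le_of_ble_eq_true rfl) rfl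

theorem c113 : Block F al 0 29184 28602 :=
  block_comb c112 b113 (Nat.zero_le _) (Nat.le_of_ble_eq_true rfl) rfl

theorem c114 : Block F al 0 29440 28858 :=
  block_comb c113 b114 (Nat.zero_le _) (Nat.le_of_ble_eq_true rfl) rfl

theorem c115 : Block F al 0 29696 29114 :=
  block_comb c114 b115 (Nat.zero_le _) (Nat.le_of_ble_eq_true rfl) rfl

theorem c116 : Block F al 0 29952 29370 :=
  block_comb c115 b116 (Nat.zero_le _) (Nat.le_of_ble_eq_true rfl) rfl

theorem c117 : Block F al 0 30208 29626 :=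
  block_comb c116 b117 (Nat.zero_le _) (Nat.le_of_ble_eq_true rfl) rfl

theorem c118 : Block F al 0 30464 29882 :=
  block_comb c117 b118 (Nat.zero_le _) (Nat.le_of_ble_eq_true rfl) rfl

theorem c119 : Block F al 0 30720 30138 :=
  block_comb c118 b119 (Nat.zero_le _) (Nat.le_of_ble_eq_true rfl) rfl

theorem c120 : Block F al 0 30976 30394 :=
  block_comb c119 b120 (Nat.zero_le _) (Nat.le_of_ble_eq_true rfl) rfl

theorem c121 : Block F al 0 31232 30650 :=
  block_comb c120 b121 (Nat.zero_le _) (Nat.le_of_ble_eq_true rfl) rfl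

theorem c122 : Block F al 0 31488 30906 :=
  block_comb c121 b122 (Nat.zero_le _) (Nat.le_of_ble_eq_true rfl) rfl

theorem c123 : Block F al 0 31744 31162 :=
  block_comb c122 b123 (Nat.zero_le _) (Nat.le_of_ble_eq_true rfl) rfl

theorem c124 : Block F al 0 32000 31418 :=
  block_comb c123 b124 (Nat.zero_le _) (Nat.le_of_ble_eq_true rfl) rfl

theorem c125 : Block F al 0 32256 31674 :=
  block_comb c124 b125 (Nat.zero_le _) (Nat.le_of_ble_eq_true rfl) rfl

theorem c126 : Block F al 0 32512 31930 :=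
  block_comb c125 b126 (Nat.zero_le _) (Nat.le_of_ble_eq_true rfl) rfl

theorem c127 : Block F al 0 32768 32186 :=
  block_comb c126 b127 (Nat.zero_le _) (Nat.le_of_ble_eq_true rfl) rfl

theorem c128 : Block F al 0 33024 32442 :=
  block_comb c127 b128 (Nat.zero_le _) (Nat.le_of_ble_eq_true rfl) rfl

theorem c129 : Block F al 0 33280 32698 :=
  block_comb c128 b129 (Nat.zero_le _) (Nat.le_of_ble_eq_true rfl) rfl

theorem c130 : Block F al 0 33536 32954 :=
  block_comb c129 b130 (Nat.zero_le _) (Nat.le_of_ble_eq_true rfl) rfl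

theorem c131 : Block F al 0 33792 33210 :=
  block_comb c130 b131 (Nat.zero_le _) (Nat.le_of_ble_eq_true rfl) rfl

theorem c132 : Block F al 0 34048 33466 :=
  block_comb c131 b132 (Nat.zero_le _) (Nat.le_of_ble_eq_true rfl) rfl

theorem c133 : Block F al 0 34304 33722 :=
  block_comb c132 b133 (Nat.zero_le _) (Nat.le_of_ble_eq_true rfl) rfl

theorem c134 : Block F al 0 34560 33978 :=
  block_comb c133 b134 (Nat.zero_le _) (Nat.le_of_ble_eq_true rfl) rfl

theorem c135 : Block F al 0 34816 34234 :=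
  block_comb c134 b135 (Nat.zero_le _) (Nat.le_of_ble_eq_true rfl) rfl

theorem c136 : Block F al 0 35072 34490 :=
  block_comb c135 b136 (Nat.zero_le _) (Nat.le_of_ble_eq_true rfl) rfl

theorem c137 : Block F al 0 35328 34746 :=
  block_comb c136 b137 (Nat.zero_le _) (Nat.le_of_ble_eq_true rfl) rfl

theorem c138 : Block F al 0 35584 35002 :=
  block_comb c137 b138 (Nat.zero_le _) (Nat.le_of_ble_eq_true rfl) rfl

theorem c139 : Block F al 0 35840 35258 :=
  block_comb c138 b139 (Nat.zero_le _) (Nat.le_of_ble_eq_true rfl) rfl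

theorem c140 : Block F al 0 36096 35514 :=
  block_comb c139 b140 (Nat.zero_le _) (Nat.le_of_ble_eq_true rfl) rfl

theorem c141 : Block F al 0 36352 35770 :=
  block_comb c140 b141 (Nat.zero_le _) (Nat.le_of_ble_eq_true rfl) rfl

theorem c142 : Block F al 0 36608 36026 :=
  block_comb c141 b142 (Nat.zero_le _) (Nat.le_of_ble_eq_true rfl) rfl

theorem c143 : Block F al 0 36864 36282 :=
  block_comb c142 b143 (Nat.zero_le _) (Nat.le_of_ble_eq_true rfl) rfl

theorem c144 : Block F al 0 37120 36538 :=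
  block_comb c143 b144 (Nat.zero_le _) (Nat.le_of_ble_eq_true rfl) rfl

theorem c145 : Block F al 0 37376 36794 :=
  block_comb c144 b145 (Nat.zero_le _) (Nat.le_of_ble_eq_true rfl) rfl

theorem c146 : Block F al 0 37632 37050 :=
  block_comb c145 b146 (Nat.zero_le _) (Nat.le_of_ble_eq_true rfl) rfl

theorem c147 : Block F al 0 37888 37306 :=
  block_comb c146 b147 (Nat.zero_le _) (Nat.le_of_ble_eq_true rfl) rfl

theorem c148 : Block F al 0 38144 37562 :=
  block_comb c147 b148 (Nat.zero_le _) (Nat.le_of_ble_eq_true rfl) rfl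

theorem c149 : Block F al 0 38400 37818 :=
  block_comb c148 b149 (Nat.zero_le _) (Nat.le_of_ble_eq_true rfl) rfl

theorem c150 : Block F al 0 38656 38074 :=
  block_comb c149 b150 (Nat.zero_le _) (Nat.le_of_ble_eq_true rfl) rfl

theorem c151 : Block F al 0 38912 38330 :=
  block_comb c150 b151 (Nat.zero_le _) (Nat.le_of_ble_eq_true rfl) rfl

theorem c152 : Block F al 0 39168 38586 :=
  block_comb c151 b152 (Nat.zero_le _) (Nat.le_of_ble_eq_true rfl) rfl

theorem c153 : Block F al 0 39424 38842 :=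
  block_comb c152 b153 (Nat.zero_le _) (Nat.le_of_ble_eq_true rfl) rfl

theorem c154 : Block F al 0 39680 39098 :=
  block_comb c153 b154 (Nat.zero_le _) (Nat.le_of_ble_eq_true rfl) rfl

theorem c155 : Block F al 0 39936 39354 :=
  block_comb c154 b155 (Nat.zero_le _) (Nat.le_of_ble_eq_true rfl) rfl

theorem c156 : Block F al 0 40192 39610 :=
  block_comb c155 b156 (Nat.zero_le _) (Nat.le_of_ble_eq_true rfl) rfl

theorem c157 : Block F al 0 40448 39866 :=
  block_comb c156 b157 (Nat.zero_le _) (Nat.le_of_ble_eq_true rfl) rfl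

theorem c158 : Block F al 0 40704 40122 :=
  block_comb c157 b158 (Nat.zero_le _) (Nat.le_of_ble_eq_true rfl) rfl

theorem c159 : Block F al 0 40960 40378 :=
  block_comb c158 b159 (Nat.zero_le _) (Nat.le_of_ble_eq_true rfl) rfl

theorem c160 : Block F al 0 41216 40634 :=
  block_comb c159 b160 (Nat.zero_le _) (Nat.le_of_ble_eq_true rfl) rfl

theorem c161 : Block F al 0 41472 40890 :=
  block_comb c160 b161 (Nat.zero_le _) (Nat.le_of_ble_eq_true rfl) rfl

theorem c162 : Block F al 0 41728 41146 :=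
  block_comb c161 b162 (Nat.zero_le _) (Nat.le_of_ble_eq_true rfl) rfl

theorem c163 : Block F al 0 41984 41402 :=
  block_comb c162 b163 (Nat.zero_le _) (Nat.le_of_ble_eq_true rfl) rfl

theorem c164 : Block F al 0 42240 41658 :=
  block_comb c163 b164 (Nat.zero_le _) (Nat.le_of_ble_eq_true rfl) rfl

theorem c165 : Block F al 0 42496 41914 :=
  block_comb c164 b165 (Nat.zero_le _) (Nat.le_of_ble_eq_true rfl) rfl

theorem c166 : Block F al 0 42752 42170 :=
  block_comb c165 b166 (Nat.zero_le _) (Nat.le_of_ble_eq_true rfl) rfl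

theorem c167 : Block F al 0 43008 42426 :=
  block_comb c166 b167 (Nat.zero_le _) (Nat.le_of_ble_eq_true rfl) rfl

theorem c168 : Block F al 0 43264 42682 :=
  block_comb c167 b168 (Nat.zero_le _) (Nat.le_of_ble_eq_true rfl) rfl

theorem c169 : Block F al 0 43520 42938 :=
  block_comb c168 b169 (Nat.zero_le _) (Nat.le_of_ble_eq_true rfl) rfl

theorem c170 : Block F al 0 43776 43194 :=
  block_comb c169 b170 (Nat.zero_le _) (Nat.le_of_ble_eq_true rfl) rfl

theorem c171 : Block F al 0 44032 43450 :=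
  block_comb c170 b171 (Nat.zero_le _) (Nat.le_of_ble_eq_true rfl) rfl

theorem c172 : Block F al 0 44288 43706 :=
  block_comb c171 b172 (Nat.zero_le _) (Nat.le_of_ble_eq_true rfl) rfl

theorem c173 : Block F al 0 44544 43962 :=
  block_comb c172 b173 (Nat.zero_le _) (Nat.le_of_ble_eq_true rfl) rfl

theorem c174 : Block F al 0 44800 44218 :=
  block_comb c173 b174 (Nat.zero_le _) (Nat.le_of_ble_eq_true rfl) rfl

theorem c175 : Block F al 0 45056 44474 :=
  block_comb c174 b175 (Nat.zero_le _) (Nat.le_of_ble_eq_true rfl) rfl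

theorem c176 : Block F al 0 45312 44730 :=
  block_comb c175 b176 (Nat.zero_le _) (Nat.le_of_ble_eq_true rfl) rfl

theorem c177 : Block F al 0 45568 44986 :=
  block_comb c176 b177 (Nat.zero_le _) (Nat.le_of_ble_eq_true rfl) rfl

theorem c178 : Block F al 0 45824 45242 :=
  block_comb c177 b178 (Nat.zero_le _) (Nat.le_of_ble_eq_true rfl) rfl

theorem c179 : Block F al 0 46080 45498 :=
  block_comb c178 b179 (Nat.zero_le _) (Nat.le_of_ble_eq_true rfl) rfl

theorem c180 : Block F al 0 46336 45754 :=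
  block_comb c179 b180 (Nat.zero_le _) (Nat.le_of_ble_eq_true rfl) rfl

theorem c181 : Block F al 0 46592 46010 :=
  block_comb c180 b181 (Nat.zero_le _) (Nat.le_of_ble_eq_true rfl) rfl

theorem c182 : Block F al 0 46848 46266 :=
  block_comb c181 b182 (Nat.zero_le _) (Nat.le_of_ble_eq_true rfl) rfl

theorem c183 : Block F al 0 47104 46522 :=
  block_comb c182 b183 (Nat.zero_le _) (Nat.le_of_ble_eq_true rfl) rfl

theorem c184 : Block F al 0 47360 46778 :=
  block_comb c183 b184 (Nat.zero_le _) (Nat.le_of_ble_eq_true rfl) rfl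

theorem c185 : Block F al 0 47616 47034 :=
  block_comb c184 b185 (Nat.zero_le _) (Nat.le_of_ble_eq_true rfl) rfl

theorem c186 : Block F al 0 47872 47290 :=
  block_comb c185 b186 (Nat.zero_le _) (Nat.le_of_ble_eq_true rfl) rfl

theorem c187 : Block F al 0 48128 47546 :=
  block_comb c186 b187 (Nat.zero_le _) (Nat.le_of_ble_eq_true rfl) rfl

theorem c188 : Block F al 0 48384 47802 :=
  block_comb c187 b188 (Nat.zero_le _) (Nat.le_of_ble_eq_true rfl) rfl

theorem c189 : Block F al 0 48640 48058 :=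
  block_comb c188 b189 (Nat.zero_le _) (Nat.le_of_ble_eq_true rfl) rfl

theorem c190 : Block F al 0 48896 48314 :=
  block_comb c189 b190 (Nat.zero_le _) (Nat.le_of_ble_eq_true rfl) rfl

theorem c191 : Block F al 0 49152 48570 :=
  block_comb c190 b191 (Nat.zero_le _) (Nat.le_of_ble_eq_true rfl) rfl

theorem c192 : Block F al 0 49408 48826 :=
  block_comb c191 b192 (Nat.zero_le _) (Nat.le_of_ble_eq_true rfl) rfl

theorem c193 : Block F al 0 49664 49082 :=
  block_comb c192 b193 (Nat.zero_le _) (Nat.le_of_ble_eq_true rfl) rfl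

theorem c194 : Block F al 0 49920 49338 :=
  block_comb c193 b194 (Nat.zero_le _) (Nat.le_of_ble_eq_true rfl) rfl

theorem c195 : Block F al 0 50176 49594 :=
  block_comb c194 b195 (Nat.zero_le _) (Nat.le_of_ble_eq_true rfl) rfl

theorem c196 : Block F al 0 50432 49850 :=
  block_comb c195 b196 (Nat.zero_le _) (Nat.le_of_ble_eq_true rfl) rfl

theorem c197 : Block F al 0 50688 50106 :=
  block_comb c196 b197 (Nat.zero_le _) (Nat.le_of_ble_eq_true rfl) rfl

theorem c198 : Block F al 0 50944 50362 :=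
  block_comb c197 b198 (Nat.zero_le _) (Nat.le_of_ble_eq_true rfl) rfl

theorem c199 : Block F al 0 51200 50618 :=
  block_comb c198 b199 (Nat.zero_le _) (Nat.le_of_ble_eq_true rfl) rfl

theorem c200 : Block F al 0 51456 50874 :=
  block_comb c199 b200 (Nat.zero_le _) (Nat.le_of_ble_eq_true rfl) rfl

theorem c201 : Block F al 0 51712 51130 :=
  block_comb c200 b201 (Nat.zero_le _) (Nat.le_of_ble_eq_true rfl) rfl

theorem c202 : Block F al 0 51968 51386 :=
  block_comb c201 b202 (Nat.zero_le _) (Nat.le_of_ble_eq_true rfl) rfl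

theorem c203 : Block F al 0 52224 51642 :=
  block_comb c202 b203 (Nat.zero_le _) (Nat.le_of_ble_eq_true rfl) rfl

theorem c204 : Block F al 0 52480 51898 :=
  block_comb c203 b204 (Nat.zero_le _) (Nat.le_of_ble_eq_true rfl) rfl

theorem c205 : Block F al 0 52736 52154 :=
  block_comb c204 b205 (Nat.zero_le _) (Nat.le_of_ble_eq_true rfl) rfl

theorem c206 : Block F al 0 52992 52410 :=
  block_comb c205 b206 (Nat.zero_le _) (Nat.le_of_ble_eq_true rfl) rfl

theorem c207 : Block F al 0 53248 52666 :=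
  block_comb c206 b207 (Nat.zero_le _) (Nat.le_of_ble_eq_true rfl) rfl

theorem c208 : Block F al 0 53504 52922 :=
  block_comb c207 b208 (Nat.zero_le _) (Nat.le_of_ble_eq_true rfl) rfl

theorem c209 : Block F al 0 53760 53178 :=
  block_comb c208 b209 (Nat.zero_le _) (Nat.le_of_ble_eq_true rfl) rfl

theorem c210 : Block F al 0 54016 53434 :=
  block_comb c209 b210 (Nat.zero_le _) (Nat.le_of_ble_eq_true rfl) rfl

theorem c211 : Block F al 0 54272 53690 :=
  block_comb c210 b211 (Nat.zero_le _) (Nat.le_of_ble_eq_true rfl) rfl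

theorem c212 : Block F al 0 54528 53946 :=
  block_comb c211 b212 (Nat.zero_le _) (Nat.le_of_ble_eq_true rfl) rfl

theorem c213 : Block F al 0 54784 54202 :=
  block_comb c212 b213 (Nat.zero_le _) (Nat.le_of_ble_eq_true rfl) rfl

theorem c214 : Block F al 0 55040 54458 :=
  block_comb c213 b214 (Nat.zero_le _) (Nat.le_of_ble_eq_true rfl) rfl

theorem c215 : Block F al 0 55296 54714 :=
  block_comb c214 b215 (Nat.zero_le _) (Nat.le_of_ble_eq_true rfl) rfl

theorem c216 : Block F al 0 55552 54970 :=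
  block_comb c215 b216 (Nat.zero_le _) (Nat.le_of_ble_eq_true rfl) rfl

theorem c217 : Block F al 0 55808 55226 :=
  block_comb c216 b217 (Nat.zero_le _) (Nat.le_of_ble_eq_true rfl) rfl

theorem c218 : Block F al 0 56064 55482 :=
  block_comb c217 b218 (Nat.zero_le _) (Nat.le_of_ble_eq_true rfl) rfl

theorem c219 : Block F al 0 56320 55738 :=
  block_comb c218 b219 (Nat.zero_le _) (Nat.le_of_ble_eq_true rfl) rfl

theorem c220 : Block F al 0 56576 55994 :=
  block_comb c219 b220 (Nat.zero_le _) (Nat.le_of_ble_eq_true rfl) rfl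

theorem c221 : Block F al 0 56832 56250 :=
  block_comb c220 b221 (Nat.zero_le _) (Nat.le_of_ble_eq_true rfl) rfl

theorem c222 : Block F al 0 57088 56506 :=
  block_comb c221 b222 (Nat.zero_le _) (Nat.le_of_ble_eq_true rfl) rfl

theorem c223 : Block F al 0 57344 56762 :=
  block_comb c222 b223 (Nat.zero_le _) (Nat.le_of_ble_eq_true rfl) rfl

theorem c224 : Block F al 0 57600 57018 :=
  block_comb c223 b224 (Nat.zero_le _) (Nat.le_of_ble_eq_true rfl) rfl

theorem c225 : Block F al 0 57856 57274 :=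
  block_comb c224 b225 (Nat.zero_le _) (Nat.le_of_ble_eq_true rfl) rfl

theorem c226 : Block F al 0 58112 57530 :=
  block_comb c225 b226 (Nat.zero_le _) (Nat.le_of_ble_eq_true rfl) rfl

theorem c227 : Block F al 0 58368 57786 :=
  block_comb c226 b227 (Nat.zero_le _) (Nat.le_of_ble_eq_true rfl) rfl

theorem c228 : Block F al 0 58624 58042 :=
  block_comb c227 b228 (Nat.zero_le _) (Nat.le_of_ble_eq_true rfl) rfl

theorem c229 : Block F al 0 58880 58298 :=
  block_comb c228 b229 (Nat.zero_le _) (Nat.le_of_ble_eq_true rfl) rfl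

theorem c230 : Block F al 0 59136 58554 :=
  block_comb c229 b230 (Nat.zero_le _) (Nat.le_of_ble_eq_true rfl) rfl

theorem c231 : Block F al 0 59392 58810 :=
  block_comb c230 b231 (Nat.zero_le _) (Nat.le_of_ble_eq_true rfl) rfl

theorem c232 : Block F al 0 59648 59066 :=
  block_comb c231 b232 (Nat.zero_le _) (Nat.le_of_ble_eq_true rfl) rfl

theorem c233 : Block F al 0 59904 59322 :=
  block_comb c232 b233 (Nat.zero_le _) (Nat.le_of_ble_eq_true rfl) rfl

theorem c234 : Block F al 0 60160 59578 :=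
  block_comb c233 b234 (Nat.zero_le _) (Nat.le_of_ble_eq_true rfl) rfl

theorem c235 : Block F al 0 60416 59834 :=
  block_comb c234 b235 (Nat.zero_le _) (Nat.le_of_ble_eq_true rfl) rfl

theorem c236 : Block F al 0 60672 60090 :=
  block_comb c235 b236 (Nat.zero_le _) (Nat.le_of_ble_eq_true rfl) rfl

theorem c237 : Block F al 0 60928 60346 :=
  block_comb c236 b237 (Nat.zero_le _) (Nat.le_of_ble_eq_true rfl) rfl

theorem c238 : Block F al 0 61184 60602 :=
  block_comb c237 b238 (Nat.zero_le _) (Nat.le_of_ble_eq_true rfl) rfl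

theorem c239 : Block F al 0 61440 60858 :=
  block_comb c238 b239 (Nat.zero_le _) (Nat.le_of_ble_eq_true rfl) rfl

theorem c240 : Block F al 0 61696 61114 :=
  block_comb c239 b240 (Nat.zero_le _) (Nat.le_of_ble_eq_true rfl) rfl

theorem c241 : Block F al 0 61952 61370 :=
  block_comb c240 b241 (Nat.zero_le _) (Nat.le_of_ble_eq_true rfl) rfl

theorem c242 : Block F al 0 62208 61626 :=
  block_comb c241 b242 (Nat.zero_le _) (Nat.le_of_ble_eq_true rfl) rfl

theorem c243 : Block F al 0 62464 61882 :=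
  block_comb c242 b243 (Nat.zero_le _) (Nat.le_of_ble_eq_true rfl) rfl

theorem c244 : Block F al 0 62720 62138 :=
  block_comb c243 b244 (Nat.zero_le _) (Nat.le_of_ble_eq_true rfl) rfl

theorem c245 : Block F al 0 62976 62394 :=
  block_comb c244 b245 (Nat.zero_le _) (Nat.le_of_ble_eq_true rfl) rfl

theorem c246 : Block F al 0 63232 62650 :=
  block_comb c245 b246 (Nat.zero_le _) (Nat.le_of_ble_eq_true rfl) rfl

theorem c247 : Block F al 0 63488 62906 :=
  block_comb c246 b247 (Nat.zero_le _) (Nat.le_of_ble_eq_true rfl) rfl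

theorem c248 : Block F al 0 63744 63162 :=
  block_comb c247 b248 (Nat.zero_le _) (Nat.le_of_ble_eq_true rfl) rfl

theorem c249 : Block F al 0 64000 63418 :=
  block_comb c248 b249 (Nat.zero_le _) (Nat.le_of_ble_eq_true rfl) rfl

theorem c250 : Block F al 0 64256 63674 :=
  block_comb c249 b250 (Nat.zero_le _) (Nat.le_of_ble_eq_true rfl) rfl

theorem c251 : Block F al 0 64512 63930 :=
  block_comb c250 b251 (Nat.zero_le _) (Nat.le_of_ble_eq_true rfl) rfl

theorem c252 : Block F al 0 64768 64186 :=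
  block_comb c251 b252 (Nat.zero_le _) (Nat.le_of_ble_eq_true rfl) rfl

theorem c253 : Block F al 0 65024 64442 :=
  block_comb c252 b253 (Nat.zero_le _) (Nat.le_of_ble_eq_true rfl) rfl

theorem c254 : Block F al 0 65280 64698 :=
  block_comb c253 b254 (Nat.zero_le _) (Nat.le_of_ble_eq_true rfl) rfl

theorem c255 : Block F al 0 65536 64954 :=
  block_comb c254 b255 (Nat.zero_le _) (Nat.le_of_ble_eq_true rfl) rfl

theorem c256 : Block F al 0 65792 65210 :=
  block_comb c255 b256 (Nat.zero_le _) (Nat.le_of_ble_eq_true rfl) rfl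

theorem c257 : Block F al 0 66048 65466 :=
  block_comb c256 b257 (Nat.zero_le _) (Nat.le_of_ble_eq_true rfl) rfl

theorem c258 : Block F al 0 66304 65722 :=
  block_comb c257 b258 (Nat.zero_le _) (Nat.le_of_ble_eq_true rfl) rfl

theorem c259 : Block F al 0 66560 65978 :=
  block_comb c258 b259 (Nat.zero_le _) (Nat.le_of_ble_eq_true rfl) rfl

theorem c260 : Block F al 0 66816 66231 :=
  block_comb c259 b260 (Nat.zero_le _) (Nat.le_of_ble_eq_true rfl) rfl

theorem c261 : Block F al 0 67072 66487 :=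
  block_comb c260 b261 (Nat.zero_le _) (Nat.le_of_ble_eq_true rfl) rfl

theorem c262 : Block F al 0 67328 66743 :=
  block_comb c261 b262 (Nat.zero_le _) (Nat.le_of_ble_eq_true rfl) rfl

theorem c263 : Block F al 0 67584 66999 :=
  block_comb c262 b263 (Nat.zero_le _) (Nat.le_of_ble_eq_true rfl) rfl

theorem c264 : Block F al 0 67840 67255 :=
  block_comb c263 b264 (Nat.zero_le _) (Nat.le_of_ble_eq_true rfl) rfl

theorem c265 : Block F al 0 68096 67511 :=
  block_comb c264 b265 (Nat.zero_le _) (Nat.le_of_ble_eq_true rfl) rfl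

theorem c266 : Block F al 0 68352 67767 :=
  block_comb c265 b266 (Nat.zero_le _) (Nat.le_of_ble_eq_true rfl) rfl

theorem c267 : Block F al 0 68608 68023 :=
  block_comb c266 b267 (Nat.zero_le _) (Nat.le_of_ble_eq_true rfl) rfl

theorem c268 : Block F al 0 68864 68279 :=
  block_comb c267 b268 (Nat.zero_le _) (Nat.le_of_ble_eq_true rfl) rfl

theorem c269 : Block F al 0 69120 68535 :=
  block_comb c268 b269 (Nat.zero_le _) (Nat.le_of_ble_eq_true rfl) rfl

theorem c270 : Block F al 0 69376 68791 :=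
  block_comb c269 b270 (Nat.zero_le _) (Nat.le_of_ble_eq_true rfl) rfl

theorem c271 : Block F al 0 69632 69047 :=
  block_comb c270 b271 (Nat.zero_le _) (Nat.le_of_ble_eq_true rfl) rfl

theorem c272 : Block F al 0 69888 69303 :=
  block_comb c271 b272 (Nat.zero_le _) (Nat.le_of_ble_eq_true rfl) rfl

theorem c273 : Block F al 0 70144 69559 :=
  block_comb c272 b273 (Nat.zero_le _) (Nat.le_of_ble_eq_true rfl) rfl

theorem c274 : Block F al 0 70400 69815 :=
  block_comb c273 b274 (Nat.zero_le _) (Nat.le_of_ble_eq_true rfl) rfl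

theorem c275 : Block F al 0 70656 70069 :=
  block_comb c274 b275 (Nat.zero_le _) (Nat.le_of_ble_eq_true rfl) rfl

theorem c276 : Block F al 0 70912 70324 :=
  block_comb c275 b276 (Nat.zero_le _) (Nat.le_of_ble_eq_true rfl) rfl

theorem c277 : Block F al 0 71168 70580 :=
  block_comb c276 b277 (Nat.zero_le _) (Nat.le_of_ble_eq_true rfl) rfl

theorem c278 : Block F al 0 71424 70836 :=
  block_comb c277 b278 (Nat.zero_le _) (Nat.le_of_ble_eq_true rfl) rfl

theorem c279 : Block F al 0 71680 71092 :=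
  block_comb c278 b279 (Nat.zero_le _) (Nat.le_of_ble_eq_true rfl) rfl

theorem c280 : Block F al 0 71936 71348 :=
  block_comb c279 b280 (Nat.zero_le _) (Nat.le_of_ble_eq_true rfl) rfl

theorem c281 : Block F al 0 72192 71604 :=
  block_comb c280 b281 (Nat.zero_le _) (Nat.le_of_ble_eq_true rfl) rfl

theorem c282 : Block F al 0 72448 71860 :=
  block_comb c281 b282 (Nat.zero_le _) (Nat.le_of_ble_eq_true rfl) rfl

theorem c283 : Block F al 0 72704 72116 :=
  block_comb c282 b283 (Nat.zero_le _) (Nat.le_of_ble_eq_true rfl) rfl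

theorem c284 : Block F al 0 72960 72372 :=
  block_comb c283 b284 (Nat.zero_le _) (Nat.le_of_ble_eq_true rfl) rfl

theorem c285 : Block F al 0 73216 72628 :=
  block_comb c284 b285 (Nat.zero_le _) (Nat.le_of_ble_eq_true rfl) rfl

theorem c286 : Block F al 0 73472 72884 :=
  block_comb c285 b286 (Nat.zero_le _) (Nat.le_of_ble_eq_true rfl) rfl

theorem c287 : Block F al 0 73728 73140 :=
  block_comb c286 b287 (Nat.zero_le _) (Nat.le_of_ble_eq_true rfl) rfl

theorem c288 : Block F al 0 73984 73396 :=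
  block_comb c287 b288 (Nat.zero_le _) (Nat.le_of_ble_eq_true rfl) rfl

theorem c289 : Block F al 0 74240 73652 :=
  block_comb c288 b289 (Nat.zero_le _) (Nat.le_of_ble_eq_true rfl) rfl

theorem c290 : Block F al 0 74496 73908 :=
  block_comb c289 b290 (Nat.zero_le _) (Nat.le_of_ble_eq_true rfl) rfl

theorem c291 : Block F al 0 74752 74164 :=
  block_comb c290 b291 (Nat.zero_le _) (Nat.le_of_ble_eq_true rfl) rfl

theorem c292 : Block F al 0 75008 74420 :=
  block_comb c291 b292 (Nat.zero_le _) (Nat.le_of_ble_eq_true rfl) rfl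

theorem c293 : Block F al 0 75264 74676 :=
  block_comb c292 b293 (Nat.zero_le _) (Nat.le_of_ble_eq_true rfl) rfl

theorem c294 : Block F al 0 75520 74932 :=
  block_comb c293 b294 (Nat.zero_le _) (Nat.le_of_ble_eq_true rfl) rfl

theorem c295 : Block F al 0 75776 75188 :=
  block_comb c294 b295 (Nat.zero_le _) (Nat.le_of_ble_eq_true rfl) rfl

theorem c296 : Block F al 0 76032 75444 :=
  block_comb c295 b296 (Nat.zero_le _) (Nat.le_of_ble_eq_true rfl) rfl

theorem c297 : Block F al 0 76288 75700 :=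
  block_comb c296 b297 (Nat.zero_le _) (Nat.le_of_ble_eq_true rfl) rfl

theorem c298 : Block F al 0 76544 75956 :=
  block_comb c297 b298 (Nat.zero_le _) (Nat.le_of_ble_eq_true rfl) rfl

theorem c299 : Block F al 0 76800 76212 :=
  block_comb c298 b299 (Nat.zero_le _) (Nat.le_of_ble_eq_true rfl) rfl

theorem c300 : Block F al 0 77056 76468 :=
  block_comb c299 b300 (Nat.zero_le _) (Nat.le_of_ble_eq_true rfl) rfl

theorem c301 : Block F al 0 77312 76724 :=
  block_comb c300 b301 (Nat.zero_le _) (Nat.le_of_ble_eq_true rfl) rfl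

theorem c302 : Block F al 0 77568 76980 :=
  block_comb c301 b302 (Nat.zero_le _) (Nat.le_of_ble_eq_true rfl) rfl

theorem c303 : Block F al 0 77824 77236 :=
  block_comb c302 b303 (Nat.zero_le _) (Nat.le_of_ble_eq_true rfl) rfl

theorem c304 : Block F al 0 78080 77492 :=
  block_comb c303 b304 (Nat.zero_le _) (Nat.le_of_ble_eq_true rfl) rfl

theorem c305 : Block F al 0 78336 77748 :=
  block_comb c304 b305 (Nat.zero_le _) (Nat.le_of_ble_eq_true rfl) rfl

theorem c306 : Block F al 0 78592 78004 :=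
  block_comb c305 b306 (Nat.zero_le _) (Nat.le_of_ble_eq_true rfl) rfl

theorem c307 : Block F al 0 78848 78260 :=
  block_comb c306 b307 (Nat.zero_le _) (Nat.le_of_ble_eq_true rfl) rfl

theorem c308 : Block F al 0 79104 78516 :=
  block_comb c307 b308 (Nat.zero_le _) (Nat.le_of_ble_eq_true rfl) rfl

theorem c309 : Block F al 0 79360 78772 :=
  block_comb c308 b309 (Nat.zero_le _) (Nat.le_of_ble_eq_true rfl) rfl

theorem c310 : Block F al 0 79616 79028 :=
  block_comb c309 b310 (Nat.zero_le _) (Nat.le_of_ble_eq_true rfl) rfl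

theorem c311 : Block F al 0 79872 79284 :=
  block_comb c310 b311 (Nat.zero_le _) (Nat.le_of_ble_eq_true rfl) rfl

theorem c312 : Block F al 0 80128 79540 :=
  block_comb c311 b312 (Nat.zero_le _) (Nat.le_of_ble_eq_true rfl) rfl

theorem c313 : Block F al 0 80384 79796 :=
  block_comb c312 b313 (Nat.zero_le _) (Nat.le_of_ble_eq_true rfl) rfl

theorem c314 : Block F al 0 80640 80052 :=
  block_comb c313 b314 (Nat.zero_le _) (Nat.le_of_ble_eq_true rfl) rfl

theorem c315 : Block F al 0 80896 80308 :=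
  block_comb c314 b315 (Nat.zero_le _) (Nat.le_of_ble_eq_true rfl) rfl

theorem c316 : Block F al 0 81152 80564 :=
  block_comb c315 b316 (Nat.zero_le _) (Nat.le_of_ble_eq_true rfl) rfl

theorem c317 : Block F al 0 81408 80820 :=
  block_comb c316 b317 (Nat.zero_le _) (Nat.le_of_ble_eq_true rfl) rfl

theorem c318 : Block F al 0 81664 81076 :=
  block_comb c317 b318 (Nat.zero_le _) (Nat.le_of_ble_eq_true rfl) rfl

theorem c319 : Block F al 0 81920 81332 :=
  block_comb c318 b319 (Nat.zero_le _) (Nat.le_of_ble_eq_true rfl) rfl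

theorem c320 : Block F al 0 82176 81588 :=
  block_comb c319 b320 (Nat.zero_le _) (Nat.le_of_ble_eq_true rfl) rfl

theorem c321 : Block F al 0 82432 81844 :=
  block_comb c320 b321 (Nat.zero_le _) (Nat.le_of_ble_eq_true rfl) rfl

theorem c322 : Block F al 0 82688 82100 :=
  block_comb c321 b322 (Nat.zero_le _) (Nat.le_of_ble_eq_true rfl) rfl

theorem c323 : Block F al 0 82944 82356 :=
  block_comb c322 b323 (Nat.zero_le _) (Nat.le_of_ble_eq_true rfl) rfl

theorem c324 : Block F al 0 83200 82612 :=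
  block_comb c323 b324 (Nat.zero_le _) (Nat.le_of_ble_eq_true rfl) rfl

theorem c325 : Block F al 0 83456 82868 :=
  block_comb c324 b325 (Nat.zero_le _) (Nat.le_of_ble_eq_true rfl) rfl

theorem c326 : Block F al 0 83712 83124 :=
  block_comb c325 b326 (Nat.zero_le _) (Nat.le_of_ble_eq_true rfl) rfl

theorem c327 : Block F al 0 83968 83380 :=
  block_comb c326 b327 (Nat.zero_le _) (Nat.le_of_ble_eq_true rfl) rfl

theorem c328 : Block F al 0 84224 83636 :=
  block_comb c327 b328 (Nat.zero_le _) (Nat.le_of_ble_eq_true rfl) rfl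

theorem c329 : Block F al 0 84480 83892 :=
  block_comb c328 b329 (Nat.zero_le _) (Nat.le_of_ble_eq_true rfl) rfl

theorem c330 : Block F al 0 84736 84148 :=
  block_comb c329 b330 (Nat.zero_le _) (Nat.le_of_ble_eq_true rfl) rfl

theorem c331 : Block F al 0 84992 84404 :=
  block_comb c330 b331 (Nat.zero_le _) (Nat.le_of_ble_eq_true rfl) rfl

theorem c332 : Block F al 0 85248 84660 :=
  block_comb c331 b332 (Nat.zero_le _) (Nat.le_of_ble_eq_true rfl) rfl

theorem c333 : Block F al 0 85504 84916 :=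
  block_comb c332 b333 (Nat.zero_le _) (Nat.le_of_ble_eq_true rfl) rfl

theorem c334 : Block F al 0 85760 85172 :=
  block_comb c333 b334 (Nat.zero_le _) (Nat.le_of_ble_eq_true rfl) rfl

theorem c335 : Block F al 0 86016 85428 :=
  block_comb c334 b335 (Nat.zero_le _) (Nat.le_of_ble_eq_true rfl) rfl

theorem c336 : Block F al 0 86272 85684 :=
  block_comb c335 b336 (Nat.zero_le _) (Nat.le_of_ble_eq_true rfl) rfl

theorem c337 : Block F al 0 86528 85940 :=
  block_comb c336 b337 (Nat.zero_le _) (Nat.le_of_ble_eq_true rfl) rfl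

theorem c338 : Block F al 0 86784 86196 :=
  block_comb c337 b338 (Nat.zero_le _) (Nat.le_of_ble_eq_true rfl) rfl

theorem c339 : Block F al 0 87040 86452 :=
  block_comb c338 b339 (Nat.zero_le _) (Nat.le_of_ble_eq_true rfl) rfl

theorem c340 : Block F al 0 87296 86708 :=
  block_comb c339 b340 (Nat.zero_le _) (Nat.le_of_ble_eq_true rfl) rfl

theorem c341 : Block F al 0 87552 86964 :=
  block_comb c340 b341 (Nat.zero_le _) (Nat.le_of_ble_eq_true rfl) rfl

theorem c342 : Block F al 0 87808 87220 :=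
  block_comb c341 b342 (Nat.zero_le _) (Nat.le_of_ble_eq_true rfl) rfl

theorem c343 : Block F al 0 88064 87476 :=
  block_comb c342 b343 (Nat.zero_le _) (Nat.le_of_ble_eq_true rfl) rfl

theorem c344 : Block F al 0 88320 87732 :=
  block_comb c343 b344 (Nat.zero_le _) (Nat.le_of_ble_eq_true rfl) rfl

theorem c345 : Block F al 0 88576 87988 :=
  block_comb c344 b345 (Nat.zero_le _) (Nat.le_of_ble_eq_true rfl) rfl

theorem c346 : Block F al 0 88832 88244 :=
  block_comb c345 b346 (Nat.zero_le _) (Nat.le_of_ble_eq_true rfl) rfl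

theorem c347 : Block F al 0 89088 88500 :=
  block_comb c346 b347 (Nat.zero_le _) (Nat.le_of_ble_eq_true rfl) rfl

theorem c348 : Block F al 0 89344 88756 :=
  block_comb c347 b348 (Nat.zero_le _) (Nat.le_of_ble_eq_true rfl) rfl

theorem c349 : Block F al 0 89600 89012 :=
  block_comb c348 b349 (Nat.zero_le _) (Nat.le_of_ble_eq_true rfl) rfl

theorem c350 : Block F al 0 89856 89268 :=
  block_comb c349 b350 (Nat.zero_le _) (Nat.le_of_ble_eq_true rfl) rfl

theorem c351 : Block F al 0 90112 89524 :=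
  block_comb c350 b351 (Nat.zero_le _) (Nat.le_of_ble_eq_true rfl) rfl

theorem c352 : Block F al 0 90368 89780 :=
  block_comb c351 b352 (Nat.zero_le _) (Nat.le_of_ble_eq_true rfl) rfl

theorem c353 : Block F al 0 90624 90036 :=
  block_comb c352 b353 (Nat.zero_le _) (Nat.le_of_ble_eq_true rfl) rfl

theorem c354 : Block F al 0 90880 90292 :=
  block_comb c353 b354 (Nat.zero_le _) (Nat.le_of_ble_eq_true rfl) rfl

theorem c355 : Block F al 0 91136 90548 :=
  block_comb c354 b355 (Nat.zero_le _) (Nat.le_of_ble_eq_true rfl) rfl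

theorem c356 : Block F al 0 91392 90804 :=
  block_comb c355 b356 (Nat.zero_le _) (Nat.le_of_ble_eq_true rfl) rfl

theorem c357 : Block F al 0 91648 91060 :=
  block_comb c356 b357 (Nat.zero_le _) (Nat.le_of_ble_eq_true rfl) rfl

theorem c358 : Block F al 0 91904 91316 :=
  block_comb c357 b358 (Nat.zero_le _) (Nat.le_of_ble_eq_true rfl) rfl

theorem c359 : Block F al 0 92160 91572 :=
  block_comb c358 b359 (Nat.zero_le _) (Nat.le_of_ble_eq_true rfl) rfl

theorem c360 : Block F al 0 92416 91828 :=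
  block_comb c359 b360 (Nat.zero_le _) (Nat.le_of_ble_eq_true rfl) rfl

theorem c361 : Block F al 0 92672 92084 :=
  block_comb c360 b361 (Nat.zero_le _) (Nat.le_of_ble_eq_true rfl) rfl

theorem c362 : Block F al 0 92928 92340 :=
  block_comb c361 b362 (Nat.zero_le _) (Nat.le_of_ble_eq_true rfl) rfl

theorem c363 : Block F al 0 93184 92596 :=
  block_comb c362 b363 (Nat.zero_le _) (Nat.le_of_ble_eq_true rfl) rfl

theorem c364 : Block F al 0 93440 92852 :=
  block_comb c363 b364 (Nat.zero_le _) (Nat.le_of_ble_eq_true rfl) rfl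

theorem c365 : Block F al 0 93696 93108 :=
  block_comb c364 b365 (Nat.zero_le _) (Nat.le_of_ble_eq_true rfl) rfl

theorem c366 : Block F al 0 93952 93364 :=
  block_comb c365 b366 (Nat.zero_le _) (Nat.le_of_ble_eq_true rfl) rfl

theorem c367 : Block F al 0 94208 93620 :=
  block_comb c366 b367 (Nat.zero_le _) (Nat.le_of_ble_eq_true rfl) rfl

theorem c368 : Block F al 0 94464 93876 :=
  block_comb c367 b368 (Nat.zero_le _) (Nat.le_of_ble_eq_true rfl) rfl

theorem c369 : Block F al 0 94720 94132 :=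
  block_comb c368 b369 (Nat.zero_le _) (Nat.le_of_ble_eq_true rfl) rfl

theorem c370 : Block F al 0 94976 94388 :=
  block_comb c369 b370 (Nat.zero_le _) (Nat.le_of_ble_eq_true rfl) rfl

theorem c371 : Block F al 0 95232 94644 :=
  block_comb c370 b371 (Nat.zero_le _) (Nat.le_of_ble_eq_true rfl) rfl

theorem c372 : Block F al 0 95488 94900 :=
  block_comb c371 b372 (Nat.zero_le _) (Nat.le_of_ble_eq_true rfl) rfl

theorem c373 : Block F al 0 95744 95156 :=
  block_comb c372 b373 (Nat.zero_le _) (Nat.le_of_ble_eq_true rfl) rfl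

theorem c374 : Block F al 0 96000 95412 :=
  block_comb c373 b374 (Nat.zero_le _) (Nat.le_of_ble_eq_true rfl) rfl

theorem c375 : Block F al 0 96256 95668 :=
  block_comb c374 b375 (Nat.zero_le _) (Nat.le_of_ble_eq_true rfl) rfl

theorem c376 : Block F al 0 96512 95924 :=
  block_comb c375 b376 (Nat.zero_le _) (Nat.le_of_ble_eq_true rfl) rfl

theorem c377 : Block F al 0 96768 96180 :=
  block_comb c376 b377 (Nat.zero_le _) (Nat.le_of_ble_eq_true rfl) rfl

theorem c378 : Block F al 0 97024 96436 :=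
  block_comb c377 b378 (Nat.zero_le _) (Nat.le_of_ble_eq_true rfl) rfl

theorem c379 : Block F al 0 97280 96692 :=
  block_comb c378 b379 (Nat.zero_le _) (Nat.le_of_ble_eq_true rfl) rfl

theorem c380 : Block F al 0 97536 96948 :=
  block_comb c379 b380 (Nat.zero_le _) (Nat.le_of_ble_eq_true rfl) rfl

theorem c381 : Block F al 0 97792 97204 :=
  block_comb c380 b381 (Nat.zero_le _) (Nat.le_of_ble_eq_true rfl) rfl

theorem c382 : Block F al 0 98048 97460 :=
  block_comb c381 b382 (Nat.zero_le _) (Nat.le_of_ble_eq_true rfl) rfl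

theorem c383 : Block F al 0 98304 97716 :=
  block_comb c382 b383 (Nat.zero_le _) (Nat.le_of_ble_eq_true rfl) rfl

theorem c384 : Block F al 0 98560 97972 :=
  block_comb c383 b384 (Nat.zero_le _) (Nat.le_of_ble_eq_true rfl) rfl

theorem c385 : Block F al 0 98816 98228 :=
  block_comb c384 b385 (Nat.zero_le _) (Nat.le_of_ble_eq_true rfl) rfl

theorem c386 : Block F al 0 99072 98484 :=
  block_comb c385 b386 (Nat.zero_le _) (Nat.le_of_ble_eq_true rfl) rfl

theorem c387 : Block F al 0 99328 98740 :=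
  block_comb c386 b387 (Nat.zero_le _) (Nat.le_of_ble_eq_true rfl) rfl

theorem c388 : Block F al 0 99584 98996 :=
  block_comb c387 b388 (Nat.zero_le _) (Nat.le_of_ble_eq_true rfl) rfl

theorem c389 : Block F al 0 99840 99252 :=
  block_comb c388 b389 (Nat.zero_le _) (Nat.le_of_ble_eq_true rfl) rfl

theorem c390 : Block F al 0 100096 99508 :=
  block_comb c389 b390 (Nat.zero_le _) (Nat.le_of_ble_eq_true rfl) rfl

theorem c391 : Block F al 0 100352 99764 :=
  block_comb c390 b391 (Nat.zero_le _) (Nat.le_of_ble_eq_true rfl) rfl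

theorem c392 : Block F al 0 100608 100020 :=
  block_comb c391 b392 (Nat.zero_le _) (Nat.le_of_ble_eq_true rfl) rfl

theorem c393 : Block F al 0 100864 100276 :=
  block_comb c392 b393 (Nat.zero_le _) (Nat.le_of_ble_eq_true rfl) rfl

theorem c394 : Block F al 0 101120 100532 :=
  block_comb c393 b394 (Nat.zero_le _) (Nat.le_of_ble_eq_true rfl) rfl

theorem c395 : Block F al 0 101376 100788 :=
  block_comb c394 b395 (Nat.zero_le _) (Nat.le_of_ble_eq_true rfl) rfl

theorem c396 : Block F al 0 101632 101044 :=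
  block_comb c395 b396 (Nat.zero_le _) (Nat.le_of_ble_eq_true rfl) rfl

theorem c397 : Block F al 0 101888 101300 :=
  block_comb c396 b397 (Nat.zero_le _) (Nat.le_of_ble_eq_true rfl) rfl

theorem c398 : Block F al 0 102144 101556 :=
  block_comb c397 b398 (Nat.zero_le _) (Nat.le_of_ble_eq_true rfl) rfl

theorem c399 : Block F al 0 102400 101812 :=
  block_comb c398 b399 (Nat.zero_le _) (Nat.le_of_ble_eq_true rfl) rfl

theorem c400 : Block F al 0 102656 102068 :=
  block_comb c399 b400 (Nat.zero_le _) (Nat.le_of_ble_eq_true rfl) rfl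

theorem c401 : Block F al 0 102912 102324 :=
  block_comb c400 b401 (Nat.zero_le _) (Nat.le_of_ble_eq_true rfl) rfl

theorem c402 : Block F al 0 103168 102580 :=
  block_comb c401 b402 (Nat.zero_le _) (Nat.le_of_ble_eq_true rfl) rfl

theorem c403 : Block F al 0 103424 102836 :=
  block_comb c402 b403 (Nat.zero_le _) (Nat.le_of_ble_eq_true rfl) rfl

theorem c404 : Block F al 0 103680 103092 :=
  block_comb c403 b404 (Nat.zero_le _) (Nat.le_of_ble_eq_true rfl) rfl

theorem c405 : Block F al 0 103936 103348 :=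
  block_comb c404 b405 (Nat.zero_le _) (Nat.le_of_ble_eq_true rfl) rfl

theorem c406 : Block F al 0 104192 103604 :=
  block_comb c405 b406 (Nat.zero_le _) (Nat.le_of_ble_eq_true rfl) rfl

theorem c407 : Block F al 0 104448 103860 :=
  block_comb c406 b407 (Nat.zero_le _) (Nat.le_of_ble_eq_true rfl) rfl

theorem c408 : Block F al 0 104704 104116 :=
  block_comb c407 b408 (Nat.zero_le _) (Nat.le_of_ble_eq_true rfl) rfl

theorem c409 : Block F al 0 104960 104372 :=
  block_comb c408 b409 (Nat.zero_le _) (Nat.le_of_ble_eq_true rfl) rfl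

theorem c410 : Block F al 0 105216 104628 :=
  block_comb c409 b410 (Nat.zero_le _) (Nat.le_of_ble_eq_true rfl) rfl

theorem c411 : Block F al 0 105472 104884 :=
  block_comb c410 b411 (Nat.zero_le _) (Nat.le_of_ble_eq_true rfl) rfl

theorem c412 : Block F al 0 105728 105140 :=
  block_comb c411 b412 (Nat.zero_le _) (Nat.le_of_ble_eq_true rfl) rfl

theorem c413 : Block F al 0 105984 105396 :=
  block_comb c412 b413 (Nat.zero_le _) (Nat.le_of_ble_eq_true rfl) rfl

theorem c414 : Block F al 0 106240 105652 :=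
  block_comb c413 b414 (Nat.zero_le _) (Nat.le_of_ble_eq_true rfl) rfl

theorem c415 : Block F al 0 106496 105908 :=
  block_comb c414 b415 (Nat.zero_le _) (Nat.le_of_ble_eq_true rfl) rfl

theorem c416 : Block F al 0 106752 106164 :=
  block_comb c415 b416 (Nat.zero_le _) (Nat.le_of_ble_eq_true rfl) rfl

theorem c417 : Block F al 0 107008 106420 :=
  block_comb c416 b417 (Nat.zero_le _) (Nat.le_of_ble_eq_true rfl) rfl

theorem c418 : Block F al 0 107264 106676 :=
  block_comb c417 b418 (Nat.zero_le _) (Nat.le_of_ble_eq_true rfl) rfl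

theorem c419 : Block F al 0 107520 106932 :=
  block_comb c418 b419 (Nat.zero_le _) (Nat.le_of_ble_eq_true rfl) rfl

theorem c420 : Block F al 0 107776 107188 :=
  block_comb c419 b420 (Nat.zero_le _) (Nat.le_of_ble_eq_true rfl) rfl

theorem c421 : Block F al 0 108032 107444 :=
  block_comb c420 b421 (Nat.zero_le _) (Nat.le_of_ble_eq_true rfl) rfl

theorem c422 : Block F al 0 108288 107700 :=
  block_comb c421 b422 (Nat.zero_le _) (Nat.le_of_ble_eq_true rfl) rfl

theorem c423 : Block F al 0 108544 107956 :=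
  block_comb c422 b423 (Nat.zero_le _) (Nat.le_of_ble_eq_true rfl) rfl

theorem c424 : Block F al 0 108800 108212 :=
  block_comb c423 b424 (Nat.zero_le _) (Nat.le_of_ble_eq_true rfl) rfl

theorem c425 : Block F al 0 109056 108468 :=
  block_comb c424 b425 (Nat.zero_le _) (Nat.le_of_ble_eq_true rfl) rfl

theorem c426 : Block F al 0 109312 108724 :=
  block_comb c425 b426 (Nat.zero_le _) (Nat.le_of_ble_eq_true rfl) rfl

theorem c427 : Block F al 0 109568 108980 :=
  block_comb c426 b427 (Nat.zero_le _) (Nat.le_of_ble_eq_true rfl) rfl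

theorem c428 : Block F al 0 109824 109236 :=
  block_comb c427 b428 (Nat.zero_le _) (Nat.le_of_ble_eq_true rfl) rfl

theorem c429 : Block F al 0 110080 109492 :=
  block_comb c428 b429 (Nat.zero_le _) (Nat.le_of_ble_eq_true rfl) rfl

theorem c430 : Block F al 0 110336 109748 :=
  block_comb c429 b430 (Nat.zero_le _) (Nat.le_of_ble_eq_true rfl) rfl

theorem c431 : Block F al 0 110592 110004 :=
  block_comb c430 b431 (Nat.zero_le _) (Nat.le_of_ble_eq_true rfl) rfl

theorem c432 : Block F al 0 110848 110260 :=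
  block_comb c431 b432 (Nat.zero_le _) (Nat.le_of_ble_eq_true rfl) rfl

theorem c433 : Block F al 0 111104 110516 :=
  block_comb c432 b433 (Nat.zero_le _) (Nat.le_of_ble_eq_true rfl) rfl

theorem c434 : Block F al 0 111360 110772 :=
  block_comb c433 b434 (Nat.zero_le _) (Nat.le_of_ble_eq_true rfl) rfl

theorem c435 : Block F al 0 111616 111028 :=
  block_comb c434 b435 (Nat.zero_le _) (Nat.le_of_ble_eq_true rfl) rfl

theorem c436 : Block F al 0 111872 111284 :=
  block_comb c435 b436 (Nat.zero_le _) (Nat.le_of_ble_eq_true rfl) rfl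

theorem c437 : Block F al 0 112128 111540 :=
  block_comb c436 b437 (Nat.zero_le _) (Nat.le_of_ble_eq_true rfl) rfl

theorem c438 : Block F al 0 112384 111796 :=
  block_comb c437 b438 (Nat.zero_le _) (Nat.le_of_ble_eq_true rfl) rfl

theorem c439 : Block F al 0 112640 112052 :=
  block_comb c438 b439 (Nat.zero_le _) (Nat.le_of_ble_eq_true rfl) rfl

theorem c440 : Block F al 0 112896 112308 :=
  block_comb c439 b440 (Nat.zero_le _) (Nat.le_of_ble_eq_true rfl) rfl

theorem c441 : Block F al 0 113152 112564 :=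
  block_comb c440 b441 (Nat.zero_le _) (Nat.le_of_ble_eq_true rfl) rfl

theorem c442 : Block F al 0 113408 112820 :=
  block_comb c441 b442 (Nat.zero_le _) (Nat.le_of_ble_eq_true rfl) rfl

theorem c443 : Block F al 0 113664 113076 :=
  block_comb c442 b443 (Nat.zero_le _) (Nat.le_of_ble_eq_true rfl) rfl

theorem c444 : Block F al 0 113920 113332 :=
  block_comb c443 b444 (Nat.zero_le _) (Nat.le_of_ble_eq_true rfl) rfl

theorem c445 : Block F al 0 114176 113588 :=
  block_comb c444 b445 (Nat.zero_le _) (Nat.le_of_ble_eq_true rfl) rfl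

theorem c446 : Block F al 0 114432 113844 :=
  block_comb c445 b446 (Nat.zero_le _) (Nat.le_of_ble_eq_true rfl) rfl

theorem c447 : Block F al 0 114688 114100 :=
  block_comb c446 b447 (Nat.zero_le _) (Nat.le_of_ble_eq_true rfl) rfl

theorem c448 : Block F al 0 114944 114356 :=
  block_comb c447 b448 (Nat.zero_le _) (Nat.le_of_ble_eq_true rfl) rfl

theorem c449 : Block F al 0 115200 114612 :=
  block_comb c448 b449 (Nat.zero_le _) (Nat.le_of_ble_eq_true rfl) rfl

theorem c450 : Block F al 0 115456 114868 :=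
  block_comb c449 b450 (Nat.zero_le _) (Nat.le_of_ble_eq_true rfl) rfl

theorem c451 : Block F al 0 115712 115124 :=
  block_comb c450 b451 (Nat.zero_le _) (Nat.le_of_ble_eq_true rfl) rfl

theorem c452 : Block F al 0 115968 115380 :=
  block_comb c451 b452 (Nat.zero_le _) (Nat.le_of_ble_eq_true rfl) rfl

theorem c453 : Block F al 0 116224 115636 :=
  block_comb c452 b453 (Nat.zero_le _) (Nat.le_of_ble_eq_true rfl) rfl

theorem c454 : Block F al 0 116480 115892 :=
  block_comb c453 b454 (Nat.zero_le _) (Nat.le_of_ble_eq_true rfl) rfl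

theorem c455 : Block F al 0 116736 116148 :=
  block_comb c454 b455 (Nat.zero_le _) (Nat.le_of_ble_eq_true rfl) rfl

theorem c456 : Block F al 0 116992 116404 :=
  block_comb c455 b456 (Nat.zero_le _) (Nat.le_of_ble_eq_true rfl) rfl

theorem c457 : Block F al 0 117248 116660 :=
  block_comb c456 b457 (Nat.zero_le _) (Nat.le_of_ble_eq_true rfl) rfl

theorem c458 : Block F al 0 117504 116916 :=
  block_comb c457 b458 (Nat.zero_le _) (Nat.le_of_ble_eq_true rfl) rfl

theorem c459 : Block F al 0 117760 117172 :=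
  block_comb c458 b459 (Nat.zero_le _) (Nat.le_of_ble_eq_true rfl) rfl

theorem c460 : Block F al 0 118016 117428 :=
  block_comb c459 b460 (Nat.zero_le _) (Nat.le_of_ble_eq_true rfl) rfl

theorem c461 : Block F al 0 118272 117684 :=
  block_comb c460 b461 (Nat.zero_le _) (Nat.le_of_ble_eq_true rfl) rfl

theorem c462 : Block F al 0 118528 117940 :=
  block_comb c461 b462 (Nat.zero_le _) (Nat.le_of_ble_eq_true rfl) rfl

theorem c463 : Block F al 0 118784 118196 :=
  block_comb c462 b463 (Nat.zero_le _) (Nat.le_of_ble_eq_true rfl) rfl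

theorem c464 : Block F al 0 119040 118452 :=
  block_comb c463 b464 (Nat.zero_le _) (Nat.le_of_ble_eq_true rfl) rfl

theorem c465 : Block F al 0 119296 118708 :=
  block_comb c464 b465 (Nat.zero_le _) (Nat.le_of_ble_eq_true rfl) rfl

theorem c466 : Block F al 0 119552 118964 :=
  block_comb c465 b466 (Nat.zero_le _) (Nat.le_of_ble_eq_true rfl) rfl

theorem c467 : Block F al 0 119808 119220 :=
  block_comb c466 b467 (Nat.zero_le _) (Nat.le_of_ble_eq_true rfl) rfl

theorem c468 : Block F al 0 120064 119476 :=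
  block_comb c467 b468 (Nat.zero_le _) (Nat.le_of_ble_eq_true rfl) rfl

theorem c469 : Block F al 0 120320 119732 :=
  block_comb c468 b469 (Nat.zero_le _) (Nat.le_of_ble_eq_true rfl) rfl

theorem c470 : Block F al 0 120576 119988 :=
  block_comb c469 b470 (Nat.zero_le _) (Nat.le_of_ble_eq_true rfl) rfl

theorem c471 : Block F al 0 120832 120244 :=
  block_comb c470 b471 (Nat.zero_le _) (Nat.le_of_ble_eq_true rfl) rfl

theorem c472 : Block F al 0 121088 120500 :=
  block_comb c471 b472 (Nat.zero_le _) (Nat.le_of_ble_eq_true rfl) rfl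

theorem c473 : Block F al 0 121344 120756 :=
  block_comb c472 b473 (Nat.zero_le _) (Nat.le_of_ble_eq_true rfl) rfl

theorem c474 : Block F al 0 121600 121012 :=
  block_comb c473 b474 (Nat.zero_le _) (Nat.le_of_ble_eq_true rfl) rfl

theorem c475 : Block F al 0 121856 121268 :=
  block_comb c474 b475 (Nat.zero_le _) (Nat.le_of_ble_eq_true rfl) rfl

theorem c476 : Block F al 0 122112 121524 :=
  block_comb c475 b476 (Nat.zero_le _) (Nat.le_of_ble_eq_true rfl) rfl

theorem c477 : Block F al 0 122368 121780 :=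
  block_comb c476 b477 (Nat.zero_le _) (Nat.le_of_ble_eq_true rfl) rfl

theorem c478 : Block F al 0 122624 122036 :=
  block_comb c477 b478 (Nat.zero_le _) (Nat.le_of_ble_eq_true rfl) rfl

theorem c479 : Block F al 0 122880 122292 :=
  block_comb c478 b479 (Nat.zero_le _) (Nat.le_of_ble_eq_true rfl) rfl

theorem c480 : Block F al 0 123136 122548 :=
  block_comb c479 b480 (Nat.zero_le _) (Nat.le_of_ble_eq_true rfl) rfl

theorem c481 : Block F al 0 123392 122804 :=
  block_comb c480 b481 (Nat.zero_le _) (Nat.le_of_ble_eq_true rfl) rfl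

theorem c482 : Block F al 0 123648 123060 :=
  block_comb c481 b482 (Nat.zero_le _) (Nat.le_of_ble_eq_true rfl) rfl

theorem c483 : Block F al 0 123904 123316 :=
  block_comb c482 b483 (Nat.zero_le _) (Nat.le_of_ble_eq_true rfl) rfl

theorem c484 : Block F al 0 124160 123572 :=
  block_comb c483 b484 (Nat.zero_le _) (Nat.le_of_ble_eq_true rfl) rfl

theorem c485 : Block F al 0 124416 123828 :=
  block_comb c484 b485 (Nat.zero_le _) (Nat.le_of_ble_eq_true rfl) rfl

theorem c486 : Block F al 0 124672 124084 :=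
  block_comb c485 b486 (Nat.zero_le _) (Nat.le_of_ble_eq_true rfl) rfl

theorem c487 : Block F al 0 124928 124340 :=
  block_comb c486 b487 (Nat.zero_le _) (Nat.le_of_ble_eq_true rfl) rfl

theorem c488 : Block F al 0 125184 124596 :=
  block_comb c487 b488 (Nat.zero_le _) (Nat.le_of_ble_eq_true rfl) rfl

theorem c489 : Block F al 0 125440 124852 :=
  block_comb c488 b489 (Nat.zero_le _) (Nat.le_of_ble_eq_true rfl) rfl

theorem c490 : Block F al 0 125696 125108 :=
  block_comb c489 b490 (Nat.zero_le _) (Nat.le_of_ble_eq_true rfl) rfl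

theorem c491 : Block F al 0 125952 125364 :=
  block_comb c490 b491 (Nat.zero_le _) (Nat.le_of_ble_eq_true rfl) rfl

theorem c492 : Block F al 0 126208 125620 :=
  block_comb c491 b492 (Nat.zero_le _) (Nat.le_of_ble_eq_true rfl) rfl

theorem c493 : Block F al 0 126464 125876 :=
  block_comb c492 b493 (Nat.zero_le _) (Nat.le_of_ble_eq_true rfl) rfl

theorem c494 : Block F al 0 126720 126132 :=
  block_comb c493 b494 (Nat.zero_le _) (Nat.le_of_ble_eq_true rfl) rfl

theorem c495 : Block F al 0 126976 126388 :=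
  block_comb c494 b495 (Nat.zero_le _) (Nat.le_of_ble_eq_true rfl) rfl

theorem c496 : Block F al 0 127232 126644 :=
  block_comb c495 b496 (Nat.zero_le _) (Nat.le_of_ble_eq_true rfl) rfl

theorem c497 : Block F al 0 127488 126900 :=
  block_comb c496 b497 (Nat.zero_le _) (Nat.le_of_ble_eq_true rfl) rfl

theorem c498 : Block F al 0 127744 127156 :=
  block_comb c497 b498 (Nat.zero_le _) (Nat.le_of_ble_eq_true rfl) rfl

theorem c499 : Block F al 0 128000 127412 :=
  block_comb c498 b499 (Nat.zero_le _) (Nat.le_of_ble_eq_true rfl) rfl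

theorem c500 : Block F al 0 128256 127668 :=
  block_comb c499 b500 (Nat.zero_le _) (Nat.le_of_ble_eq_true rfl) rfl

theorem c501 : Block F al 0 128512 127924 :=
  block_comb c500 b501 (Nat.zero_le _) (Nat.le_of_ble_eq_true rfl) rfl

theorem c502 : Block F al 0 128768 128180 :=
  block_comb c501 b502 (Nat.zero_le _) (Nat.le_of_ble_eq_true rfl) rfl

theorem c503 : Block F al 0 129024 128436 :=
  block_comb c502 b503 (Nat.zero_le _) (Nat.le_of_ble_eq_true rfl) rfl

theorem c504 : Block F al 0 129280 128692 :=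
  block_comb c503 b504 (Nat.zero_le _) (Nat.le_of_ble_eq_true rfl) rfl

theorem c505 : Block F al 0 129536 128948 :=
  block_comb c504 b505 (Nat.zero_le _) (Nat.le_of_ble_eq_true rfl) rfl

theorem c506 : Block F al 0 129792 129204 :=
  block_comb c505 b506 (Nat.zero_le _) (Nat.le_of_ble_eq_true rfl) rfl

theorem c507 : Block F al 0 130048 129460 :=
  block_comb c506 b507 (Nat.zero_le _) (Nat.le_of_ble_eq_true rfl) rfl

theorem c508 : Block F al 0 130304 129716 :=
  block_comb c507 b508 (Nat.zero_le _) (Nat.le_of_ble_eq_true rfl) rfl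

theorem c509 : Block F al 0 130560 129972 :=
  block_comb c508 b509 (Nat.zero_le _) (Nat.le_of_ble_eq_true rfl) rfl

theorem c510 : Block F al 0 130816 130228 :=
  block_comb c509 b510 (Nat.zero_le _) (Nat.le_of_ble_eq_true rfl) rfl

theorem c511 : Block F al 0 131072 130484 :=
  block_comb c510 b511 (Nat.zero_le _) (Nat.le_of_ble_eq_true rfl) rfl

theorem c512 : Block F al 0 131328 130740 :=
  block_comb c511 b512 (Nat.zero_le _) (Nat.le_of_ble_eq_true rfl) rfl

theorem c513 : Block F al 0 131584 130996 :=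
  block_comb c512 b513 (Nat.zero_le _) (Nat.le_of_ble_eq_true rfl) rfl

theorem c514 : Block F al 0 131840 131252 :=
  block_comb c513 b514 (Nat.zero_le _) (Nat.le_of_ble_eq_true rfl) rfl

theorem c515 : Block F al 0 132096 131508 :=
  block_comb c514 b515 (Nat.zero_le _) (Nat.le_of_ble_eq_true rfl) rfl

theorem c516 : Block F al 0 132352 131764 :=
  block_comb c515 b516 (Nat.zero_le _) (Nat.le_of_ble_eq_true rfl) rfl

theorem c517 : Block F al 0 132608 132020 :=
  block_comb c516 b517 (Nat.zero_le _) (Nat.le_of_ble_eq_true rfl) rfl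

theorem c518 : Block F al 0 132864 132276 :=
  block_comb c517 b518 (Nat.zero_le _) (Nat.le_of_ble_eq_true rfl) rfl

theorem c519 : Block F al 0 133120 132532 :=
  block_comb c518 b519 (Nat.zero_le _) (Nat.le_of_ble_eq_true rfl) rfl

theorem c520 : Block F al 0 133376 132788 :=
  block_comb c519 b520 (Nat.zero_le _) (Nat.le_of_ble_eq_true rfl) rfl

theorem c521 : Block F al 0 133632 133044 :=
  block_comb c520 b521 (Nat.zero_le _) (Nat.le_of_ble_eq_true rfl) rfl

theorem c522 : Block F al 0 133888 133300 :=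
  block_comb c521 b522 (Nat.zero_le _) (Nat.le_of_ble_eq_true rfl) rfl

theorem c523 : Block F al 0 134144 133556 :=
  block_comb c522 b523 (Nat.zero_le _) (Nat.le_of_ble_eq_true rfl) rfl

theorem c524 : Block F al 0 134400 133812 :=
  block_comb c523 b524 (Nat.zero_le _) (Nat.le_of_ble_eq_true rfl) rfl

theorem c525 : Block F al 0 134656 134068 :=
  block_comb c524 b525 (Nat.zero_le _) (Nat.le_of_ble_eq_true rfl) rfl

theorem c526 : Block F al 0 134912 134324 :=
  block_comb c525 b526 (Nat.zero_le _) (Nat.le_of_ble_eq_true rfl) rfl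

theorem c527 : Block F al 0 135168 134580 :=
  block_comb c526 b527 (Nat.zero_le _) (Nat.le_of_ble_eq_true rfl) rfl

theorem c528 : Block F al 0 135424 134836 :=
  block_comb c527 b528 (Nat.zero_le _) (Nat.le_of_ble_eq_true rfl) rfl

theorem c529 : Block F al 0 135680 135092 :=
  block_comb c528 b529 (Nat.zero_le _) (Nat.le_of_ble_eq_true rfl) rfl

theorem c530 : Block F al 0 135936 135348 :=
  block_comb c529 b530 (Nat.zero_le _) (Nat.le_of_ble_eq_true rfl) rfl

theorem c531 : Block F al 0 136192 135604 :=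
  block_comb c530 b531 (Nat.zero_le _) (Nat.le_of_ble_eq_true rfl) rfl

theorem c532 : Block F al 0 136448 135860 :=
  block_comb c531 b532 (Nat.zero_le _) (Nat.le_of_ble_eq_true rfl) rfl

theorem c533 : Block F al 0 136704 136116 :=
  block_comb c532 b533 (Nat.zero_le _) (Nat.le_of_ble_eq_true rfl) rfl

theorem c534 : Block F al 0 136960 136372 :=
  block_comb c533 b534 (Nat.zero_le _) (Nat.le_of_ble_eq_true rfl) rfl

theorem c535 : Block F al 0 137216 136628 :=
  block_comb c534 b535 (Nat.zero_le _) (Nat.le_of_ble_eq_true rfl) rfl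

theorem c536 : Block F al 0 137472 136884 :=
  block_comb c535 b536 (Nat.zero_le _) (Nat.le_of_ble_eq_true rfl) rfl

theorem c537 : Block F al 0 137728 137140 :=
  block_comb c536 b537 (Nat.zero_le _) (Nat.le_of_ble_eq_true rfl) rfl

theorem c538 : Block F al 0 137984 137396 :=
  block_comb c537 b538 (Nat.zero_le _) (Nat.le_of_ble_eq_true rfl) rfl

theorem c539 : Block F al 0 138240 137652 :=
  block_comb c538 b539 (Nat.zero_le _) (Nat.le_of_ble_eq_true rfl) rfl

theorem c540 : Block F al 0 138496 137908 :=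
  block_comb c539 b540 (Nat.zero_le _) (Nat.le_of_ble_eq_true rfl) rfl

theorem c541 : Block F al 0 138752 138164 :=
  block_comb c540 b541 (Nat.zero_le _) (Nat.le_of_ble_eq_true rfl) rfl

theorem c542 : Block F al 0 139008 138420 :=
  block_comb c541 b542 (Nat.zero_le _) (Nat.le_of_ble_eq_true rfl) rfl

theorem c543 : Block F al 0 139264 138676 :=
  block_comb c542 b543 (Nat.zero_le _) (Nat.le_of_ble_eq_true rfl) rfl

theorem c544 : Block F al 0 139520 138932 :=
  block_comb c543 b544 (Nat.zero_le _) (Nat.le_of_ble_eq_true rfl) rfl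

theorem c545 : Block F al 0 139776 139188 :=
  block_comb c544 b545 (Nat.zero_le _) (Nat.le_of_ble_eq_true rfl) rfl

theorem c546 : Block F al 0 140032 139444 :=
  block_comb c545 b546 (Nat.zero_le _) (Nat.le_of_ble_eq_true rfl) rfl

theorem c547 : Block F al 0 140288 139700 :=
  block_comb c546 b547 (Nat.zero_le _) (Nat.le_of_ble_eq_true rfl) rfl

theorem c548 : Block F al 0 140544 139956 :=
  block_comb c547 b548 (Nat.zero_le _) (Nat.le_of_ble_eq_true rfl) rfl

theorem c549 : Block F al 0 140800 140212 :=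
  block_comb c548 b549 (Nat.zero_le _) (Nat.le_of_ble_eq_true rfl) rfl

theorem c550 : Block F al 0 141056 140468 :=
  block_comb c549 b550 (Nat.zero_le _) (Nat.le_of_ble_eq_true rfl) rfl

theorem c551 : Block F al 0 141312 140724 :=
  block_comb c550 b551 (Nat.zero_le _) (Nat.le_of_ble_eq_true rfl) rfl

theorem c552 : Block F al 0 141568 140980 :=
  block_comb c551 b552 (Nat.zero_le _) (Nat.le_of_ble_eq_true rfl) rfl

theorem c553 : Block F al 0 141824 141236 :=
  block_comb c552 b553 (Nat.zero_le _) (Nat.le_of_ble_eq_true rfl) rfl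

theorem c554 : Block F al 0 142080 141492 :=
  block_comb c553 b554 (Nat.zero_le _) (Nat.le_of_ble_eq_true rfl) rfl

theorem c555 : Block F al 0 142336 141748 :=
  block_comb c554 b555 (Nat.zero_le _) (Nat.le_of_ble_eq_true rfl) rfl

theorem c556 : Block F al 0 142592 142004 :=
  block_comb c555 b556 (Nat.zero_le _) (Nat.le_of_ble_eq_true rfl) rfl

theorem c557 : Block F al 0 142848 142260 :=
  block_comb c556 b557 (Nat.zero_le _) (Nat.le_of_ble_eq_true rfl) rfl

theorem c558 : Block F al 0 143104 142516 :=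
  block_comb c557 b558 (Nat.zero_le _) (Nat.le_of_ble_eq_true rfl) rfl

theorem c559 : Block F al 0 143360 142772 :=
  block_comb c558 b559 (Nat.zero_le _) (Nat.le_of_ble_eq_true rfl) rfl

theorem c560 : Block F al 0 143616 143028 :=
  block_comb c559 b560 (Nat.zero_le _) (Nat.le_of_ble_eq_true rfl) rfl

theorem c561 : Block F al 0 143872 143284 :=
  block_comb c560 b561 (Nat.zero_le _) (Nat.le_of_ble_eq_true rfl) rfl

theorem c562 : Block F al 0 144128 143540 :=
  block_comb c561 b562 (Nat.zero_le _) (Nat.le_of_ble_eq_true rfl) rfl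

theorem c563 : Block F al 0 144384 143796 :=
  block_comb c562 b563 (Nat.zero_le _) (Nat.le_of_ble_eq_true rfl) rfl

theorem c564 : Block F al 0 144640 144052 :=
  block_comb c563 b564 (Nat.zero_le _) (Nat.le_of_ble_eq_true rfl) rfl

theorem c565 : Block F al 0 144896 144308 :=
  block_comb c564 b565 (Nat.zero_le _) (Nat.le_of_ble_eq_true rfl) rfl

theorem c566 : Block F al 0 145152 144564 :=
  block_comb c565 b566 (Nat.zero_le _) (Nat.le_of_ble_eq_true rfl) rfl

theorem c567 : Block F al 0 145408 144820 :=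
  block_comb c566 b567 (Nat.zero_le _) (Nat.le_of_ble_eq_true rfl) rfl

theorem c568 : Block F al 0 145664 145076 :=
  block_comb c567 b568 (Nat.zero_le _) (Nat.le_of_ble_eq_true rfl) rfl

theorem c569 : Block F al 0 145920 145332 :=
  block_comb c568 b569 (Nat.zero_le _) (Nat.le_of_ble_eq_true rfl) rfl

theorem c570 : Block F al 0 146176 145588 :=
  block_comb c569 b570 (Nat.zero_le _) (Nat.le_of_ble_eq_true rfl) rfl

theorem c571 : Block F al 0 146432 145844 :=
  block_comb c570 b571 (Nat.zero_le _) (Nat.le_of_ble_eq_true rfl) rfl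

theorem c572 : Block F al 0 146688 146100 :=
  block_comb c571 b572 (Nat.zero_le _) (Nat.le_of_ble_eq_true rfl) rfl

theorem c573 : Block F al 0 146944 146356 :=
  block_comb c572 b573 (Nat.zero_le _) (Nat.le_of_ble_eq_true rfl) rfl

theorem c574 : Block F al 0 147200 146612 :=
  block_comb c573 b574 (Nat.zero_le _) (Nat.le_of_ble_eq_true rfl) rfl

theorem c575 : Block F al 0 147456 146868 :=
  block_comb c574 b575 (Nat.zero_le _) (Nat.le_of_ble_eq_true rfl) rfl

theorem c576 : Block F al 0 147712 147124 :=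
  block_comb c575 b576 (Nat.zero_le _) (Nat.le_of_ble_eq_true rfl) rfl

theorem c577 : Block F al 0 147968 147380 :=
  block_comb c576 b577 (Nat.zero_le _) (Nat.le_of_ble_eq_true rfl) rfl

theorem c578 : Block F al 0 148224 147636 :=
  block_comb c577 b578 (Nat.zero_le _) (Nat.le_of_ble_eq_true rfl) rfl

theorem c579 : Block F al 0 148480 147892 :=
  block_comb c578 b579 (Nat.zero_le _) (Nat.le_of_ble_eq_true rfl) rfl

theorem c580 : Block F al 0 148736 148148 :=
  block_comb c579 b580 (Nat.zero_le _) (Nat.le_of_ble_eq_true rfl) rfl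

theorem c581 : Block F al 0 148992 148404 :=
  block_comb c580 b581 (Nat.zero_le _) (Nat.le_of_ble_eq_true rfl) rfl

theorem c582 : Block F al 0 149248 148660 :=
  block_comb c581 b582 (Nat.zero_le _) (Nat.le_of_ble_eq_true rfl) rfl

theorem c583 : Block F al 0 149504 148916 :=
  block_comb c582 b583 (Nat.zero_le _) (Nat.le_of_ble_eq_true rfl) rfl

theorem c584 : Block F al 0 149760 149172 :=
  block_comb c583 b584 (Nat.zero_le _) (Nat.le_of_ble_eq_true rfl) rfl

theorem c585 : Block F al 0 150016 149428 :=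
  block_comb c584 b585 (Nat.zero_le _) (Nat.le_of_ble_eq_true rfl) rfl

theorem c586 : Block F al 0 150272 149684 :=
  block_comb c585 b586 (Nat.zero_le _) (Nat.le_of_ble_eq_true rfl) rfl

theorem c587 : Block F al 0 150528 149940 :=
  block_comb c586 b587 (Nat.zero_le _) (Nat.le_of_ble_eq_true rfl) rfl

theorem c588 : Block F al 0 150784 150196 :=
  block_comb c587 b588 (Nat.zero_le _) (Nat.le_of_ble_eq_true rfl) rfl

theorem c589 : Block F al 0 151040 150452 :=
  block_comb c588 b589 (Nat.zero_le _) (Nat.le_of_ble_eq_true rfl) rfl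

theorem c590 : Block F al 0 151296 150708 :=
  block_comb c589 b590 (Nat.zero_le _) (Nat.le_of_ble_eq_true rfl) rfl

theorem c591 : Block F al 0 151552 150964 :=
  block_comb c590 b591 (Nat.zero_le _) (Nat.le_of_ble_eq_true rfl) rfl

theorem c592 : Block F al 0 151808 151220 :=
  block_comb c591 b592 (Nat.zero_le _) (Nat.le_of_ble_eq_true rfl) rfl

theorem c593 : Block F al 0 152064 151476 :=
  block_comb c592 b593 (Nat.zero_le _) (Nat.le_of_ble_eq_true rfl) rfl

theorem c594 : Block F al 0 152320 151732 :=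
  block_comb c593 b594 (Nat.zero_le _) (Nat.le_of_ble_eq_true rfl) rfl

theorem c595 : Block F al 0 152576 151988 :=
  block_comb c594 b595 (Nat.zero_le _) (Nat.le_of_ble_eq_true rfl) rfl

theorem c596 : Block F al 0 152832 152244 :=
  block_comb c595 b596 (Nat.zero_le _) (Nat.le_of_ble_eq_true rfl) rfl

theorem c597 : Block F al 0 153088 152500 :=
  block_comb c596 b597 (Nat.zero_le _) (Nat.le_of_ble_eq_true rfl) rfl

theorem c598 : Block F al 0 153344 152756 :=
  block_comb c597 b598 (Nat.zero_le _) (Nat.le_of_ble_eq_true rfl) rfl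

theorem c599 : Block F al 0 153600 153012 :=
  block_comb c598 b599 (Nat.zero_le _) (Nat.le_of_ble_eq_true rfl) rfl

theorem c600 : Block F al 0 153856 153268 :=
  block_comb c599 b600 (Nat.zero_le _) (Nat.le_of_ble_eq_true rfl) rfl

theorem c601 : Block F al 0 154112 153524 :=
  block_comb c600 b601 (Nat.zero_le _) (Nat.le_of_ble_eq_true rfl) rfl

theorem c602 : Block F al 0 154368 153780 :=
  block_comb c601 b602 (Nat.zero_le _) (Nat.le_of_ble_eq_true rfl) rfl

theorem c603 : Block F al 0 154624 154036 :=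
  block_comb c602 b603 (Nat.zero_le _) (Nat.le_of_ble_eq_true rfl) rfl

theorem c604 : Block F al 0 154880 154292 :=
  block_comb c603 b604 (Nat.zero_le _) (Nat.le_of_ble_eq_true rfl) rfl

theorem c605 : Block F al 0 155136 154548 :=
  block_comb c604 b605 (Nat.zero_le _) (Nat.le_of_ble_eq_true rfl) rfl

theorem c606 : Block F al 0 155392 154804 :=
  block_comb c605 b606 (Nat.zero_le _) (Nat.le_of_ble_eq_true rfl) rfl

theorem c607 : Block F al 0 155648 155060 :=
  block_comb c606 b607 (Nat.zero_le _) (Nat.le_of_ble_eq_true rfl) rfl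

theorem c608 : Block F al 0 155904 155316 :=
  block_comb c607 b608 (Nat.zero_le _) (Nat.le_of_ble_eq_true rfl) rfl

theorem c609 : Block F al 0 156160 155572 :=
  block_comb c608 b609 (Nat.zero_le _) (Nat.le_of_ble_eq_true rfl) rfl

theorem c610 : Block F al 0 156416 155828 :=
  block_comb c609 b610 (Nat.zero_le _) (Nat.le_of_ble_eq_true rfl) rfl

theorem c611 : Block F al 0 156672 156084 :=
  block_comb c610 b611 (Nat.zero_le _) (Nat.le_of_ble_eq_true rfl) rfl

theorem c612 : Block F al 0 156928 156340 :=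
  block_comb c611 b612 (Nat.zero_le _) (Nat.le_of_ble_eq_true rfl) rfl

theorem c613 : Block F al 0 157184 156596 :=
  block_comb c612 b613 (Nat.zero_le _) (Nat.le_of_ble_eq_true rfl) rfl

theorem c614 : Block F al 0 157440 156852 :=
  block_comb c613 b614 (Nat.zero_le _) (Nat.le_of_ble_eq_true rfl) rfl

theorem c615 : Block F al 0 157696 157108 :=
  block_comb c614 b615 (Nat.zero_le _) (Nat.le_of_ble_eq_true rfl) rfl

theorem c616 : Block F al 0 157952 157364 :=
  block_comb c615 b616 (Nat.zero_le _) (Nat.le_of_ble_eq_true rfl) rfl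

theorem c617 : Block F al 0 158208 157620 :=
  block_comb c616 b617 (Nat.zero_le _) (Nat.le_of_ble_eq_true rfl) rfl

theorem c618 : Block F al 0 158464 157876 :=
  block_comb c617 b618 (Nat.zero_le _) (Nat.le_of_ble_eq_true rfl) rfl

theorem c619 : Block F al 0 158720 158132 :=
  block_comb c618 b619 (Nat.zero_le _) (Nat.le_of_ble_eq_true rfl) rfl

theorem c620 : Block F al 0 158976 158388 :=
  block_comb c619 b620 (Nat.zero_le _) (Nat.le_of_ble_eq_true rfl) rfl

theorem c621 : Block F al 0 159232 158644 :=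
  block_comb c620 b621 (Nat.zero_le _) (Nat.le_of_ble_eq_true rfl) rfl

theorem c622 : Block F al 0 159488 158900 :=
  block_comb c621 b622 (Nat.zero_le _) (Nat.le_of_ble_eq_true rfl) rfl

theorem c623 : Block F al 0 159744 159156 :=
  block_comb c622 b623 (Nat.zero_le _) (Nat.le_of_ble_eq_true rfl) rfl

theorem c624 : Block F al 0 160000 159412 :=
  block_comb c623 b624 (Nat.zero_le _) (Nat.le_of_ble_eq_true rfl) rfl

theorem c625 : Block F al 0 160256 159668 :=
  block_comb c624 b625 (Nat.zero_le _) (Nat.le_of_ble_eq_true rfl) rfl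

theorem c626 : Block F al 0 160512 159924 :=
  block_comb c625 b626 (Nat.zero_le _) (Nat.le_of_ble_eq_true rfl) rfl

theorem c627 : Block F al 0 160768 160180 :=
  block_comb c626 b627 (Nat.zero_le _) (Nat.le_of_ble_eq_true rfl) rfl

theorem c628 : Block F al 0 161024 160436 :=
  block_comb c627 b628 (Nat.zero_le _) (Nat.le_of_ble_eq_true rfl) rfl

theorem c629 : Block F al 0 161280 160692 :=
  block_comb c628 b629 (Nat.zero_le _) (Nat.le_of_ble_eq_true rfl) rfl

theorem c630 : Block F al 0 161536 160948 :=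
  block_comb c629 b630 (Nat.zero_le _) (Nat.le_of_ble_eq_true rfl) rfl

theorem c631 : Block F al 0 161792 161204 :=
  block_comb c630 b631 (Nat.zero_le _) (Nat.le_of_ble_eq_true rfl) rfl

theorem c632 : Block F al 0 162048 161460 :=
  block_comb c631 b632 (Nat.zero_le _) (Nat.le_of_ble_eq_true rfl) rfl

theorem c633 : Block F al 0 162304 161716 :=
  block_comb c632 b633 (Nat.zero_le _) (Nat.le_of_ble_eq_true rfl) rfl

theorem c634 : Block F al 0 162560 161972 :=
  block_comb c633 b634 (Nat.zero_le _) (Nat.le_of_ble_eq_true rfl) rfl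

theorem c635 : Block F al 0 162816 162228 :=
  block_comb c634 b635 (Nat.zero_le _) (Nat.le_of_ble_eq_true rfl) rfl

theorem c636 : Block F al 0 163072 162484 :=
  block_comb c635 b636 (Nat.zero_le _) (Nat.le_of_ble_eq_true rfl) rfl

theorem c637 : Block F al 0 163328 162740 :=
  block_comb c636 b637 (Nat.zero_le _) (Nat.le_of_ble_eq_true rfl) rfl

theorem c638 : Block F al 0 163584 162996 :=
  block_comb c637 b638 (Nat.zero_le _) (Nat.le_of_ble_eq_true rfl) rfl

theorem c639 : Block F al 0 163840 163252 :=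
  block_comb c638 b639 (Nat.zero_le _) (Nat.le_of_ble_eq_true rfl) rfl

theorem c640 : Block F al 0 164096 163508 :=
  block_comb c639 b640 (Nat.zero_le _) (Nat.le_of_ble_eq_true rfl) rfl

theorem c641 : Block F al 0 164352 163764 :=
  block_comb c640 b641 (Nat.zero_le _) (Nat.le_of_ble_eq_true rfl) rfl

theorem c642 : Block F al 0 164608 164020 :=
  block_comb c641 b642 (Nat.zero_le _) (Nat.le_of_ble_eq_true rfl) rfl

theorem c643 : Block F al 0 164864 164276 :=
  block_comb c642 b643 (Nat.zero_le _) (Nat.le_of_ble_eq_true rfl) rfl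

theorem c644 : Block F al 0 165120 164532 :=
  block_comb c643 b644 (Nat.zero_le _) (Nat.le_of_ble_eq_true rfl) rfl

theorem c645 : Block F al 0 165376 164788 :=
  block_comb c644 b645 (Nat.zero_le _) (Nat.le_of_ble_eq_true rfl) rfl

theorem c646 : Block F al 0 165632 165044 :=
  block_comb c645 b646 (Nat.zero_le _) (Nat.le_of_ble_eq_true rfl) rfl

theorem c647 : Block F al 0 165888 165300 :=
  block_comb c646 b647 (Nat.zero_le _) (Nat.le_of_ble_eq_true rfl) rfl

theorem c648 : Block F al 0 166144 165556 :=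
  block_comb c647 b648 (Nat.zero_le _) (Nat.le_of_ble_eq_true rfl) rfl

theorem c649 : Block F al 0 166400 165812 :=
  block_comb c648 b649 (Nat.zero_le _) (Nat.le_of_ble_eq_true rfl) rfl

theorem c650 : Block F al 0 166656 166068 :=
  block_comb c649 b650 (Nat.zero_le _) (Nat.le_of_ble_eq_true rfl) rfl

theorem c651 : Block F al 0 166912 166324 :=
  block_comb c650 b651 (Nat.zero_le _) (Nat.le_of_ble_eq_true rfl) rfl

theorem c652 : Block F al 0 167168 166580 :=
  block_comb c651 b652 (Nat.zero_le _) (Nat.le_of_ble_eq_true rfl) rfl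

theorem c653 : Block F al 0 167424 166836 :=
  block_comb c652 b653 (Nat.zero_le _) (Nat.le_of_ble_eq_true rfl) rfl

theorem c654 : Block F al 0 167680 167092 :=
  block_comb c653 b654 (Nat.zero_le _) (Nat.le_of_ble_eq_true rfl) rfl

theorem c655 : Block F al 0 167936 167348 :=
  block_comb c654 b655 (Nat.zero_le _) (Nat.le_of_ble_eq_true rfl) rfl

theorem c656 : Block F al 0 168192 167604 :=
  block_comb c655 b656 (Nat.zero_le _) (Nat.le_of_ble_eq_true rfl) rfl

theorem c657 : Block F al 0 168448 167860 :=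
  block_comb c656 b657 (Nat.zero_le _) (Nat.le_of_ble_eq_true rfl) rfl

theorem c658 : Block F al 0 168704 168116 :=
  block_comb c657 b658 (Nat.zero_le _) (Nat.le_of_ble_eq_true rfl) rfl

theorem c659 : Block F al 0 168960 168372 :=
  block_comb c658 b659 (Nat.zero_le _) (Nat.le_of_ble_eq_true rfl) rfl

theorem c660 : Block F al 0 169216 168628 :=
  block_comb c659 b660 (Nat.zero_le _) (Nat.le_of_ble_eq_true rfl) rfl

theorem c661 : Block F al 0 169472 168884 :=
  block_comb c660 b661 (Nat.zero_le _) (Nat.le_of_ble_eq_true rfl) rfl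

theorem c662 : Block F al 0 169728 169140 :=
  block_comb c661 b662 (Nat.zero_le _) (Nat.le_of_ble_eq_true rfl) rfl

theorem c663 : Block F al 0 169984 169396 :=
  block_comb c662 b663 (Nat.zero_le _) (Nat.le_of_ble_eq_true rfl) rfl

theorem c664 : Block F al 0 170240 169652 :=
  block_comb c663 b664 (Nat.zero_le _) (Nat.le_of_ble_eq_true rfl) rfl

theorem c665 : Block F al 0 170496 169908 :=
  block_comb c664 b665 (Nat.zero_le _) (Nat.le_of_ble_eq_true rfl) rfl

theorem c666 : Block F al 0 170752 170164 :=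
  block_comb c665 b666 (Nat.zero_le _) (Nat.le_of_ble_eq_true rfl) rfl

theorem c667 : Block F al 0 171008 170420 :=
  block_comb c666 b667 (Nat.zero_le _) (Nat.le_of_ble_eq_true rfl) rfl

theorem c668 : Block F al 0 171264 170676 :=
  block_comb c667 b668 (Nat.zero_le _) (Nat.le_of_ble_eq_true rfl) rfl

theorem c669 : Block F al 0 171520 170932 :=
  block_comb c668 b669 (Nat.zero_le _) (Nat.le_of_ble_eq_true rfl) rfl

theorem c670 : Block F al 0 171776 171188 :=
  block_comb c669 b670 (Nat.zero_le _) (Nat.le_of_ble_eq_true rfl) rfl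

theorem c671 : Block F al 0 172032 171444 :=
  block_comb c670 b671 (Nat.zero_le _) (Nat.le_of_ble_eq_true rfl) rfl

theorem c672 : Block F al 0 172288 171700 :=
  block_comb c671 b672 (Nat.zero_le _) (Nat.le_of_ble_eq_true rfl) rfl

theorem c673 : Block F al 0 172544 171956 :=
  block_comb c672 b673 (Nat.zero_le _) (Nat.le_of_ble_eq_true rfl) rfl

theorem c674 : Block F al 0 172800 172212 :=
  block_comb c673 b674 (Nat.zero_le _) (Nat.le_of_ble_eq_true rfl) rfl

theorem c675 : Block F al 0 173056 172468 :=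
  block_comb c674 b675 (Nat.zero_le _) (Nat.le_of_ble_eq_true rfl) rfl

theorem c676 : Block F al 0 173312 172724 :=
  block_comb c675 b676 (Nat.zero_le _) (Nat.le_of_ble_eq_true rfl) rfl

theorem c677 : Block F al 0 173568 172980 :=
  block_comb c676 b677 (Nat.zero_le _) (Nat.le_of_ble_eq_true rfl) rfl

theorem c678 : Block F al 0 173824 173236 :=
  block_comb c677 b678 (Nat.zero_le _) (Nat.le_of_ble_eq_true rfl) rfl

theorem c679 : Block F al 0 174080 173492 :=
  block_comb c678 b679 (Nat.zero_le _) (Nat.le_of_ble_eq_true rfl) rfl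

theorem c680 : Block F al 0 174336 173748 :=
  block_comb c679 b680 (Nat.zero_le _) (Nat.le_of_ble_eq_true rfl) rfl

theorem c681 : Block F al 0 174592 174004 :=
  block_comb c680 b681 (Nat.zero_le _) (Nat.le_of_ble_eq_true rfl) rfl

theorem c682 : Block F al 0 174848 174260 :=
  block_comb c681 b682 (Nat.zero_le _) (Nat.le_of_ble_eq_true rfl) rfl

theorem c683 : Block F al 0 175104 174516 :=
  block_comb c682 b683 (Nat.zero_le _) (Nat.le_of_ble_eq_true rfl) rfl

theorem c684 : Block F al 0 175360 174772 :=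
  block_comb c683 b684 (Nat.zero_le _) (Nat.le_of_ble_eq_true rfl) rfl

theorem c685 : Block F al 0 175616 175028 :=
  block_comb c684 b685 (Nat.zero_le _) (Nat.le_of_ble_eq_true rfl) rfl

theorem c686 : Block F al 0 175872 175284 :=
  block_comb c685 b686 (Nat.zero_le _) (Nat.le_of_ble_eq_true rfl) rfl

theorem c687 : Block F al 0 176128 175540 :=
  block_comb c686 b687 (Nat.zero_le _) (Nat.le_of_ble_eq_true rfl) rfl

theorem c688 : Block F al 0 176384 175796 :=
  block_comb c687 b688 (Nat.zero_le _) (Nat.le_of_ble_eq_true rfl) rfl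

theorem c689 : Block F al 0 176640 176052 :=
  block_comb c688 b689 (Nat.zero_le _) (Nat.le_of_ble_eq_true rfl) rfl

theorem c690 : Block F al 0 176896 176308 :=
  block_comb c689 b690 (Nat.zero_le _) (Nat.le_of_ble_eq_true rfl) rfl

theorem c691 : Block F al 0 177152 176564 :=
  block_comb c690 b691 (Nat.zero_le _) (Nat.le_of_ble_eq_true rfl) rfl

theorem c692 : Block F al 0 177408 176820 :=
  block_comb c691 b692 (Nat.zero_le _) (Nat.le_of_ble_eq_true rfl) rfl

theorem c693 : Block F al 0 177664 177076 :=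
  block_comb c692 b693 (Nat.zero_le _) (Nat.le_of_ble_eq_true rfl) rfl

theorem c694 : Block F al 0 177920 177332 :=
  block_comb c693 b694 (Nat.zero_le _) (Nat.le_of_ble_eq_true rfl) rfl

theorem c695 : Block F al 0 178176 177588 :=
  block_comb c694 b695 (Nat.zero_le _) (Nat.le_of_ble_eq_true rfl) rfl

theorem c696 : Block F al 0 178432 177844 :=
  block_comb c695 b696 (Nat.zero_le _) (Nat.le_of_ble_eq_true rfl) rfl

theorem c697 : Block F al 0 178688 178100 :=
  block_comb c696 b697 (Nat.zero_le _) (Nat.le_of_ble_eq_true rfl) rfl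

theorem c698 : Block F al 0 178944 178356 :=
  block_comb c697 b698 (Nat.zero_le _) (Nat.le_of_ble_eq_true rfl) rfl

theorem c699 : Block F al 0 179200 178612 :=
  block_comb c698 b699 (Nat.zero_le _) (Nat.le_of_ble_eq_true rfl) rfl

theorem c700 : Block F al 0 179456 178868 :=
  block_comb c699 b700 (Nat.zero_le _) (Nat.le_of_ble_eq_true rfl) rfl

theorem c701 : Block F al 0 179712 179124 :=
  block_comb c700 b701 (Nat.zero_le _) (Nat.le_of_ble_eq_true rfl) rfl

theorem c702 : Block F al 0 179968 179380 :=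
  block_comb c701 b702 (Nat.zero_le _) (Nat.le_of_ble_eq_true rfl) rfl

theorem c703 : Block F al 0 180224 179636 :=
  block_comb c702 b703 (Nat.zero_le _) (Nat.le_of_ble_eq_true rfl) rfl

theorem c704 : Block F al 0 180480 179892 :=
  block_comb c703 b704 (Nat.zero_le _) (Nat.le_of_ble_eq_true rfl) rfl

theorem c705 : Block F al 0 180736 180148 :=
  block_comb c704 b705 (Nat.zero_le _) (Nat.le_of_ble_eq_true rfl) rfl

theorem c706 : Block F al 0 180992 180404 :=
  block_comb c705 b706 (Nat.zero_le _) (Nat.le_of_ble_eq_true rfl) rfl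

theorem c707 : Block F al 0 181248 180660 :=
  block_comb c706 b707 (Nat.zero_le _) (Nat.le_of_ble_eq_true rfl) rfl

theorem c708 : Block F al 0 181504 180916 :=
  block_comb c707 b708 (Nat.zero_le _) (Nat.le_of_ble_eq_true rfl) rfl

theorem c709 : Block F al 0 181760 181172 :=
  block_comb c708 b709 (Nat.zero_le _) (Nat.le_of_ble_eq_true rfl) rfl

theorem c710 : Block F al 0 182016 181428 :=
  block_comb c709 b710 (Nat.zero_le _) (Nat.le_of_ble_eq_true rfl) rfl

theorem c711 : Block F al 0 182272 181684 :=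
  block_comb c710 b711 (Nat.zero_le _) (Nat.le_of_ble_eq_true rfl) rfl

theorem c712 : Block F al 0 182528 181940 :=
  block_comb c711 b712 (Nat.zero_le _) (Nat.le_of_ble_eq_true rfl) rfl

theorem c713 : Block F al 0 182784 182196 :=
  block_comb c712 b713 (Nat.zero_le _) (Nat.le_of_ble_eq_true rfl) rfl

theorem c714 : Block F al 0 183040 182452 :=
  block_comb c713 b714 (Nat.zero_le _) (Nat.le_of_ble_eq_true rfl) rfl

theorem c715 : Block F al 0 183296 182708 :=
  block_comb c714 b715 (Nat.zero_le _) (Nat.le_of_ble_eq_true rfl) rfl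

theorem c716 : Block F al 0 183552 182964 :=
  block_comb c715 b716 (Nat.zero_le _) (Nat.le_of_ble_eq_true rfl) rfl

theorem c717 : Block F al 0 183808 183220 :=
  block_comb c716 b717 (Nat.zero_le _) (Nat.le_of_ble_eq_true rfl) rfl

theorem c718 : Block F al 0 184064 183476 :=
  block_comb c717 b718 (Nat.zero_le _) (Nat.le_of_ble_eq_true rfl) rfl

theorem c719 : Block F al 0 184320 183732 :=
  block_comb c718 b719 (Nat.zero_le _) (Nat.le_of_ble_eq_true rfl) rfl

theorem c720 : Block F al 0 184576 183988 :=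
  block_comb c719 b720 (Nat.zero_le _) (Nat.le_of_ble_eq_true rfl) rfl

theorem c721 : Block F al 0 184832 184244 :=
  block_comb c720 b721 (Nat.zero_le _) (Nat.le_of_ble_eq_true rfl) rfl

theorem c722 : Block F al 0 185088 184500 :=
  block_comb c721 b722 (Nat.zero_le _) (Nat.le_of_ble_eq_true rfl) rfl

theorem c723 : Block F al 0 185344 184756 :=
  block_comb c722 b723 (Nat.zero_le _) (Nat.le_of_ble_eq_true rfl) rfl

theorem c724 : Block F al 0 185600 185012 :=
  block_comb c723 b724 (Nat.zero_le _) (Nat.le_of_ble_eq_true rfl) rfl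

theorem c725 : Block F al 0 185856 185268 :=
  block_comb c724 b725 (Nat.zero_le _) (Nat.le_of_ble_eq_true rfl) rfl

theorem c726 : Block F al 0 186112 185524 :=
  block_comb c725 b726 (Nat.zero_le _) (Nat.le_of_ble_eq_true rfl) rfl

theorem c727 : Block F al 0 186368 185780 :=
  block_comb c726 b727 (Nat.zero_le _) (Nat.le_of_ble_eq_true rfl) rfl

theorem c728 : Block F al 0 186624 186036 :=
  block_comb c727 b728 (Nat.zero_le _) (Nat.le_of_ble_eq_true rfl) rfl

theorem c729 : Block F al 0 186880 186292 :=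
  block_comb c728 b729 (Nat.zero_le _) (Nat.le_of_ble_eq_true rfl) rfl

theorem c730 : Block F al 0 187136 186548 :=
  block_comb c729 b730 (Nat.zero_le _) (Nat.le_of_ble_eq_true rfl) rfl

theorem c731 : Block F al 0 187392 186804 :=
  block_comb c730 b731 (Nat.zero_le _) (Nat.le_of_ble_eq_true rfl) rfl

theorem c732 : Block F al 0 187648 187060 :=
  block_comb c731 b732 (Nat.zero_le _) (Nat.le_of_ble_eq_true rfl) rfl

theorem c733 : Block F al 0 187904 187316 :=
  block_comb c732 b733 (Nat.zero_le _) (Nat.le_of_ble_eq_true rfl) rfl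

theorem c734 : Block F al 0 188160 187572 :=
  block_comb c733 b734 (Nat.zero_le _) (Nat.le_of_ble_eq_true rfl) rfl

theorem c735 : Block F al 0 188416 187828 :=
  block_comb c734 b735 (Nat.zero_le _) (Nat.le_of_ble_eq_true rfl) rfl

theorem c736 : Block F al 0 188672 188084 :=
  block_comb c735 b736 (Nat.zero_le _) (Nat.le_of_ble_eq_true rfl) rfl

theorem c737 : Block F al 0 188928 188340 :=
  block_comb c736 b737 (Nat.zero_le _) (Nat.le_of_ble_eq_true rfl) rfl

theorem c738 : Block F al 0 189184 188596 :=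
  block_comb c737 b738 (Nat.zero_le _) (Nat.le_of_ble_eq_true rfl) rfl

theorem c739 : Block F al 0 189440 188852 :=
  block_comb c738 b739 (Nat.zero_le _) (Nat.le_of_ble_eq_true rfl) rfl

theorem c740 : Block F al 0 189696 189108 :=
  block_comb c739 b740 (Nat.zero_le _) (Nat.le_of_ble_eq_true rfl) rfl

theorem c741 : Block F al 0 189952 189364 :=
  block_comb c740 b741 (Nat.zero_le _) (Nat.le_of_ble_eq_true rfl) rfl

theorem c742 : Block F al 0 190208 189620 :=
  block_comb c741 b742 (Nat.zero_le _) (Nat.le_of_ble_eq_true rfl) rfl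

theorem c743 : Block F al 0 190464 189876 :=
  block_comb c742 b743 (Nat.zero_le _) (Nat.le_of_ble_eq_true rfl) rfl

theorem c744 : Block F al 0 190720 190132 :=
  block_comb c743 b744 (Nat.zero_le _) (Nat.le_of_ble_eq_true rfl) rfl

theorem c745 : Block F al 0 190976 190388 :=
  block_comb c744 b745 (Nat.zero_le _) (Nat.le_of_ble_eq_true rfl) rfl

theorem c746 : Block F al 0 191232 190644 :=
  block_comb c745 b746 (Nat.zero_le _) (Nat.le_of_ble_eq_true rfl) rfl

theorem c747 : Block F al 0 191488 190900 :=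
  block_comb c746 b747 (Nat.zero_le _) (Nat.le_of_ble_eq_true rfl) rfl

theorem c748 : Block F al 0 191744 191156 :=
  block_comb c747 b748 (Nat.zero_le _) (Nat.le_of_ble_eq_true rfl) rfl

theorem c749 : Block F al 0 192000 191412 :=
  block_comb c748 b749 (Nat.zero_le _) (Nat.le_of_ble_eq_true rfl) rfl

theorem c750 : Block F al 0 192256 191668 :=
  block_comb c749 b750 (Nat.zero_le _) (Nat.le_of_ble_eq_true rfl) rfl

theorem c751 : Block F al 0 192512 191924 :=
  block_comb c750 b751 (Nat.zero_le _) (Nat.le_of_ble_eq_true rfl) rfl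

theorem c752 : Block F al 0 192768 192180 :=
  block_comb c751 b752 (Nat.zero_le _) (Nat.le_of_ble_eq_true rfl) rfl

theorem c753 : Block F al 0 193024 192436 :=
  block_comb c752 b753 (Nat.zero_le _) (Nat.le_of_ble_eq_true rfl) rfl

theorem c754 : Block F al 0 193280 192692 :=
  block_comb c753 b754 (Nat.zero_le _) (Nat.le_of_ble_eq_true rfl) rfl

theorem c755 : Block F al 0 193536 192948 :=
  block_comb c754 b755 (Nat.zero_le _) (Nat.le_of_ble_eq_true rfl) rfl

theorem c756 : Block F al 0 193792 193204 :=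
  block_comb c755 b756 (Nat.zero_le _) (Nat.le_of_ble_eq_true rfl) rfl

theorem c757 : Block F al 0 194048 193460 :=
  block_comb c756 b757 (Nat.zero_le _) (Nat.le_of_ble_eq_true rfl) rfl

theorem c758 : Block F al 0 194304 193716 :=
  block_comb c757 b758 (Nat.zero_le _) (Nat.le_of_ble_eq_true rfl) rfl

theorem c759 : Block F al 0 194560 193972 :=
  block_comb c758 b759 (Nat.zero_le _) (Nat.le_of_ble_eq_true rfl) rfl

theorem c760 : Block F al 0 194816 194228 :=
  block_comb c759 b760 (Nat.zero_le _) (Nat.le_of_ble_eq_true rfl) rfl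

theorem c761 : Block F al 0 195072 194484 :=
  block_comb c760 b761 (Nat.zero_le _) (Nat.le_of_ble_eq_true rfl) rfl

theorem c762 : Block F al 0 195328 194740 :=
  block_comb c761 b762 (Nat.zero_le _) (Nat.le_of_ble_eq_true rfl) rfl

theorem c763 : Block F al 0 195584 194996 :=
  block_comb c762 b763 (Nat.zero_le _) (Nat.le_of_ble_eq_true rfl) rfl

theorem c764 : Block F al 0 195840 195252 :=
  block_comb c763 b764 (Nat.zero_le _) (Nat.le_of_ble_eq_true rfl) rfl

theorem c765 : Block F al 0 196096 195508 :=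
  block_comb c764 b765 (Nat.zero_le _) (Nat.le_of_ble_eq_true rfl) rfl

theorem c766 : Block F al 0 196352 195764 :=
  block_comb c765 b766 (Nat.zero_le _) (Nat.le_of_ble_eq_true rfl) rfl

theorem c767 : Block F al 0 196608 196020 :=
  block_comb c766 b767 (Nat.zero_le _) (Nat.le_of_ble_eq_true rfl) rfl

theorem c768 : Block F al 0 196864 196276 :=
  block_comb c767 b768 (Nat.zero_le _) (Nat.le_of_ble_eq_true rfl) rfl

theorem c769 : Block F al 0 197120 196532 :=
  block_comb c768 b769 (Nat.zero_le _) (Nat.le_of_ble_eq_true rfl) rfl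

theorem c770 : Block F al 0 197376 196788 :=
  block_comb c769 b770 (Nat.zero_le _) (Nat.le_of_ble_eq_true rfl) rfl

theorem c771 : Block F al 0 197632 197044 :=
  block_comb c770 b771 (Nat.zero_le _) (Nat.le_of_ble_eq_true rfl) rfl

theorem c772 : Block F al 0 197888 197300 :=
  block_comb c771 b772 (Nat.zero_le _) (Nat.le_of_ble_eq_true rfl) rfl

theorem c773 : Block F al 0 198144 197556 :=
  block_comb c772 b773 (Nat.zero_le _) (Nat.le_of_ble_eq_true rfl) rfl

theorem c774 : Block F al 0 198400 197812 :=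
  block_comb c773 b774 (Nat.zero_le _) (Nat.le_of_ble_eq_true rfl) rfl

theorem c775 : Block F al 0 198656 198068 :=
  block_comb c774 b775 (Nat.zero_le _) (Nat.le_of_ble_eq_true rfl) rfl

theorem c776 : Block F al 0 198912 198324 :=
  block_comb c775 b776 (Nat.zero_le _) (Nat.le_of_ble_eq_true rfl) rfl

theorem c777 : Block F al 0 199168 198580 :=
  block_comb c776 b777 (Nat.zero_le _) (Nat.le_of_ble_eq_true rfl) rfl

theorem c778 : Block F al 0 199424 198836 :=
  block_comb c777 b778 (Nat.zero_le _) (Nat.le_of_ble_eq_true rfl) rfl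

theorem c779 : Block F al 0 199680 199092 :=
  block_comb c778 b779 (Nat.zero_le _) (Nat.le_of_ble_eq_true rfl) rfl

theorem c780 : Block F al 0 199936 199348 :=
  block_comb c779 b780 (Nat.zero_le _) (Nat.le_of_ble_eq_true rfl) rfl

theorem c781 : Block F al 0 200192 199604 :=
  block_comb c780 b781 (Nat.zero_le _) (Nat.le_of_ble_eq_true rfl) rfl

theorem c782 : Block F al 0 200448 199860 :=
  block_comb c781 b782 (Nat.zero_le _) (Nat.le_of_ble_eq_true rfl) rfl

theorem c783 : Block F al 0 200704 200116 :=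
  block_comb c782 b783 (Nat.zero_le _) (Nat.le_of_ble_eq_true rfl) rfl

theorem c784 : Block F al 0 200960 200372 :=
  block_comb c783 b784 (Nat.zero_le _) (Nat.le_of_ble_eq_true rfl) rfl

theorem c785 : Block F al 0 201216 200628 :=
  block_comb c784 b785 (Nat.zero_le _) (Nat.le_of_ble_eq_true rfl) rfl

theorem c786 : Block F al 0 201472 200884 :=
  block_comb c785 b786 (Nat.zero_le _) (Nat.le_of_ble_eq_true rfl) rfl

theorem c787 : Block F al 0 201728 201140 :=
  block_comb c786 b787 (Nat.zero_le _) (Nat.le_of_ble_eq_true rfl) rfl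

theorem c788 : Block F al 0 201984 201396 :=
  block_comb c787 b788 (Nat.zero_le _) (Nat.le_of_ble_eq_true rfl) rfl

theorem c789 : Block F al 0 202240 201652 :=
  block_comb c788 b789 (Nat.zero_le _) (Nat.le_of_ble_eq_true rfl) rfl

theorem c790 : Block F al 0 202496 201908 :=
  block_comb c789 b790 (Nat.zero_le _) (Nat.le_of_ble_eq_true rfl) rfl

theorem c791 : Block F al 0 202752 202164 :=
  block_comb c790 b791 (Nat.zero_le _) (Nat.le_of_ble_eq_true rfl) rfl

theorem c792 : Block F al 0 203008 202420 :=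
  block_comb c791 b792 (Nat.zero_le _) (Nat.le_of_ble_eq_true rfl) rfl

theorem c793 : Block F al 0 203264 202676 :=
  block_comb c792 b793 (Nat.zero_le _) (Nat.le_of_ble_eq_true rfl) rfl

theorem c794 : Block F al 0 203520 202932 :=
  block_comb c793 b794 (Nat.zero_le _) (Nat.le_of_ble_eq_true rfl) rfl

theorem c795 : Block F al 0 203776 203188 :=
  block_comb c794 b795 (Nat.zero_le _) (Nat.le_of_ble_eq_true rfl) rfl

theorem c796 : Block F al 0 204032 203444 :=
  block_comb c795 b796 (Nat.zero_le _) (Nat.le_of_ble_eq_true rfl) rfl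

theorem c797 : Block F al 0 204288 203700 :=
  block_comb c796 b797 (Nat.zero_le _) (Nat.le_of_ble_eq_true rfl) rfl

theorem c798 : Block F al 0 204544 203956 :=
  block_comb c797 b798 (Nat.zero_le _) (Nat.le_of_ble_eq_true rfl) rfl

theorem c799 : Block F al 0 204800 204212 :=
  block_comb c798 b799 (Nat.zero_le _) (Nat.le_of_ble_eq_true rfl) rfl

theorem c800 : Block F al 0 205056 204468 :=
  block_comb c799 b800 (Nat.zero_le _) (Nat.le_of_ble_eq_true rfl) rfl

theorem c801 : Block F al 0 205312 204724 :=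
  block_comb c800 b801 (Nat.zero_le _) (Nat.le_of_ble_eq_true rfl) rfl

theorem c802 : Block F al 0 205568 204980 :=
  block_comb c801 b802 (Nat.zero_le _) (Nat.le_of_ble_eq_true rfl) rfl

theorem c803 : Block F al 0 205824 205236 :=
  block_comb c802 b803 (Nat.zero_le _) (Nat.le_of_ble_eq_true rfl) rfl

theorem c804 : Block F al 0 206080 205492 :=
  block_comb c803 b804 (Nat.zero_le _) (Nat.le_of_ble_eq_true rfl) rfl

theorem c805 : Block F al 0 206336 205748 :=
  block_comb c804 b805 (Nat.zero_le _) (Nat.le_of_ble_eq_true rfl) rfl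

theorem c806 : Block F al 0 206592 206004 :=
  block_comb c805 b806 (Nat.zero_le _) (Nat.le_of_ble_eq_true rfl) rfl

theorem c807 : Block F al 0 206848 206260 :=
  block_comb c806 b807 (Nat.zero_le _) (Nat.le_of_ble_eq_true rfl) rfl

theorem c808 : Block F al 0 207104 206516 :=
  block_comb c807 b808 (Nat.zero_le _) (Nat.le_of_ble_eq_true rfl) rfl

theorem c809 : Block F al 0 207360 206772 :=
  block_comb c808 b809 (Nat.zero_le _) (Nat.le_of_ble_eq_true rfl) rfl

theorem c810 : Block F al 0 207616 207028 :=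
  block_comb c809 b810 (Nat.zero_le _) (Nat.le_of_ble_eq_true rfl) rfl

theorem c811 : Block F al 0 207872 207284 :=
  block_comb c810 b811 (Nat.zero_le _) (Nat.le_of_ble_eq_true rfl) rfl

theorem c812 : Block F al 0 208128 207540 :=
  block_comb c811 b812 (Nat.zero_le _) (Nat.le_of_ble_eq_true rfl) rfl

theorem c813 : Block F al 0 208384 207796 :=
  block_comb c812 b813 (Nat.zero_le _) (Nat.le_of_ble_eq_true rfl) rfl

theorem c814 : Block F al 0 208640 208052 :=
  block_comb c813 b814 (Nat.zero_le _) (Nat.le_of_ble_eq_true rfl) rfl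

theorem c815 : Block F al 0 208896 208308 :=
  block_comb c814 b815 (Nat.zero_le _) (Nat.le_of_ble_eq_true rfl) rfl

theorem c816 : Block F al 0 209152 208564 :=
  block_comb c815 b816 (Nat.zero_le _) (Nat.le_of_ble_eq_true rfl) rfl

theorem c817 : Block F al 0 209408 208820 :=
  block_comb c816 b817 (Nat.zero_le _) (Nat.le_of_ble_eq_true rfl) rfl

theorem c818 : Block F al 0 209664 209076 :=
  block_comb c817 b818 (Nat.zero_le _) (Nat.le_of_ble_eq_true rfl) rfl

theorem c819 : Block F al 0 209920 209332 :=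
  block_comb c818 b819 (Nat.zero_le _) (Nat.le_of_ble_eq_true rfl) rfl

theorem c820 : Block F al 0 210176 209588 :=
  block_comb c819 b820 (Nat.zero_le _) (Nat.le_of_ble_eq_true rfl) rfl

theorem c821 : Block F al 0 210432 209844 :=
  block_comb c820 b821 (Nat.zero_le _) (Nat.le_of_ble_eq_true rfl) rfl

theorem c822 : Block F al 0 210688 210100 :=
  block_comb c821 b822 (Nat.zero_le _) (Nat.le_of_ble_eq_true rfl) rfl

theorem c823 : Block F al 0 210944 210356 :=
  block_comb c822 b823 (Nat.zero_le _) (Nat.le_of_ble_eq_true rfl) rfl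

theorem c824 : Block F al 0 211200 210612 :=
  block_comb c823 b824 (Nat.zero_le _) (Nat.le_of_ble_eq_true rfl) rfl

theorem c825 : Block F al 0 211456 210868 :=
  block_comb c824 b825 (Nat.zero_le _) (Nat.le_of_ble_eq_true rfl) rfl

theorem c826 : Block F al 0 211712 211124 :=
  block_comb c825 b826 (Nat.zero_le _) (Nat.le_of_ble_eq_true rfl) rfl

theorem c827 : Block F al 0 211968 211380 :=
  block_comb c826 b827 (Nat.zero_le _) (Nat.le_of_ble_eq_true rfl) rfl

theorem c828 : Block F al 0 212224 211636 :=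
  block_comb c827 b828 (Nat.zero_le _) (Nat.le_of_ble_eq_true rfl) rfl

theorem c829 : Block F al 0 212480 211892 :=
  block_comb c828 b829 (Nat.zero_le _) (Nat.le_of_ble_eq_true rfl) rfl

theorem c830 : Block F al 0 212736 212148 :=
  block_comb c829 b830 (Nat.zero_le _) (Nat.le_of_ble_eq_true rfl) rfl

theorem c831 : Block F al 0 212992 212404 :=
  block_comb c830 b831 (Nat.zero_le _) (Nat.le_of_ble_eq_true rfl) rfl

theorem c832 : Block F al 0 213248 212660 :=
  block_comb c831 b832 (Nat.zero_le _) (Nat.le_of_ble_eq_true rfl) rfl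

theorem c833 : Block F al 0 213504 212916 :=
  block_comb c832 b833 (Nat.zero_le _) (Nat.le_of_ble_eq_true rfl) rfl

theorem c834 : Block F al 0 213760 213172 :=
  block_comb c833 b834 (Nat.zero_le _) (Nat.le_of_ble_eq_true rfl) rfl

theorem c835 : Block F al 0 214016 213428 :=
  block_comb c834 b835 (Nat.zero_le _) (Nat.le_of_ble_eq_true rfl) rfl

theorem c836 : Block F al 0 214272 213684 :=
  block_comb c835 b836 (Nat.zero_le _) (Nat.le_of_ble_eq_true rfl) rfl

theorem c837 : Block F al 0 214528 213940 :=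
  block_comb c836 b837 (Nat.zero_le _) (Nat.le_of_ble_eq_true rfl) rfl

theorem c838 : Block F al 0 214784 214196 :=
  block_comb c837 b838 (Nat.zero_le _) (Nat.le_of_ble_eq_true rfl) rfl

theorem c839 : Block F al 0 215040 214452 :=
  block_comb c838 b839 (Nat.zero_le _) (Nat.le_of_ble_eq_true rfl) rfl

theorem c840 : Block F al 0 215296 214708 :=
  block_comb c839 b840 (Nat.zero_le _) (Nat.le_of_ble_eq_true rfl) rfl

theorem c841 : Block F al 0 215552 214964 :=
  block_comb c840 b841 (Nat.zero_le _) (Nat.le_of_ble_eq_true rfl) rfl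

theorem c842 : Block F al 0 215808 215220 :=
  block_comb c841 b842 (Nat.zero_le _) (Nat.le_of_ble_eq_true rfl) rfl

theorem c843 : Block F al 0 216064 215476 :=
  block_comb c842 b843 (Nat.zero_le _) (Nat.le_of_ble_eq_true rfl) rfl

theorem c844 : Block F al 0 216320 215732 :=
  block_comb c843 b844 (Nat.zero_le _) (Nat.le_of_ble_eq_true rfl) rfl

theorem c845 : Block F al 0 216576 215988 :=
  block_comb c844 b845 (Nat.zero_le _) (Nat.le_of_ble_eq_true rfl) rfl

theorem c846 : Block F al 0 216832 216244 :=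
  block_comb c845 b846 (Nat.zero_le _) (Nat.le_of_ble_eq_true rfl) rfl

theorem c847 : Block F al 0 217088 216500 :=
  block_comb c846 b847 (Nat.zero_le _) (Nat.le_of_ble_eq_true rfl) rfl

theorem c848 : Block F al 0 217344 216756 :=
  block_comb c847 b848 (Nat.zero_le _) (Nat.le_of_ble_eq_true rfl) rfl

theorem c849 : Block F al 0 217600 217012 :=
  block_comb c848 b849 (Nat.zero_le _) (Nat.le_of_ble_eq_true rfl) rfl

theorem c850 : Block F al 0 217856 217268 :=
  block_comb c849 b850 (Nat.zero_le _) (Nat.le_of_ble_eq_true rfl) rfl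

theorem c851 : Block F al 0 218112 217524 :=
  block_comb c850 b851 (Nat.zero_le _) (Nat.le_of_ble_eq_true rfl) rfl

theorem c852 : Block F al 0 218368 217780 :=
  block_comb c851 b852 (Nat.zero_le _) (Nat.le_of_ble_eq_true rfl) rfl

theorem c853 : Block F al 0 218624 218036 :=
  block_comb c852 b853 (Nat.zero_le _) (Nat.le_of_ble_eq_true rfl) rfl

theorem c854 : Block F al 0 218880 218292 :=
  block_comb c853 b854 (Nat.zero_le _) (Nat.le_of_ble_eq_true rfl) rfl

theorem c855 : Block F al 0 219136 218548 :=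
  block_comb c854 b855 (Nat.zero_le _) (Nat.le_of_ble_eq_true rfl) rfl

theorem c856 : Block F al 0 219392 218804 :=
  block_comb c855 b856 (Nat.zero_le _) (Nat.le_of_ble_eq_true rfl) rfl

theorem c857 : Block F al 0 219648 219060 :=
  block_comb c856 b857 (Nat.zero_le _) (Nat.le_of_ble_eq_true rfl) rfl

theorem c858 : Block F al 0 219904 219316 :=
  block_comb c857 b858 (Nat.zero_le _) (Nat.le_of_ble_eq_true rfl) rfl

theorem c859 : Block F al 0 220160 219572 :=
  block_comb c858 b859 (Nat.zero_le _) (Nat.le_of_ble_eq_true rfl) rfl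

theorem c860 : Block F al 0 220416 219828 :=
  block_comb c859 b860 (Nat.zero_le _) (Nat.le_of_ble_eq_true rfl) rfl

theorem c861 : Block F al 0 220672 220084 :=
  block_comb c860 b861 (Nat.zero_le _) (Nat.le_of_ble_eq_true rfl) rfl

theorem c862 : Block F al 0 220928 220340 :=
  block_comb c861 b862 (Nat.zero_le _) (Nat.le_of_ble_eq_true rfl) rfl

theorem c863 : Block F al 0 221184 220596 :=
  block_comb c862 b863 (Nat.zero_le _) (Nat.le_of_ble_eq_true rfl) rfl

theorem c864 : Block F al 0 221440 220852 :=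
  block_comb c863 b864 (Nat.zero_le _) (Nat.le_of_ble_eq_true rfl) rfl

theorem c865 : Block F al 0 221696 221108 :=
  block_comb c864 b865 (Nat.zero_le _) (Nat.le_of_ble_eq_true rfl) rfl

theorem c866 : Block F al 0 221952 221364 :=
  block_comb c865 b866 (Nat.zero_le _) (Nat.le_of_ble_eq_true rfl) rfl

theorem c867 : Block F al 0 222208 221620 :=
  block_comb c866 b867 (Nat.zero_le _) (Nat.le_of_ble_eq_true rfl) rfl

theorem c868 : Block F al 0 222464 221876 :=
  block_comb c867 b868 (Nat.zero_le _) (Nat.le_of_ble_eq_true rfl) rfl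

theorem c869 : Block F al 0 222720 222132 :=
  block_comb c868 b869 (Nat.zero_le _) (Nat.le_of_ble_eq_true rfl) rfl

theorem c870 : Block F al 0 222976 222388 :=
  block_comb c869 b870 (Nat.zero_le _) (Nat.le_of_ble_eq_true rfl) rfl

theorem c871 : Block F al 0 223232 222644 :=
  block_comb c870 b871 (Nat.zero_le _) (Nat.le_of_ble_eq_true rfl) rfl

theorem c872 : Block F al 0 223488 222900 :=
  block_comb c871 b872 (Nat.zero_le _) (Nat.le_of_ble_eq_true rfl) rfl

theorem c873 : Block F al 0 223744 223156 :=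
  block_comb c872 b873 (Nat.zero_le _) (Nat.le_of_ble_eq_true rfl) rfl

theorem c874 : Block F al 0 224000 223412 :=
  block_comb c873 b874 (Nat.zero_le _) (Nat.le_of_ble_eq_true rfl) rfl

theorem c875 : Block F al 0 224256 223668 :=
  block_comb c874 b875 (Nat.zero_le _) (Nat.le_of_ble_eq_true rfl) rfl

theorem c876 : Block F al 0 224512 223924 :=
  block_comb c875 b876 (Nat.zero_le _) (Nat.le_of_ble_eq_true rfl) rfl

theorem c877 : Block F al 0 224768 224180 :=
  block_comb c876 b877 (Nat.zero_le _) (Nat.le_of_ble_eq_true rfl) rfl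

theorem c878 : Block F al 0 225024 224436 :=
  block_comb c877 b878 (Nat.zero_le _) (Nat.le_of_ble_eq_true rfl) rfl

theorem c879 : Block F al 0 225280 224692 :=
  block_comb c878 b879 (Nat.zero_le _) (Nat.le_of_ble_eq_true rfl) rfl

theorem c880 : Block F al 0 225536 224948 :=
  block_comb c879 b880 (Nat.zero_le _) (Nat.le_of_ble_eq_true rfl) rfl

theorem c881 : Block F al 0 225792 225204 :=
  block_comb c880 b881 (Nat.zero_le _) (Nat.le_of_ble_eq_true rfl) rfl

theorem c882 : Block F al 0 226048 225460 :=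
  block_comb c881 b882 (Nat.zero_le _) (Nat.le_of_ble_eq_true rfl) rfl

theorem c883 : Block F al 0 226304 225716 :=
  block_comb c882 b883 (Nat.zero_le _) (Nat.le_of_ble_eq_true rfl) rfl

theorem c884 : Block F al 0 226560 225972 :=
  block_comb c883 b884 (Nat.zero_le _) (Nat.le_of_ble_eq_true rfl) rfl

theorem c885 : Block F al 0 226816 226228 :=
  block_comb c884 b885 (Nat.zero_le _) (Nat.le_of_ble_eq_true rfl) rfl

theorem c886 : Block F al 0 227072 226484 :=
  block_comb c885 b886 (Nat.zero_le _) (Nat.le_of_ble_eq_true rfl) rfl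

theorem c887 : Block F al 0 227328 226740 :=
  block_comb c886 b887 (Nat.zero_le _) (Nat.le_of_ble_eq_true rfl) rfl

theorem c888 : Block F al 0 227584 226996 :=
  block_comb c887 b888 (Nat.zero_le _) (Nat.le_of_ble_eq_true rfl) rfl

theorem c889 : Block F al 0 227840 227252 :=
  block_comb c888 b889 (Nat.zero_le _) (Nat.le_of_ble_eq_true rfl) rfl

theorem c890 : Block F al 0 228096 227508 :=
  block_comb c889 b890 (Nat.zero_le _) (Nat.le_of_ble_eq_true rfl) rfl

theorem c891 : Block F al 0 228352 227764 :=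
  block_comb c890 b891 (Nat.zero_le _) (Nat.le_of_ble_eq_true rfl) rfl

theorem c892 : Block F al 0 228608 228020 :=
  block_comb c891 b892 (Nat.zero_le _) (Nat.le_of_ble_eq_true rfl) rfl

theorem c893 : Block F al 0 228864 228276 :=
  block_comb c892 b893 (Nat.zero_le _) (Nat.le_of_ble_eq_true rfl) rfl

theorem c894 : Block F al 0 229120 228532 :=
  block_comb c893 b894 (Nat.zero_le _) (Nat.le_of_ble_eq_true rfl) rfl

theorem c895 : Block F al 0 229376 228788 :=
  block_comb c894 b895 (Nat.zero_le _) (Nat.le_of_ble_eq_true rfl) rfl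

theorem c896 : Block F al 0 229632 229044 :=
  block_comb c895 b896 (Nat.zero_le _) (Nat.le_of_ble_eq_true rfl) rfl

theorem c897 : Block F al 0 229888 229300 :=
  block_comb c896 b897 (Nat.zero_le _) (Nat.le_of_ble_eq_true rfl) rfl

theorem c898 : Block F al 0 230144 229556 :=
  block_comb c897 b898 (Nat.zero_le _) (Nat.le_of_ble_eq_true rfl) rfl

theorem c899 : Block F al 0 230400 229812 :=
  block_comb c898 b899 (Nat.zero_le _) (Nat.le_of_ble_eq_true rfl) rfl

theorem c900 : Block F al 0 230656 230068 :=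
  block_comb c899 b900 (Nat.zero_le _) (Nat.le_of_ble_eq_true rfl) rfl

theorem c901 : Block F al 0 230912 230324 :=
  block_comb c900 b901 (Nat.zero_le _) (Nat.le_of_ble_eq_true rfl) rfl

theorem c902 : Block F al 0 231168 230580 :=
  block_comb c901 b902 (Nat.zero_le _) (Nat.le_of_ble_eq_true rfl) rfl

theorem c903 : Block F al 0 231424 230836 :=
  block_comb c902 b903 (Nat.zero_le _) (Nat.le_of_ble_eq_true rfl) rfl

theorem c904 : Block F al 0 231680 231092 :=
  block_comb c903 b904 (Nat.zero_le _) (Nat.le_of_ble_eq_true rfl) rfl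

theorem c905 : Block F al 0 231936 231348 :=
  block_comb c904 b905 (Nat.zero_le _) (Nat.le_of_ble_eq_true rfl) rfl

theorem c906 : Block F al 0 232192 231604 :=
  block_comb c905 b906 (Nat.zero_le _) (Nat.le_of_ble_eq_true rfl) rfl

theorem c907 : Block F al 0 232448 231860 :=
  block_comb c906 b907 (Nat.zero_le _) (Nat.le_of_ble_eq_true rfl) rfl

theorem c908 : Block F al 0 232704 232116 :=
  block_comb c907 b908 (Nat.zero_le _) (Nat.le_of_ble_eq_true rfl) rfl

theorem c909 : Block F al 0 232960 232372 :=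
  block_comb c908 b909 (Nat.zero_le _) (Nat.le_of_ble_eq_true rfl) rfl

theorem c910 : Block F al 0 233216 232628 :=
  block_comb c909 b910 (Nat.zero_le _) (Nat.le_of_ble_eq_true rfl) rfl

theorem c911 : Block F al 0 233472 232884 :=
  block_comb c910 b911 (Nat.zero_le _) (Nat.le_of_ble_eq_true rfl) rfl

theorem c912 : Block F al 0 233728 233140 :=
  block_comb c911 b912 (Nat.zero_le _) (Nat.le_of_ble_eq_true rfl) rfl

theorem c913 : Block F al 0 233984 233396 :=
  block_comb c912 b913 (Nat.zero_le _) (Nat.le_of_ble_eq_true rfl) rfl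

theorem c914 : Block F al 0 234240 233652 :=
  block_comb c913 b914 (Nat.zero_le _) (Nat.le_of_ble_eq_true rfl) rfl

theorem c915 : Block F al 0 234496 233908 :=
  block_comb c914 b915 (Nat.zero_le _) (Nat.le_of_ble_eq_true rfl) rfl

theorem c916 : Block F al 0 234752 234164 :=
  block_comb c915 b916 (Nat.zero_le _) (Nat.le_of_ble_eq_true rfl) rfl

theorem c917 : Block F al 0 235008 234420 :=
  block_comb c916 b917 (Nat.zero_le _) (Nat.le_of_ble_eq_true rfl) rfl

theorem c918 : Block F al 0 235264 234676 :=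
  block_comb c917 b918 (Nat.zero_le _) (Nat.le_of_ble_eq_true rfl) rfl

theorem c919 : Block F al 0 235520 234932 :=
  block_comb c918 b919 (Nat.zero_le _) (Nat.le_of_ble_eq_true rfl) rfl

theorem c920 : Block F al 0 235776 235188 :=
  block_comb c919 b920 (Nat.zero_le _) (Nat.le_of_ble_eq_true rfl) rfl

theorem c921 : Block F al 0 236032 235444 :=
  block_comb c920 b921 (Nat.zero_le _) (Nat.le_of_ble_eq_true rfl) rfl

theorem c922 : Block F al 0 236288 235700 :=
  block_comb c921 b922 (Nat.zero_le _) (Nat.le_of_ble_eq_true rfl) rfl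

theorem c923 : Block F al 0 236544 235956 :=
  block_comb c922 b923 (Nat.zero_le _) (Nat.le_of_ble_eq_true rfl) rfl

theorem c924 : Block F al 0 236800 236212 :=
  block_comb c923 b924 (Nat.zero_le _) (Nat.le_of_ble_eq_true rfl) rfl

theorem c925 : Block F al 0 237056 236468 :=
  block_comb c924 b925 (Nat.zero_le _) (Nat.le_of_ble_eq_true rfl) rfl

theorem c926 : Block F al 0 237312 236724 :=
  block_comb c925 b926 (Nat.zero_le _) (Nat.le_of_ble_eq_true rfl) rfl

theorem c927 : Block F al 0 237568 236980 :=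
  block_comb c926 b927 (Nat.zero_le _) (Nat.le_of_ble_eq_true rfl) rfl

theorem c928 : Block F al 0 237824 237236 :=
  block_comb c927 b928 (Nat.zero_le _) (Nat.le_of_ble_eq_true rfl) rfl

theorem c929 : Block F al 0 238080 237492 :=
  block_comb c928 b929 (Nat.zero_le _) (Nat.le_of_ble_eq_true rfl) rfl

theorem c930 : Block F al 0 238336 237748 :=
  block_comb c929 b930 (Nat.zero_le _) (Nat.le_of_ble_eq_true rfl) rfl

theorem c931 : Block F al 0 238592 238004 :=
  block_comb c930 b931 (Nat.zero_le _) (Nat.le_of_ble_eq_true rfl) rfl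

theorem c932 : Block F al 0 238848 238260 :=
  block_comb c931 b932 (Nat.zero_le _) (Nat.le_of_ble_eq_true rfl) rfl

theorem c933 : Block F al 0 239104 238516 :=
  block_comb c932 b933 (Nat.zero_le _) (Nat.le_of_ble_eq_true rfl) rfl

theorem c934 : Block F al 0 239360 238772 :=
  block_comb c933 b934 (Nat.zero_le _) (Nat.le_of_ble_eq_true rfl) rfl

theorem c935 : Block F al 0 239616 239028 :=
  block_comb c934 b935 (Nat.zero_le _) (Nat.le_of_ble_eq_true rfl) rfl

theorem c936 : Block F al 0 239872 239284 :=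
  block_comb c935 b936 (Nat.zero_le _) (Nat.le_of_ble_eq_true rfl) rfl

theorem c937 : Block F al 0 240128 239540 :=
  block_comb c936 b937 (Nat.zero_le _) (Nat.le_of_ble_eq_true rfl) rfl

theorem c938 : Block F al 0 240384 239796 :=
  block_comb c937 b938 (Nat.zero_le _) (Nat.le_of_ble_eq_true rfl) rfl

theorem c939 : Block F al 0 240640 240052 :=
  block_comb c938 b939 (Nat.zero_le _) (Nat.le_of_ble_eq_true rfl) rfl

theorem c940 : Block F al 0 240896 240308 :=
  block_comb c939 b940 (Nat.zero_le _) (Nat.le_of_ble_eq_true rfl) rfl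

theorem c941 : Block F al 0 241152 240564 :=
  block_comb c940 b941 (Nat.zero_le _) (Nat.le_of_ble_eq_true rfl) rfl

theorem c942 : Block F al 0 241408 240820 :=
  block_comb c941 b942 (Nat.zero_le _) (Nat.le_of_ble_eq_true rfl) rfl

theorem c943 : Block F al 0 241664 241076 :=
  block_comb c942 b943 (Nat.zero_le _) (Nat.le_of_ble_eq_true rfl) rfl

theorem c944 : Block F al 0 241920 241332 :=
  block_comb c943 b944 (Nat.zero_le _) (Nat.le_of_ble_eq_true rfl) rfl

theorem c945 : Block F al 0 242176 241588 :=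
  block_comb c944 b945 (Nat.zero_le _) (Nat.le_of_ble_eq_true rfl) rfl

theorem c946 : Block F al 0 242432 241844 :=
  block_comb c945 b946 (Nat.zero_le _) (Nat.le_of_ble_eq_true rfl) rfl

theorem c947 : Block F al 0 242688 242100 :=
  block_comb c946 b947 (Nat.zero_le _) (Nat.le_of_ble_eq_true rfl) rfl

theorem c948 : Block F al 0 242944 242356 :=
  block_comb c947 b948 (Nat.zero_le _) (Nat.le_of_ble_eq_true rfl) rfl

theorem c949 : Block F al 0 243200 242612 :=
  block_comb c948 b949 (Nat.zero_le _) (Nat.le_of_ble_eq_true rfl) rfl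

theorem c950 : Block F al 0 243456 242868 :=
  block_comb c949 b950 (Nat.zero_le _) (Nat.le_of_ble_eq_true rfl) rfl

theorem c951 : Block F al 0 243712 243124 :=
  block_comb c950 b951 (Nat.zero_le _) (Nat.le_of_ble_eq_true rfl) rfl

theorem c952 : Block F al 0 243968 243380 :=
  block_comb c951 b952 (Nat.zero_le _) (Nat.le_of_ble_eq_true rfl) rfl

theorem c953 : Block F al 0 244224 243636 :=
  block_comb c952 b953 (Nat.zero_le _) (Nat.le_of_ble_eq_true rfl) rfl

theorem c954 : Block F al 0 244480 243892 :=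
  block_comb c953 b954 (Nat.zero_le _) (Nat.le_of_ble_eq_true rfl) rfl

theorem c955 : Block F al 0 244736 244148 :=
  block_comb c954 b955 (Nat.zero_le _) (Nat.le_of_ble_eq_true rfl) rfl

theorem c956 : Block F al 0 244992 244404 :=
  block_comb c955 b956 (Nat.zero_le _) (Nat.le_of_ble_eq_true rfl) rfl

theorem c957 : Block F al 0 245248 244660 :=
  block_comb c956 b957 (Nat.zero_le _) (Nat.le_of_ble_eq_true rfl) rfl

theorem c958 : Block F al 0 245504 244916 :=
  block_comb c957 b958 (Nat.zero_le _) (Nat.le_of_ble_eq_true rfl) rfl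

theorem c959 : Block F al 0 245760 245172 :=
  block_comb c958 b959 (Nat.zero_le _) (Nat.le_of_ble_eq_true rfl) rfl

theorem c960 : Block F al 0 246016 245428 :=
  block_comb c959 b960 (Nat.zero_le _) (Nat.le_of_ble_eq_true rfl) rfl

theorem c961 : Block F al 0 246272 245684 :=
  block_comb c960 b961 (Nat.zero_le _) (Nat.le_of_ble_eq_true rfl) rfl

theorem c962 : Block F al 0 246528 245940 :=
  block_comb c961 b962 (Nat.zero_le _) (Nat.le_of_ble_eq_true rfl) rfl

theorem c963 : Block F al 0 246784 246196 :=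
  block_comb c962 b963 (Nat.zero_le _) (Nat.le_of_ble_eq_true rfl) rfl

theorem c964 : Block F al 0 247040 246452 :=
  block_comb c963 b964 (Nat.zero_le _) (Nat.le_of_ble_eq_true rfl) rfl

theorem c965 : Block F al 0 247296 246708 :=
  block_comb c964 b965 (Nat.zero_le _) (Nat.le_of_ble_eq_true rfl) rfl

theorem c966 : Block F al 0 247552 246964 :=
  block_comb c965 b966 (Nat.zero_le _) (Nat.le_of_ble_eq_true rfl) rfl

theorem c967 : Block F al 0 247808 247220 :=
  block_comb c966 b967 (Nat.zero_le _) (Nat.le_of_ble_eq_true rfl) rfl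

theorem c968 : Block F al 0 248064 247476 :=
  block_comb c967 b968 (Nat.zero_le _) (Nat.le_of_ble_eq_true rfl) rfl

theorem c969 : Block F al 0 248320 247732 :=
  block_comb c968 b969 (Nat.zero_le _) (Nat.le_of_ble_eq_true rfl) rfl

theorem c970 : Block F al 0 248576 247988 :=
  block_comb c969 b970 (Nat.zero_le _) (Nat.le_of_ble_eq_true rfl) rfl

theorem c971 : Block F al 0 248832 248244 :=
  block_comb c970 b971 (Nat.zero_le _) (Nat.le_of_ble_eq_true rfl) rfl

theorem c972 : Block F al 0 249088 248500 :=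
  block_comb c971 b972 (Nat.zero_le _) (Nat.le_of_ble_eq_true rfl) rfl

theorem c973 : Block F al 0 249344 248756 :=
  block_comb c972 b973 (Nat.zero_le _) (Nat.le_of_ble_eq_true rfl) rfl

theorem c974 : Block F al 0 249600 249012 :=
  block_comb c973 b974 (Nat.zero_le _) (Nat.le_of_ble_eq_true rfl) rfl

theorem c975 : Block F al 0 249856 249268 :=
  block_comb c974 b975 (Nat.zero_le _) (Nat.le_of_ble_eq_true rfl) rfl

theorem c976 : Block F al 0 250112 249524 :=
  block_comb c975 b976 (Nat.zero_le _) (Nat.le_of_ble_eq_true rfl) rfl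

theorem c977 : Block F al 0 250368 249780 :=
  block_comb c976 b977 (Nat.zero_le _) (Nat.le_of_ble_eq_true rfl) rfl

theorem c978 : Block F al 0 250624 250036 :=
  block_comb c977 b978 (Nat.zero_le _) (Nat.le_of_ble_eq_true rfl) rfl

theorem c979 : Block F al 0 250880 250292 :=
  block_comb c978 b979 (Nat.zero_le _) (Nat.le_of_ble_eq_true rfl) rfl

theorem c980 : Block F al 0 251136 250548 :=
  block_comb c979 b980 (Nat.zero_le _) (Nat.le_of_ble_eq_true rfl) rfl

theorem c981 : Block F al 0 251392 250804 :=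
  block_comb c980 b981 (Nat.zero_le _) (Nat.le_of_ble_eq_true rfl) rfl

theorem c982 : Block F al 0 251648 251060 :=
  block_comb c981 b982 (Nat.zero_le _) (Nat.le_of_ble_eq_true rfl) rfl

theorem c983 : Block F al 0 251904 251316 :=
  block_comb c982 b983 (Nat.zero_le _) (Nat.le_of_ble_eq_true rfl) rfl

theorem c984 : Block F al 0 252160 251572 :=
  block_comb c983 b984 (Nat.zero_le _) (Nat.le_of_ble_eq_true rfl) rfl

theorem c985 : Block F al 0 252416 251828 :=
  block_comb c984 b985 (Nat.zero_le _) (Nat.le_of_ble_eq_true rfl) rfl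

theorem c986 : Block F al 0 252672 252084 :=
  block_comb c985 b986 (Nat.zero_le _) (Nat.le_of_ble_eq_true rfl) rfl

theorem c987 : Block F al 0 252928 252340 :=
  block_comb c986 b987 (Nat.zero_le _) (Nat.le_of_ble_eq_true rfl) rfl

theorem c988 : Block F al 0 253184 252596 :=
  block_comb c987 b988 (Nat.zero_le _) (Nat.le_of_ble_eq_true rfl) rfl

theorem c989 : Block F al 0 253440 252852 :=
  block_comb c988 b989 (Nat.zero_le _) (Nat.le_of_ble_eq_true rfl) rfl

theorem c990 : Block F al 0 253696 253108 :=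
  block_comb c989 b990 (Nat.zero_le _) (Nat.le_of_ble_eq_true rfl) rfl

theorem c991 : Block F al 0 253952 253364 :=
  block_comb c990 b991 (Nat.zero_le _) (Nat.le_of_ble_eq_true rfl) rfl

theorem c992 : Block F al 0 254208 253620 :=
  block_comb c991 b992 (Nat.zero_le _) (Nat.le_of_ble_eq_true rfl) rfl

theorem c993 : Block F al 0 254464 253876 :=
  block_comb c992 b993 (Nat.zero_le _) (Nat.le_of_ble_eq_true rfl) rfl

theorem c994 : Block F al 0 254720 254132 :=
  block_comb c993 b994 (Nat.zero_le _) (Nat.le_of_ble_eq_true rfl) rfl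

theorem c995 : Block F al 0 254976 254388 :=
  block_comb c994 b995 (Nat.zero_le _) (Nat.le_of_ble_eq_true rfl) rfl

theorem c996 : Block F al 0 255232 254644 :=
  block_comb c995 b996 (Nat.zero_le _) (Nat.le_of_ble_eq_true rfl) rfl

theorem c997 : Block F al 0 255488 254900 :=
  block_comb c996 b997 (Nat.zero_le _) (Nat.le_of_ble_eq_true rfl) rfl

theorem c998 : Block F al 0 255744 255156 :=
  block_comb c997 b998 (Nat.zero_le _) (Nat.le_of_ble_eq_true rfl) rfl

theorem c999 : Block F al 0 256000 255412 :=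
  block_comb c998 b999 (Nat.zero_le _) (Nat.le_of_ble_eq_true rfl) rfl

theorem c1000 : Block F al 0 256256 255668 :=
  block_comb c999 b1000 (Nat.zero_le _) (Nat.le_of_ble_eq_true rfl) rfl

theorem c1001 : Block F al 0 256512 255924 :=
  block_comb c1000 b1001 (Nat.zero_le _) (Nat.le_of_ble_eq_true rfl) rfl

theorem c1002 : Block F al 0 256768 256180 :=
  block_comb c1001 b1002 (Nat.zero_le _) (Nat.le_of_ble_eq_true rfl) rfl

theorem c1003 : Block F al 0 257024 256436 :=
  block_comb c1002 b1003 (Nat.zero_le _) (Nat.le_of_ble_eq_true rfl) rfl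

theorem c1004 : Block F al 0 257280 256692 :=
  block_comb c1003 b1004 (Nat.zero_le _) (Nat.le_of_ble_eq_true rfl) rfl

theorem c1005 : Block F al 0 257536 256948 :=
  block_comb c1004 b1005 (Nat.zero_le _) (Nat.le_of_ble_eq_true rfl) rfl

theorem c1006 : Block F al 0 257792 257204 :=
  block_comb c1005 b1006 (Nat.zero_le _) (Nat.le_of_ble_eq_true rfl) rfl

theorem c1007 : Block F al 0 258048 257460 :=
  block_comb c1006 b1007 (Nat.zero_le _) (Nat.le_of_ble_eq_true rfl) rfl

theorem c1008 : Block F al 0 258304 257716 :=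
  block_comb c1007 b1008 (Nat.zero_le _) (Nat.le_of_ble_eq_true rfl) rfl

theorem c1009 : Block F al 0 258560 257972 :=
  block_comb c1008 b1009 (Nat.zero_le _) (Nat.le_of_ble_eq_true rfl) rfl

theorem c1010 : Block F al 0 258816 258228 :=
  block_comb c1009 b1010 (Nat.zero_le _) (Nat.le_of_ble_eq_true rfl) rfl

theorem c1011 : Block F al 0 259072 258484 :=
  block_comb c1010 b1011 (Nat.zero_le _) (Nat.le_of_ble_eq_true rfl) rfl

theorem c1012 : Block F al 0 259328 258740 :=
  block_comb c1011 b1012 (Nat.zero_le _) (Nat.le_of_ble_eq_true rfl) rfl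

theorem c1013 : Block F al 0 259584 258996 :=
  block_comb c1012 b1013 (Nat.zero_le _) (Nat.le_of_ble_eq_true rfl) rfl

theorem c1014 : Block F al 0 259840 259252 :=
  block_comb c1013 b1014 (Nat.zero_le _) (Nat.le_of_ble_eq_true rfl) rfl

theorem c1015 : Block F al 0 260096 259508 :=
  block_comb c1014 b1015 (Nat.zero_le _) (Nat.le_of_ble_eq_true rfl) rfl

theorem c1016 : Block F al 0 260352 259764 :=
  block_comb c1015 b1016 (Nat.zero_le _) (Nat.le_of_ble_eq_true rfl) rfl

theorem c1017 : Block F al 0 260608 260020 :=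
  block_comb c1016 b1017 (Nat.zero_le _) (Nat.le_of_ble_eq_true rfl) rfl

theorem c1018 : Block F al 0 260864 260276 :=
  block_comb c1017 b1018 (Nat.zero_le _) (Nat.le_of_ble_eq_true rfl) rfl

theorem c1019 : Block F al 0 261120 260532 :=
  block_comb c1018 b1019 (Nat.zero_le _) (Nat.le_of_ble_eq_true rfl) rfl

theorem c1020 : Block F al 0 261376 260788 :=
  block_comb c1019 b1020 (Nat.zero_le _) (Nat.le_of_ble_eq_true rfl) rfl

theorem c1021 : Block F al 0 261632 261044 :=
  block_comb c1020 b1021 (Nat.zero_le _) (Nat.le_of_ble_eq_true rfl) rfl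

theorem c1022 : Block F al 0 261888 261300 :=
  block_comb c1021 b1022 (Nat.zero_le _) (Nat.le_of_ble_eq_true rfl) rfl

theorem c1023 : Block F al 0 262144 261556 :=
  block_comb c1022 b1023 (Nat.zero_le _) (Nat.le_of_ble_eq_true rfl) rfl

theorem c1024 : Block F al 0 262400 261812 :=
  block_comb c1023 b1024 (Nat.zero_le _) (Nat.le_of_ble_eq_true rfl) rfl

theorem c1025 : Block F al 0 262656 262068 :=
  block_comb c1024 b1025 (Nat.zero_le _) (Nat.le_of_ble_eq_true rfl) rfl

theorem c1026 : Block F al 0 262912 262324 :=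
  block_comb c1025 b1026 (Nat.zero_le _) (Nat.le_of_ble_eq_true rfl) rfl

theorem c1027 : Block F al 0 263168 262580 :=
  block_comb c1026 b1027 (Nat.zero_le _) (Nat.le_of_ble_eq_true rfl) rfl

theorem c1028 : Block F al 0 263424 262836 :=
  block_comb c1027 b1028 (Nat.zero_le _) (Nat.le_of_ble_eq_true rfl) rfl

theorem c1029 : Block F al 0 263680 263092 :=
  block_comb c1028 b1029 (Nat.zero_le _) (Nat.le_of_ble_eq_true rfl) rfl

theorem c1030 : Block F al 0 263936 263348 :=
  block_comb c1029 b1030 (Nat.zero_le _) (Nat.le_of_ble_eq_true rfl) rfl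

theorem c1031 : Block F al 0 264192 263604 :=
  block_comb c1030 b1031 (Nat.zero_le _) (Nat.le_of_ble_eq_true rfl) rfl

theorem c1032 : Block F al 0 264448 263860 :=
  block_comb c1031 b1032 (Nat.zero_le _) (Nat.le_of_ble_eq_true rfl) rfl

theorem c1033 : Block F al 0 264704 264116 :=
  block_comb c1032 b1033 (Nat.zero_le _) (Nat.le_of_ble_eq_true rfl) rfl

theorem c1034 : Block F al 0 264960 264372 :=
  block_comb c1033 b1034 (Nat.zero_le _) (Nat.le_of_ble_eq_true rfl) rfl

theorem c1035 : Block F al 0 265216 264628 :=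
  block_comb c1034 b1035 (Nat.zero_le _) (Nat.le_of_ble_eq_true rfl) rfl

theorem c1036 : Block F al 0 265472 264884 :=
  block_comb c1035 b1036 (Nat.zero_le _) (Nat.le_of_ble_eq_true rfl) rfl

theorem c1037 : Block F al 0 265728 265140 :=
  block_comb c1036 b1037 (Nat.zero_le _) (Nat.le_of_ble_eq_true rfl) rfl

theorem c1038 : Block F al 0 265984 265396 :=
  block_comb c1037 b1038 (Nat.zero_le _) (Nat.le_of_ble_eq_true rfl) rfl

theorem c1039 : Block F al 0 266240 265652 :=
  block_comb c1038 b1039 (Nat.zero_le _) (Nat.le_of_ble_eq_true rfl) rfl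

theorem c1040 : Block F al 0 266496 265908 :=
  block_comb c1039 b1040 (Nat.zero_le _) (Nat.le_of_ble_eq_true rfl) rfl

theorem c1041 : Block F al 0 266752 266164 :=
  block_comb c1040 b1041 (Nat.zero_le _) (Nat.le_of_ble_eq_true rfl) rfl

theorem c1042 : Block F al 0 267008 266420 :=
  block_comb c1041 b1042 (Nat.zero_le _) (Nat.le_of_ble_eq_true rfl) rfl

theorem c1043 : Block F al 0 267264 266676 :=
  block_comb c1042 b1043 (Nat.zero_le _) (Nat.le_of_ble_eq_true rfl) rfl

theorem c1044 : Block F al 0 267520 266932 :=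
  block_comb c1043 b1044 (Nat.zero_le _) (Nat.le_of_ble_eq_true rfl) rfl

theorem c1045 : Block F al 0 267776 267188 :=
  block_comb c1044 b1045 (Nat.zero_le _) (Nat.le_of_ble_eq_true rfl) rfl

theorem c1046 : Block F al 0 268032 267444 :=
  block_comb c1045 b1046 (Nat.zero_le _) (Nat.le_of_ble_eq_true rfl) rfl

theorem c1047 : Block F al 0 268288 267700 :=
  block_comb c1046 b1047 (Nat.zero_le _) (Nat.le_of_ble_eq_true rfl) rfl

theorem c1048 : Block F al 0 268544 267956 :=
  block_comb c1047 b1048 (Nat.zero_le _) (Nat.le_of_ble_eq_true rfl) rfl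

theorem c1049 : Block F al 0 268800 268212 :=
  block_comb c1048 b1049 (Nat.zero_le _) (Nat.le_of_ble_eq_true rfl) rfl

theorem c1050 : Block F al 0 269056 268468 :=
  block_comb c1049 b1050 (Nat.zero_le _) (Nat.le_of_ble_eq_true rfl) rfl

theorem c1051 : Block F al 0 269312 268724 :=
  block_comb c1050 b1051 (Nat.zero_le _) (Nat.le_of_ble_eq_true rfl) rfl

theorem c1052 : Block F al 0 269568 268980 :=
  block_comb c1051 b1052 (Nat.zero_le _) (Nat.le_of_ble_eq_true rfl) rfl

theorem c1053 : Block F al 0 269824 269236 :=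
  block_comb c1052 b1053 (Nat.zero_le _) (Nat.le_of_ble_eq_true rfl) rfl

theorem c1054 : Block F al 0 270080 269492 :=
  block_comb c1053 b1054 (Nat.zero_le _) (Nat.le_of_ble_eq_true rfl) rfl

theorem c1055 : Block F al 0 270336 269748 :=
  block_comb c1054 b1055 (Nat.zero_le _) (Nat.le_of_ble_eq_true rfl) rfl

theorem c1056 : Block F al 0 270592 270004 :=
  block_comb c1055 b1056 (Nat.zero_le _) (Nat.le_of_ble_eq_true rfl) rfl

theorem c1057 : Block F al 0 270848 270260 :=
  block_comb c1056 b1057 (Nat.zero_le _) (Nat.le_of_ble_eq_true rfl) rfl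

theorem c1058 : Block F al 0 271104 270516 :=
  block_comb c1057 b1058 (Nat.zero_le _) (Nat.le_of_ble_eq_true rfl) rfl

theorem c1059 : Block F al 0 271360 270772 :=
  block_comb c1058 b1059 (Nat.zero_le _) (Nat.le_of_ble_eq_true rfl) rfl

theorem c1060 : Block F al 0 271616 271028 :=
  block_comb c1059 b1060 (Nat.zero_le _) (Nat.le_of_ble_eq_true rfl) rfl

theorem c1061 : Block F al 0 271872 271284 :=
  block_comb c1060 b1061 (Nat.zero_le _) (Nat.le_of_ble_eq_true rfl) rfl

theorem c1062 : Block F al 0 272128 271540 :=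
  block_comb c1061 b1062 (Nat.zero_le _) (Nat.le_of_ble_eq_true rfl) rfl

theorem c1063 : Block F al 0 272384 271796 :=
  block_comb c1062 b1063 (Nat.zero_le _) (Nat.le_of_ble_eq_true rfl) rfl

theorem c1064 : Block F al 0 272640 272052 :=
  block_comb c1063 b1064 (Nat.zero_le _) (Nat.le_of_ble_eq_true rfl) rfl

theorem c1065 : Block F al 0 272896 272308 :=
  block_comb c1064 b1065 (Nat.zero_le _) (Nat.le_of_ble_eq_true rfl) rfl

theorem c1066 : Block F al 0 273152 272564 :=
  block_comb c1065 b1066 (Nat.zero_le _) (Nat.le_of_ble_eq_true rfl) rfl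

theorem c1067 : Block F al 0 273408 272820 :=
  block_comb c1066 b1067 (Nat.zero_le _) (Nat.le_of_ble_eq_true rfl) rfl

theorem c1068 : Block F al 0 273664 273076 :=
  block_comb c1067 b1068 (Nat.zero_le _) (Nat.le_of_ble_eq_true rfl) rfl

theorem c1069 : Block F al 0 273920 273332 :=
  block_comb c1068 b1069 (Nat.zero_le _) (Nat.le_of_ble_eq_true rfl) rfl

theorem c1070 : Block F al 0 274176 273588 :=
  block_comb c1069 b1070 (Nat.zero_le _) (Nat.le_of_ble_eq_true rfl) rfl

theorem c1071 : Block F al 0 274432 273844 :=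
  block_comb c1070 b1071 (Nat.zero_le _) (Nat.le_of_ble_eq_true rfl) rfl

theorem c1072 : Block F al 0 274688 274100 :=
  block_comb c1071 b1072 (Nat.zero_le _) (Nat.le_of_ble_eq_true rfl) rfl

theorem c1073 : Block F al 0 274944 274356 :=
  block_comb c1072 b1073 (Nat.zero_le _) (Nat.le_of_ble_eq_true rfl) rfl

theorem c1074 : Block F al 0 275200 274612 :=
  block_comb c1073 b1074 (Nat.zero_le _) (Nat.le_of_ble_eq_true rfl) rfl

theorem c1075 : Block F al 0 275456 274868 :=
  block_comb c1074 b1075 (Nat.zero_le _) (Nat.le_of_ble_eq_true rfl) rfl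

theorem c1076 : Block F al 0 275712 275124 :=
  block_comb c1075 b1076 (Nat.zero_le _) (Nat.le_of_ble_eq_true rfl) rfl

theorem c1077 : Block F al 0 275968 275380 :=
  block_comb c1076 b1077 (Nat.zero_le _) (Nat.le_of_ble_eq_true rfl) rfl

theorem c1078 : Block F al 0 276224 275636 :=
  block_comb c1077 b1078 (Nat.zero_le _) (Nat.le_of_ble_eq_true rfl) rfl

theorem c1079 : Block F al 0 276480 275892 :=
  block_comb c1078 b1079 (Nat.zero_le _) (Nat.le_of_ble_eq_true rfl) rfl

theorem c1080 : Block F al 0 276736 276148 :=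
  block_comb c1079 b1080 (Nat.zero_le _) (Nat.le_of_ble_eq_true rfl) rfl

theorem c1081 : Block F al 0 276992 276404 :=
  block_comb c1080 b1081 (Nat.zero_le _) (Nat.le_of_ble_eq_true rfl) rfl

theorem c1082 : Block F al 0 277248 276660 :=
  block_comb c1081 b1082 (Nat.zero_le _) (Nat.le_of_ble_eq_true rfl) rfl

theorem c1083 : Block F al 0 277504 276916 :=
  block_comb c1082 b1083 (Nat.zero_le _) (Nat.le_of_ble_eq_true rfl) rfl

theorem c1084 : Block F al 0 277760 277172 :=
  block_comb c1083 b1084 (Nat.zero_le _) (Nat.le_of_ble_eq_true rfl) rfl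

theorem c1085 : Block F al 0 278016 277428 :=
  block_comb c1084 b1085 (Nat.zero_le _) (Nat.le_of_ble_eq_true rfl) rfl

theorem c1086 : Block F al 0 278272 277684 :=
  block_comb c1085 b1086 (Nat.zero_le _) (Nat.le_of_ble_eq_true rfl) rfl

theorem c1087 : Block F al 0 278528 277940 :=
  block_comb c1086 b1087 (Nat.zero_le _) (Nat.le_of_ble_eq_true rfl) rfl

theorem c1088 : Block F al 0 278784 278196 :=
  block_comb c1087 b1088 (Nat.zero_le _) (Nat.le_of_ble_eq_true rfl) rfl

theorem c1089 : Block F al 0 279040 278452 :=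
  block_comb c1088 b1089 (Nat.zero_le _) (Nat.le_of_ble_eq_true rfl) rfl

theorem c1090 : Block F al 0 279296 278708 :=
  block_comb c1089 b1090 (Nat.zero_le _) (Nat.le_of_ble_eq_true rfl) rfl

theorem c1091 : Block F al 0 279552 278964 :=
  block_comb c1090 b1091 (Nat.zero_le _) (Nat.le_of_ble_eq_true rfl) rfl

theorem c1092 : Block F al 0 279808 279220 :=
  block_comb c1091 b1092 (Nat.zero_le _) (Nat.le_of_ble_eq_true rfl) rfl

theorem c1093 : Block F al 0 280064 279476 :=
  block_comb c1092 b1093 (Nat.zero_le _) (Nat.le_of_ble_eq_true rfl) rfl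

theorem c1094 : Block F al 0 280320 279732 :=
  block_comb c1093 b1094 (Nat.zero_le _) (Nat.le_of_ble_eq_true rfl) rfl

theorem c1095 : Block F al 0 280576 279988 :=
  block_comb c1094 b1095 (Nat.zero_le _) (Nat.le_of_ble_eq_true rfl) rfl

theorem c1096 : Block F al 0 280832 280244 :=
  block_comb c1095 b1096 (Nat.zero_le _) (Nat.le_of_ble_eq_true rfl) rfl

theorem c1097 : Block F al 0 281088 280500 :=
  block_comb c1096 b1097 (Nat.zero_le _) (Nat.le_of_ble_eq_true rfl) rfl

theorem c1098 : Block F al 0 281344 280756 :=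
  block_comb c1097 b1098 (Nat.zero_le _) (Nat.le_of_ble_eq_true rfl) rfl

theorem c1099 : Block F al 0 281600 281012 :=
  block_comb c1098 b1099 (Nat.zero_le _) (Nat.le_of_ble_eq_true rfl) rfl

theorem c1100 : Block F al 0 281856 281268 :=
  block_comb c1099 b1100 (Nat.zero_le _) (Nat.le_of_ble_eq_true rfl) rfl

theorem c1101 : Block F al 0 282112 281524 :=
  block_comb c1100 b1101 (Nat.zero_le _) (Nat.le_of_ble_eq_true rfl) rfl

theorem c1102 : Block F al 0 282368 281780 :=
  block_comb c1101 b1102 (Nat.zero_le _) (Nat.le_of_ble_eq_true rfl) rfl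

theorem c1103 : Block F al 0 282624 282036 :=
  block_comb c1102 b1103 (Nat.zero_le _) (Nat.le_of_ble_eq_true rfl) rfl

theorem c1104 : Block F al 0 282880 282292 :=
  block_comb c1103 b1104 (Nat.zero_le _) (Nat.le_of_ble_eq_true rfl) rfl

theorem c1105 : Block F al 0 283136 282548 :=
  block_comb c1104 b1105 (Nat.zero_le _) (Nat.le_of_ble_eq_true rfl) rfl

theorem c1106 : Block F al 0 283392 282804 :=
  block_comb c1105 b1106 (Nat.zero_le _) (Nat.le_of_ble_eq_true rfl) rfl

theorem c1107 : Block F al 0 283648 283060 :=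
  block_comb c1106 b1107 (Nat.zero_le _) (Nat.le_of_ble_eq_true rfl) rfl

theorem c1108 : Block F al 0 283904 283316 :=
  block_comb c1107 b1108 (Nat.zero_le _) (Nat.le_of_ble_eq_true rfl) rfl

theorem c1109 : Block F al 0 284160 283572 :=
  block_comb c1108 b1109 (Nat.zero_le _) (Nat.le_of_ble_eq_true rfl) rfl

theorem c1110 : Block F al 0 284416 283828 :=
  block_comb c1109 b1110 (Nat.zero_le _) (Nat.le_of_ble_eq_true rfl) rfl

theorem c1111 : Block F al 0 284672 284084 :=
  block_comb c1110 b1111 (Nat.zero_le _) (Nat.le_of_ble_eq_true rfl) rfl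

theorem c1112 : Block F al 0 284928 284340 :=
  block_comb c1111 b1112 (Nat.zero_le _) (Nat.le_of_ble_eq_true rfl) rfl

theorem c1113 : Block F al 0 285184 284596 :=
  block_comb c1112 b1113 (Nat.zero_le _) (Nat.le_of_ble_eq_true rfl) rfl

theorem c1114 : Block F al 0 285440 284852 :=
  block_comb c1113 b1114 (Nat.zero_le _) (Nat.le_of_ble_eq_true rfl) rfl

theorem c1115 : Block F al 0 285696 285108 :=
  block_comb c1114 b1115 (Nat.zero_le _) (Nat.le_of_ble_eq_true rfl) rfl

theorem c1116 : Block F al 0 285952 285364 :=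
  block_comb c1115 b1116 (Nat.zero_le _) (Nat.le_of_ble_eq_true rfl) rfl

theorem c1117 : Block F al 0 286208 285620 :=
  block_comb c1116 b1117 (Nat.zero_le _) (Nat.le_of_ble_eq_true rfl) rfl

theorem c1118 : Block F al 0 286464 285876 :=
  block_comb c1117 b1118 (Nat.zero_le _) (Nat.le_of_ble_eq_true rfl) rfl

theorem c1119 : Block F al 0 286720 286132 :=
  block_comb c1118 b1119 (Nat.zero_le _) (Nat.le_of_ble_eq_true rfl) rfl

theorem c1120 : Block F al 0 286976 286388 :=
  block_comb c1119 b1120 (Nat.zero_le _) (Nat.le_of_ble_eq_true rfl) rfl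

theorem c1121 : Block F al 0 287232 286644 :=
  block_comb c1120 b1121 (Nat.zero_le _) (Nat.le_of_ble_eq_true rfl) rfl

theorem c1122 : Block F al 0 287488 286900 :=
  block_comb c1121 b1122 (Nat.zero_le _) (Nat.le_of_ble_eq_true rfl) rfl

theorem c1123 : Block F al 0 287744 287156 :=
  block_comb c1122 b1123 (Nat.zero_le _) (Nat.le_of_ble_eq_true rfl) rfl

theorem c1124 : Block F al 0 288000 287412 :=
  block_comb c1123 b1124 (Nat.zero_le _) (Nat.le_of_ble_eq_true rfl) rfl

theorem c1125 : Block F al 0 288256 287668 :=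
  block_comb c1124 b1125 (Nat.zero_le _) (Nat.le_of_ble_eq_true rfl) rfl

theorem c1126 : Block F al 0 288512 287924 :=
  block_comb c1125 b1126 (Nat.zero_le _) (Nat.le_of_ble_eq_true rfl) rfl

theorem c1127 : Block F al 0 288768 288180 :=
  block_comb c1126 b1127 (Nat.zero_le _) (Nat.le_of_ble_eq_true rfl) rfl

theorem c1128 : Block F al 0 289024 288436 :=
  block_comb c1127 b1128 (Nat.zero_le _) (Nat.le_of_ble_eq_true rfl) rfl

theorem c1129 : Block F al 0 289280 288692 :=
  block_comb c1128 b1129 (Nat.zero_le _) (Nat.le_of_ble_eq_true rfl) rfl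

theorem c1130 : Block F al 0 289536 288948 :=
  block_comb c1129 b1130 (Nat.zero_le _) (Nat.le_of_ble_eq_true rfl) rfl

theorem c1131 : Block F al 0 289792 289204 :=
  block_comb c1130 b1131 (Nat.zero_le _) (Nat.le_of_ble_eq_true rfl) rfl

theorem c1132 : Block F al 0 290048 289460 :=
  block_comb c1131 b1132 (Nat.zero_le _) (Nat.le_of_ble_eq_true rfl) rfl

theorem c1133 : Block F al 0 290304 289716 :=
  block_comb c1132 b1133 (Nat.zero_le _) (Nat.le_of_ble_eq_true rfl) rfl

theorem c1134 : Block F al 0 290560 289972 :=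
  block_comb c1133 b1134 (Nat.zero_le _) (Nat.le_of_ble_eq_true rfl) rfl

theorem c1135 : Block F al 0 290816 290228 :=
  block_comb c1134 b1135 (Nat.zero_le _) (Nat.le_of_ble_eq_true rfl) rfl

theorem c1136 : Block F al 0 291072 290484 :=
  block_comb c1135 b1136 (Nat.zero_le _) (Nat.le_of_ble_eq_true rfl) rfl

theorem c1137 : Block F al 0 291328 290740 :=
  block_comb c1136 b1137 (Nat.zero_le _) (Nat.le_of_ble_eq_true rfl) rfl

theorem c1138 : Block F al 0 291584 290996 :=
  block_comb c1137 b1138 (Nat.zero_le _) (Nat.le_of_ble_eq_true rfl) rfl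

theorem c1139 : Block F al 0 291840 291252 :=
  block_comb c1138 b1139 (Nat.zero_le _) (Nat.le_of_ble_eq_true rfl) rfl

theorem c1140 : Block F al 0 292096 291508 :=
  block_comb c1139 b1140 (Nat.zero_le _) (Nat.le_of_ble_eq_true rfl) rfl

theorem c1141 : Block F al 0 292352 291764 :=
  block_comb c1140 b1141 (Nat.zero_le _) (Nat.le_of_ble_eq_true rfl) rfl

theorem c1142 : Block F al 0 292608 292020 :=
  block_comb c1141 b1142 (Nat.zero_le _) (Nat.le_of_ble_eq_true rfl) rfl

theorem c1143 : Block F al 0 292864 292276 :=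
  block_comb c1142 b1143 (Nat.zero_le _) (Nat.le_of_ble_eq_true rfl) rfl

theorem c1144 : Block F al 0 293120 292532 :=
  block_comb c1143 b1144 (Nat.zero_le _) (Nat.le_of_ble_eq_true rfl) rfl

theorem c1145 : Block F al 0 293376 292788 :=
  block_comb c1144 b1145 (Nat.zero_le _) (Nat.le_of_ble_eq_true rfl) rfl

theorem c1146 : Block F al 0 293632 293044 :=
  block_comb c1145 b1146 (Nat.zero_le _) (Nat.le_of_ble_eq_true rfl) rfl

theorem c1147 : Block F al 0 293888 293300 :=
  block_comb c1146 b1147 (Nat.zero_le _) (Nat.le_of_ble_eq_true rfl) rfl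

theorem c1148 : Block F al 0 294144 293556 :=
  block_comb c1147 b1148 (Nat.zero_le _) (Nat.le_of_ble_eq_true rfl) rfl

theorem c1149 : Block F al 0 294400 293812 :=
  block_comb c1148 b1149 (Nat.zero_le _) (Nat.le_of_ble_eq_true rfl) rfl

theorem c1150 : Block F al 0 294656 294068 :=
  block_comb c1149 b1150 (Nat.zero_le _) (Nat.le_of_ble_eq_true rfl) rfl

theorem c1151 : Block F al 0 294912 294324 :=
  block_comb c1150 b1151 (Nat.zero_le _) (Nat.le_of_ble_eq_true rfl) rfl

theorem c1152 : Block F al 0 295168 294580 :=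
  block_comb c1151 b1152 (Nat.zero_le _) (Nat.le_of_ble_eq_true rfl) rfl

theorem c1153 : Block F al 0 295424 294836 :=
  block_comb c1152 b1153 (Nat.zero_le _) (Nat.le_of_ble_eq_true rfl) rfl

theorem c1154 : Block F al 0 295680 295092 :=
  block_comb c1153 b1154 (Nat.zero_le _) (Nat.le_of_ble_eq_true rfl) rfl

theorem c1155 : Block F al 0 295936 295348 :=
  block_comb c1154 b1155 (Nat.zero_le _) (Nat.le_of_ble_eq_true rfl) rfl

theorem c1156 : Block F al 0 296192 295604 :=
  block_comb c1155 b1156 (Nat.zero_le _) (Nat.le_of_ble_eq_true rfl) rfl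

theorem c1157 : Block F al 0 296448 295860 :=
  block_comb c1156 b1157 (Nat.zero_le _) (Nat.le_of_ble_eq_true rfl) rfl

theorem c1158 : Block F al 0 296704 296116 :=
  block_comb c1157 b1158 (Nat.zero_le _) (Nat.le_of_ble_eq_true rfl) rfl

theorem c1159 : Block F al 0 296960 296372 :=
  block_comb c1158 b1159 (Nat.zero_le _) (Nat.le_of_ble_eq_true rfl) rfl

theorem c1160 : Block F al 0 297216 296628 :=
  block_comb c1159 b1160 (Nat.zero_le _) (Nat.le_of_ble_eq_true rfl) rfl

theorem c1161 : Block F al 0 297472 296884 :=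
  block_comb c1160 b1161 (Nat.zero_le _) (Nat.le_of_ble_eq_true rfl) rfl

theorem c1162 : Block F al 0 297728 297140 :=
  block_comb c1161 b1162 (Nat.zero_le _) (Nat.le_of_ble_eq_true rfl) rfl

theorem c1163 : Block F al 0 297984 297396 :=
  block_comb c1162 b1163 (Nat.zero_le _) (Nat.le_of_ble_eq_true rfl) rfl

theorem c1164 : Block F al 0 298240 297652 :=
  block_comb c1163 b1164 (Nat.zero_le _) (Nat.le_of_ble_eq_true rfl) rfl

theorem c1165 : Block F al 0 298496 297908 :=
  block_comb c1164 b1165 (Nat.zero_le _) (Nat.le_of_ble_eq_true rfl) rfl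

theorem c1166 : Block F al 0 298752 298164 :=
  block_comb c1165 b1166 (Nat.zero_le _) (Nat.le_of_ble_eq_true rfl) rfl

theorem c1167 : Block F al 0 299008 298420 :=
  block_comb c1166 b1167 (Nat.zero_le _) (Nat.le_of_ble_eq_true rfl) rfl

theorem c1168 : Block F al 0 299264 298676 :=
  block_comb c1167 b1168 (Nat.zero_le _) (Nat.le_of_ble_eq_true rfl) rfl

theorem c1169 : Block F al 0 299520 298932 :=
  block_comb c1168 b1169 (Nat.zero_le _) (Nat.le_of_ble_eq_true rfl) rfl

theorem c1170 : Block F al 0 299776 299188 :=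
  block_comb c1169 b1170 (Nat.zero_le _) (Nat.le_of_ble_eq_true rfl) rfl

theorem c1171 : Block F al 0 300032 299444 :=
  block_comb c1170 b1171 (Nat.zero_le _) (Nat.le_of_ble_eq_true rfl) rfl

theorem c1172 : Block F al 0 300288 299700 :=
  block_comb c1171 b1172 (Nat.zero_le _) (Nat.le_of_ble_eq_true rfl) rfl

theorem c1173 : Block F al 0 300544 299956 :=
  block_comb c1172 b1173 (Nat.zero_le _) (Nat.le_of_ble_eq_true rfl) rfl

theorem c1174 : Block F al 0 300800 300212 :=
  block_comb c1173 b1174 (Nat.zero_le _) (Nat.le_of_ble_eq_true rfl) rfl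

theorem c1175 : Block F al 0 301056 300468 :=
  block_comb c1174 b1175 (Nat.zero_le _) (Nat.le_of_ble_eq_true rfl) rfl

theorem c1176 : Block F al 0 301312 300724 :=
  block_comb c1175 b1176 (Nat.zero_le _) (Nat.le_of_ble_eq_true rfl) rfl

theorem c1177 : Block F al 0 301568 300980 :=
  block_comb c1176 b1177 (Nat.zero_le _) (Nat.le_of_ble_eq_true rfl) rfl

theorem c1178 : Block F al 0 301824 301236 :=
  block_comb c1177 b1178 (Nat.zero_le _) (Nat.le_of_ble_eq_true rfl) rfl

theorem c1179 : Block F al 0 302080 301492 :=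
  block_comb c1178 b1179 (Nat.zero_le _) (Nat.le_of_ble_eq_true rfl) rfl

theorem c1180 : Block F al 0 302336 301748 :=
  block_comb c1179 b1180 (Nat.zero_le _) (Nat.le_of_ble_eq_true rfl) rfl

theorem c1181 : Block F al 0 302592 302004 :=
  block_comb c1180 b1181 (Nat.zero_le _) (Nat.le_of_ble_eq_true rfl) rfl

theorem c1182 : Block F al 0 302848 302260 :=
  block_comb c1181 b1182 (Nat.zero_le _) (Nat.le_of_ble_eq_true rfl) rfl

theorem c1183 : Block F al 0 303104 302516 :=
  block_comb c1182 b1183 (Nat.zero_le _) (Nat.le_of_ble_eq_true rfl) rfl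

theorem c1184 : Block F al 0 303360 302772 :=
  block_comb c1183 b1184 (Nat.zero_le _) (Nat.le_of_ble_eq_true rfl) rfl

theorem c1185 : Block F al 0 303616 303028 :=
  block_comb c1184 b1185 (Nat.zero_le _) (Nat.le_of_ble_eq_true rfl) rfl

theorem c1186 : Block F al 0 303872 303284 :=
  block_comb c1185 b1186 (Nat.zero_le _) (Nat.le_of_ble_eq_true rfl) rfl

theorem c1187 : Block F al 0 304128 303540 :=
  block_comb c1186 b1187 (Nat.zero_le _) (Nat.le_of_ble_eq_true rfl) rfl

theorem c1188 : Block F al 0 304384 303796 :=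
  block_comb c1187 b1188 (Nat.zero_le _) (Nat.le_of_ble_eq_true rfl) rfl

theorem c1189 : Block F al 0 304640 304052 :=
  block_comb c1188 b1189 (Nat.zero_le _) (Nat.le_of_ble_eq_true rfl) rfl

theorem c1190 : Block F al 0 304896 304308 :=
  block_comb c1189 b1190 (Nat.zero_le _) (Nat.le_of_ble_eq_true rfl) rfl

theorem c1191 : Block F al 0 305152 304564 :=
  block_comb c1190 b1191 (Nat.zero_le _) (Nat.le_of_ble_eq_true rfl) rfl

theorem c1192 : Block F al 0 305408 304820 :=
  block_comb c1191 b1192 (Nat.zero_le _) (Nat.le_of_ble_eq_true rfl) rfl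

theorem c1193 : Block F al 0 305664 305076 :=
  block_comb c1192 b1193 (Nat.zero_le _) (Nat.le_of_ble_eq_true rfl) rfl

theorem c1194 : Block F al 0 305920 305332 :=
  block_comb c1193 b1194 (Nat.zero_le _) (Nat.le_of_ble_eq_true rfl) rfl

theorem c1195 : Block F al 0 306176 305588 :=
  block_comb c1194 b1195 (Nat.zero_le _) (Nat.le_of_ble_eq_true rfl) rfl

theorem c1196 : Block F al 0 306432 305844 :=
  block_comb c1195 b1196 (Nat.zero_le _) (Nat.le_of_ble_eq_true rfl) rfl

theorem c1197 : Block F al 0 306688 306100 :=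
  block_comb c1196 b1197 (Nat.zero_le _) (Nat.le_of_ble_eq_true rfl) rfl

theorem c1198 : Block F al 0 306944 306356 :=
  block_comb c1197 b1198 (Nat.zero_le _) (Nat.le_of_ble_eq_true rfl) rfl

theorem c1199 : Block F al 0 307200 306612 :=
  block_comb c1198 b1199 (Nat.zero_le _) (Nat.le_of_ble_eq_true rfl) rfl

theorem c1200 : Block F al 0 307456 306868 :=
  block_comb c1199 b1200 (Nat.zero_le _) (Nat.le_of_ble_eq_true rfl) rfl

theorem c1201 : Block F al 0 307712 307124 :=
  block_comb c1200 b1201 (Nat.zero_le _) (Nat.le_of_ble_eq_true rfl) rfl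

theorem c1202 : Block F al 0 307968 307380 :=
  block_comb c1201 b1202 (Nat.zero_le _) (Nat.le_of_ble_eq_true rfl) rfl

theorem c1203 : Block F al 0 308224 307636 :=
  block_comb c1202 b1203 (Nat.zero_le _) (Nat.le_of_ble_eq_true rfl) rfl

theorem c1204 : Block F al 0 308480 307892 :=
  block_comb c1203 b1204 (Nat.zero_le _) (Nat.le_of_ble_eq_true rfl) rfl

theorem c1205 : Block F al 0 308736 308148 :=
  block_comb c1204 b1205 (Nat.zero_le _) (Nat.le_of_ble_eq_true rfl) rfl

theorem c1206 : Block F al 0 308992 308404 :=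
  block_comb c1205 b1206 (Nat.zero_le _) (Nat.le_of_ble_eq_true rfl) rfl

theorem c1207 : Block F al 0 309248 308660 :=
  block_comb c1206 b1207 (Nat.zero_le _) (Nat.le_of_ble_eq_true rfl) rfl

theorem c1208 : Block F al 0 309504 308916 :=
  block_comb c1207 b1208 (Nat.zero_le _) (Nat.le_of_ble_eq_true rfl) rfl

theorem c1209 : Block F al 0 309760 309172 :=
  block_comb c1208 b1209 (Nat.zero_le _) (Nat.le_of_ble_eq_true rfl) rfl

theorem c1210 : Block F al 0 310016 309428 :=
  block_comb c1209 b1210 (Nat.zero_le _) (Nat.le_of_ble_eq_true rfl) rfl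

theorem c1211 : Block F al 0 310272 309684 :=
  block_comb c1210 b1211 (Nat.zero_le _) (Nat.le_of_ble_eq_true rfl) rfl

theorem c1212 : Block F al 0 310528 309940 :=
  block_comb c1211 b1212 (Nat.zero_le _) (Nat.le_of_ble_eq_true rfl) rfl

theorem c1213 : Block F al 0 310784 310196 :=
  block_comb c1212 b1213 (Nat.zero_le _) (Nat.le_of_ble_eq_true rfl) rfl

theorem c1214 : Block F al 0 311040 310452 :=
  block_comb c1213 b1214 (Nat.zero_le _) (Nat.le_of_ble_eq_true rfl) rfl

theorem c1215 : Block F al 0 311296 310708 :=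
  block_comb c1214 b1215 (Nat.zero_le _) (Nat.le_of_ble_eq_true rfl) rfl

theorem c1216 : Block F al 0 311552 310964 :=
  block_comb c1215 b1216 (Nat.zero_le _) (Nat.le_of_ble_eq_true rfl) rfl

theorem c1217 : Block F al 0 311808 311220 :=
  block_comb c1216 b1217 (Nat.zero_le _) (Nat.le_of_ble_eq_true rfl) rfl

theorem c1218 : Block F al 0 312064 311476 :=
  block_comb c1217 b1218 (Nat.zero_le _) (Nat.le_of_ble_eq_true rfl) rfl

theorem c1219 : Block F al 0 312320 311732 :=
  block_comb c1218 b1219 (Nat.zero_le _) (Nat.le_of_ble_eq_true rfl) rfl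

theorem c1220 : Block F al 0 312576 311988 :=
  block_comb c1219 b1220 (Nat.zero_le _) (Nat.le_of_ble_eq_true rfl) rfl

theorem c1221 : Block F al 0 312832 312244 :=
  block_comb c1220 b1221 (Nat.zero_le _) (Nat.le_of_ble_eq_true rfl) rfl

theorem c1222 : Block F al 0 313088 312500 :=
  block_comb c1221 b1222 (Nat.zero_le _) (Nat.le_of_ble_eq_true rfl) rfl

theorem c1223 : Block F al 0 313344 312756 :=
  block_comb c1222 b1223 (Nat.zero_le _) (Nat.le_of_ble_eq_true rfl) rfl

theorem c1224 : Block F al 0 313600 313012 :=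
  block_comb c1223 b1224 (Nat.zero_le _) (Nat.le_of_ble_eq_true rfl) rfl

theorem c1225 : Block F al 0 313856 313268 :=
  block_comb c1224 b1225 (Nat.zero_le _) (Nat.le_of_ble_eq_true rfl) rfl

theorem c1226 : Block F al 0 314112 313524 :=
  block_comb c1225 b1226 (Nat.zero_le _) (Nat.le_of_ble_eq_true rfl) rfl

theorem c1227 : Block F al 0 314368 313780 :=
  block_comb c1226 b1227 (Nat.zero_le _) (Nat.le_of_ble_eq_true rfl) rfl

theorem c1228 : Block F al 0 314624 314036 :=
  block_comb c1227 b1228 (Nat.zero_le _) (Nat.le_of_ble_eq_true rfl) rfl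

theorem c1229 : Block F al 0 314880 314292 :=
  block_comb c1228 b1229 (Nat.zero_le _) (Nat.le_of_ble_eq_true rfl) rfl

theorem c1230 : Block F al 0 315136 314548 :=
  block_comb c1229 b1230 (Nat.zero_le _) (Nat.le_of_ble_eq_true rfl) rfl

theorem c1231 : Block F al 0 315392 314804 :=
  block_comb c1230 b1231 (Nat.zero_le _) (Nat.le_of_ble_eq_true rfl) rfl

theorem c1232 : Block F al 0 315648 315060 :=
  block_comb c1231 b1232 (Nat.zero_le _) (Nat.le_of_ble_eq_true rfl) rfl

theorem c1233 : Block F al 0 315904 315316 :=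
  block_comb c1232 b1233 (Nat.zero_le _) (Nat.le_of_ble_eq_true rfl) rfl

theorem c1234 : Block F al 0 316160 315572 :=
  block_comb c1233 b1234 (Nat.zero_le _) (Nat.le_of_ble_eq_true rfl) rfl

theorem c1235 : Block F al 0 316416 315828 :=
  block_comb c1234 b1235 (Nat.zero_le _) (Nat.le_of_ble_eq_true rfl) rfl

theorem c1236 : Block F al 0 316672 316084 :=
  block_comb c1235 b1236 (Nat.zero_le _) (Nat.le_of_ble_eq_true rfl) rfl

theorem c1237 : Block F al 0 316928 316340 :=
  block_comb c1236 b1237 (Nat.zero_le _) (Nat.le_of_ble_eq_true rfl) rfl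

theorem c1238 : Block F al 0 317184 316596 :=
  block_comb c1237 b1238 (Nat.zero_le _) (Nat.le_of_ble_eq_true rfl) rfl

theorem c1239 : Block F al 0 317440 316852 :=
  block_comb c1238 b1239 (Nat.zero_le _) (Nat.le_of_ble_eq_true rfl) rfl

theorem c1240 : Block F al 0 317696 317108 :=
  block_comb c1239 b1240 (Nat.zero_le _) (Nat.le_of_ble_eq_true rfl) rfl

theorem c1241 : Block F al 0 317952 317364 :=
  block_comb c1240 b1241 (Nat.zero_le _) (Nat.le_of_ble_eq_true rfl) rfl

theorem c1242 : Block F al 0 318208 317620 :=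
  block_comb c1241 b1242 (Nat.zero_le _) (Nat.le_of_ble_eq_true rfl) rfl

theorem c1243 : Block F al 0 318464 317876 :=
  block_comb c1242 b1243 (Nat.zero_le _) (Nat.le_of_ble_eq_true rfl) rfl

theorem c1244 : Block F al 0 318720 318132 :=
  block_comb c1243 b1244 (Nat.zero_le _) (Nat.le_of_ble_eq_true rfl) rfl

theorem c1245 : Block F al 0 318976 318388 :=
  block_comb c1244 b1245 (Nat.zero_le _) (Nat.le_of_ble_eq_true rfl) rfl

theorem c1246 : Block F al 0 319232 318644 :=
  block_comb c1245 b1246 (Nat.zero_le _) (Nat.le_of_ble_eq_true rfl) rfl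

theorem c1247 : Block F al 0 319488 318900 :=
  block_comb c1246 b1247 (Nat.zero_le _) (Nat.le_of_ble_eq_true rfl) rfl

theorem c1248 : Block F al 0 319744 319156 :=
  block_comb c1247 b1248 (Nat.zero_le _) (Nat.le_of_ble_eq_true rfl) rfl

theorem c1249 : Block F al 0 320000 319412 :=
  block_comb c1248 b1249 (Nat.zero_le _) (Nat.le_of_ble_eq_true rfl) rfl

theorem c1250 : Block F al 0 320256 319668 :=
  block_comb c1249 b1250 (Nat.zero_le _) (Nat.le_of_ble_eq_true rfl) rfl

theorem c1251 : Block F al 0 320512 319924 :=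
  block_comb c1250 b1251 (Nat.zero_le _) (Nat.le_of_ble_eq_true rfl) rfl

theorem c1252 : Block F al 0 320768 320180 :=
  block_comb c1251 b1252 (Nat.zero_le _) (Nat.le_of_ble_eq_true rfl) rfl

theorem c1253 : Block F al 0 321024 320436 :=
  block_comb c1252 b1253 (Nat.zero_le _) (Nat.le_of_ble_eq_true rfl) rfl

theorem c1254 : Block F al 0 321280 320692 :=
  block_comb c1253 b1254 (Nat.zero_le _) (Nat.le_of_ble_eq_true rfl) rfl

theorem c1255 : Block F al 0 321536 320948 :=
  block_comb c1254 b1255 (Nat.zero_le _) (Nat.le_of_ble_eq_true rfl) rfl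

theorem c1256 : Block F al 0 321792 321204 :=
  block_comb c1255 b1256 (Nat.zero_le _) (Nat.le_of_ble_eq_true rfl) rfl

theorem c1257 : Block F al 0 322048 321460 :=
  block_comb c1256 b1257 (Nat.zero_le _) (Nat.le_of_ble_eq_true rfl) rfl

theorem c1258 : Block F al 0 322304 321716 :=
  block_comb c1257 b1258 (Nat.zero_le _) (Nat.le_of_ble_eq_true rfl) rfl

theorem c1259 : Block F al 0 322560 321972 :=
  block_comb c1258 b1259 (Nat.zero_le _) (Nat.le_of_ble_eq_true rfl) rfl

theorem c1260 : Block F al 0 322816 322228 :=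
  block_comb c1259 b1260 (Nat.zero_le _) (Nat.le_of_ble_eq_true rfl) rfl

theorem c1261 : Block F al 0 323072 322484 :=
  block_comb c1260 b1261 (Nat.zero_le _) (Nat.le_of_ble_eq_true rfl) rfl

theorem c1262 : Block F al 0 323328 322740 :=
  block_comb c1261 b1262 (Nat.zero_le _) (Nat.le_of_ble_eq_true rfl) rfl

theorem c1263 : Block F al 0 323584 322996 :=
  block_comb c1262 b1263 (Nat.zero_le _) (Nat.le_of_ble_eq_true rfl) rfl

theorem c1264 : Block F al 0 323840 323252 :=
  block_comb c1263 b1264 (Nat.zero_le _) (Nat.le_of_ble_eq_true rfl) rfl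

theorem c1265 : Block F al 0 324096 323508 :=
  block_comb c1264 b1265 (Nat.zero_le _) (Nat.le_of_ble_eq_true rfl) rfl

theorem c1266 : Block F al 0 324352 323764 :=
  block_comb c1265 b1266 (Nat.zero_le _) (Nat.le_of_ble_eq_true rfl) rfl

theorem c1267 : Block F al 0 324608 324020 :=
  block_comb c1266 b1267 (Nat.zero_le _) (Nat.le_of_ble_eq_true rfl) rfl

theorem c1268 : Block F al 0 324864 324276 :=
  block_comb c1267 b1268 (Nat.zero_le _) (Nat.le_of_ble_eq_true rfl) rfl

theorem c1269 : Block F al 0 325120 324532 :=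
  block_comb c1268 b1269 (Nat.zero_le _) (Nat.le_of_ble_eq_true rfl) rfl

theorem c1270 : Block F al 0 325376 324788 :=
  block_comb c1269 b1270 (Nat.zero_le _) (Nat.le_of_ble_eq_true rfl) rfl

theorem c1271 : Block F al 0 325632 325044 :=
  block_comb c1270 b1271 (Nat.zero_le _) (Nat.le_of_ble_eq_true rfl) rfl

theorem c1272 : Block F al 0 325888 325300 :=
  block_comb c1271 b1272 (Nat.zero_le _) (Nat.le_of_ble_eq_true rfl) rfl

theorem c1273 : Block F al 0 326144 325556 :=
  block_comb c1272 b1273 (Nat.zero_le _) (Nat.le_of_ble_eq_true rfl) rfl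

theorem c1274 : Block F al 0 326400 325812 :=
  block_comb c1273 b1274 (Nat.zero_le _) (Nat.le_of_ble_eq_true rfl) rfl

theorem c1275 : Block F al 0 326656 326068 :=
  block_comb c1274 b1275 (Nat.zero_le _) (Nat.le_of_ble_eq_true rfl) rfl

theorem c1276 : Block F al 0 326912 326324 :=
  block_comb c1275 b1276 (Nat.zero_le _) (Nat.le_of_ble_eq_true rfl) rfl

theorem c1277 : Block F al 0 327168 326580 :=
  block_comb c1276 b1277 (Nat.zero_le _) (Nat.le_of_ble_eq_true rfl) rfl

theorem c1278 : Block F al 0 327424 326836 :=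
  block_comb c1277 b1278 (Nat.zero_le _) (Nat.le_of_ble_eq_true rfl) rfl

theorem c1279 : Block F al 0 327680 327092 :=
  block_comb c1278 b1279 (Nat.zero_le _) (Nat.le_of_ble_eq_true rfl) rfl

theorem c1280 : Block F al 0 327936 327348 :=
  block_comb c1279 b1280 (Nat.zero_le _) (Nat.le_of_ble_eq_true rfl) rfl

theorem c1281 : Block F al 0 328192 327604 :=
  block_comb c1280 b1281 (Nat.zero_le _) (Nat.le_of_ble_eq_true rfl) rfl

theorem c1282 : Block F al 0 328448 327860 :=
  block_comb c1281 b1282 (Nat.zero_le _) (Nat.le_of_ble_eq_true rfl) rfl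

theorem c1283 : Block F al 0 328704 328116 :=
  block_comb c1282 b1283 (Nat.zero_le _) (Nat.le_of_ble_eq_true rfl) rfl

theorem c1284 : Block F al 0 328960 328372 :=
  block_comb c1283 b1284 (Nat.zero_le _) (Nat.le_of_ble_eq_true rfl) rfl

theorem c1285 : Block F al 0 329216 328628 :=
  block_comb c1284 b1285 (Nat.zero_le _) (Nat.le_of_ble_eq_true rfl) rfl

theorem c1286 : Block F al 0 329472 328884 :=
  block_comb c1285 b1286 (Nat.zero_le _) (Nat.le_of_ble_eq_true rfl) rfl

theorem c1287 : Block F al 0 329728 329140 :=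
  block_comb c1286 b1287 (Nat.zero_le _) (Nat.le_of_ble_eq_true rfl) rfl

theorem c1288 : Block F al 0 329984 329396 :=
  block_comb c1287 b1288 (Nat.zero_le _) (Nat.le_of_ble_eq_true rfl) rfl

theorem c1289 : Block F al 0 330240 329652 :=
  block_comb c1288 b1289 (Nat.zero_le _) (Nat.le_of_ble_eq_true rfl) rfl

theorem c1290 : Block F al 0 330496 329908 :=
  block_comb c1289 b1290 (Nat.zero_le _) (Nat.le_of_ble_eq_true rfl) rfl

theorem c1291 : Block F al 0 330752 330164 :=
  block_comb c1290 b1291 (Nat.zero_le _) (Nat.le_of_ble_eq_true rfl) rfl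

theorem c1292 : Block F al 0 331008 330420 :=
  block_comb c1291 b1292 (Nat.zero_le _) (Nat.le_of_ble_eq_true rfl) rfl

theorem c1293 : Block F al 0 331264 330676 :=
  block_comb c1292 b1293 (Nat.zero_le _) (Nat.le_of_ble_eq_true rfl) rfl

theorem c1294 : Block F al 0 331520 330932 :=
  block_comb c1293 b1294 (Nat.zero_le _) (Nat.le_of_ble_eq_true rfl) rfl

theorem c1295 : Block F al 0 331776 331188 :=
  block_comb c1294 b1295 (Nat.zero_le _) (Nat.le_of_ble_eq_true rfl) rfl

theorem c1296 : Block F al 0 332032 331444 :=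
  block_comb c1295 b1296 (Nat.zero_le _) (Nat.le_of_ble_eq_true rfl) rfl

theorem c1297 : Block F al 0 332288 331700 :=
  block_comb c1296 b1297 (Nat.zero_le _) (Nat.le_of_ble_eq_true rfl) rfl

theorem c1298 : Block F al 0 332544 331956 :=
  block_comb c1297 b1298 (Nat.zero_le _) (Nat.le_of_ble_eq_true rfl) rfl

theorem c1299 : Block F al 0 332800 332212 :=
  block_comb c1298 b1299 (Nat.zero_le _) (Nat.le_of_ble_eq_true rfl) rfl

theorem c1300 : Block F al 0 333056 332468 :=
  block_comb c1299 b1300 (Nat.zero_le _) (Nat.le_of_ble_eq_true rfl) rfl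

theorem c1301 : Block F al 0 333312 332724 :=
  block_comb c1300 b1301 (Nat.zero_le _) (Nat.le_of_ble_eq_true rfl) rfl

theorem c1302 : Block F al 0 333568 332980 :=
  block_comb c1301 b1302 (Nat.zero_le _) (Nat.le_of_ble_eq_true rfl) rfl

theorem c1303 : Block F al 0 333824 333236 :=
  block_comb c1302 b1303 (Nat.zero_le _) (Nat.le_of_ble_eq_true rfl) rfl

theorem c1304 : Block F al 0 334080 333492 :=
  block_comb c1303 b1304 (Nat.zero_le _) (Nat.le_of_ble_eq_true rfl) rfl

theorem c1305 : Block F al 0 334336 333748 :=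
  block_comb c1304 b1305 (Nat.zero_le _) (Nat.le_of_ble_eq_true rfl) rfl

theorem c1306 : Block F al 0 334592 334004 :=
  block_comb c1305 b1306 (Nat.zero_le _) (Nat.le_of_ble_eq_true rfl) rfl

theorem c1307 : Block F al 0 334848 334260 :=
  block_comb c1306 b1307 (Nat.zero_le _) (Nat.le_of_ble_eq_true rfl) rfl

theorem c1308 : Block F al 0 335104 334516 :=
  block_comb c1307 b1308 (Nat.zero_le _) (Nat.le_of_ble_eq_true rfl) rfl

theorem c1309 : Block F al 0 335360 334772 :=
  block_comb c1308 b1309 (Nat.zero_le _) (Nat.le_of_ble_eq_true rfl) rfl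

theorem c1310 : Block F al 0 335616 335028 :=
  block_comb c1309 b1310 (Nat.zero_le _) (Nat.le_of_ble_eq_true rfl) rfl

theorem c1311 : Block F al 0 335872 335284 :=
  block_comb c1310 b1311 (Nat.zero_le _) (Nat.le_of_ble_eq_true rfl) rfl

theorem c1312 : Block F al 0 336128 335540 :=
  block_comb c1311 b1312 (Nat.zero_le _) (Nat.le_of_ble_eq_true rfl) rfl

theorem c1313 : Block F al 0 336384 335796 :=
  block_comb c1312 b1313 (Nat.zero_le _) (Nat.le_of_ble_eq_true rfl) rfl

theorem c1314 : Block F al 0 336640 336052 :=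
  block_comb c1313 b1314 (Nat.zero_le _) (Nat.le_of_ble_eq_true rfl) rfl

theorem c1315 : Block F al 0 336896 336308 :=
  block_comb c1314 b1315 (Nat.zero_le _) (Nat.le_of_ble_eq_true rfl) rfl

theorem c1316 : Block F al 0 337152 336564 :=
  block_comb c1315 b1316 (Nat.zero_le _) (Nat.le_of_ble_eq_true rfl) rfl

theorem c1317 : Block F al 0 337408 336820 :=
  block_comb c1316 b1317 (Nat.zero_le _) (Nat.le_of_ble_eq_true rfl) rfl

theorem c1318 : Block F al 0 337664 337076 :=
  block_comb c1317 b1318 (Nat.zero_le _) (Nat.le_of_ble_eq_true rfl) rfl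

theorem c1319 : Block F al 0 337920 337332 :=
  block_comb c1318 b1319 (Nat.zero_le _) (Nat.le_of_ble_eq_true rfl) rfl

theorem c1320 : Block F al 0 338176 337588 :=
  block_comb c1319 b1320 (Nat.zero_le _) (Nat.le_of_ble_eq_true rfl) rfl

theorem c1321 : Block F al 0 338432 337844 :=
  block_comb c1320 b1321 (Nat.zero_le _) (Nat.le_of_ble_eq_true rfl) rfl

theorem c1322 : Block F al 0 338688 338100 :=
  block_comb c1321 b1322 (Nat.zero_le _) (Nat.le_of_ble_eq_true rfl) rfl

theorem c1323 : Block F al 0 338944 338356 :=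
  block_comb c1322 b1323 (Nat.zero_le _) (Nat.le_of_ble_eq_true rfl) rfl

theorem c1324 : Block F al 0 339200 338612 :=
  block_comb c1323 b1324 (Nat.zero_le _) (Nat.le_of_ble_eq_true rfl) rfl

theorem c1325 : Block F al 0 339456 338868 :=
  block_comb c1324 b1325 (Nat.zero_le _) (Nat.le_of_ble_eq_true rfl) rfl

theorem c1326 : Block F al 0 339712 339124 :=
  block_comb c1325 b1326 (Nat.zero_le _) (Nat.le_of_ble_eq_true rfl) rfl

theorem c1327 : Block F al 0 339968 339380 :=
  block_comb c1326 b1327 (Nat.zero_le _) (Nat.le_of_ble_eq_true rfl) rfl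

theorem c1328 : Block F al 0 340224 339636 :=
  block_comb c1327 b1328 (Nat.zero_le _) (Nat.le_of_ble_eq_true rfl) rfl

theorem c1329 : Block F al 0 340480 339892 :=
  block_comb c1328 b1329 (Nat.zero_le _) (Nat.le_of_ble_eq_true rfl) rfl

theorem c1330 : Block F al 0 340736 340148 :=
  block_comb c1329 b1330 (Nat.zero_le _) (Nat.le_of_ble_eq_true rfl) rfl

theorem c1331 : Block F al 0 340992 340404 :=
  block_comb c1330 b1331 (Nat.zero_le _) (Nat.le_of_ble_eq_true rfl) rfl

theorem c1332 : Block F al 0 341248 340660 :=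
  block_comb c1331 b1332 (Nat.zero_le _) (Nat.le_of_ble_eq_true rfl) rfl

theorem c1333 : Block F al 0 341504 340916 :=
  block_comb c1332 b1333 (Nat.zero_le _) (Nat.le_of_ble_eq_true rfl) rfl

theorem c1334 : Block F al 0 341760 341172 :=
  block_comb c1333 b1334 (Nat.zero_le _) (Nat.le_of_ble_eq_true rfl) rfl

theorem c1335 : Block F al 0 342016 341428 :=
  block_comb c1334 b1335 (Nat.zero_le _) (Nat.le_of_ble_eq_true rfl) rfl

theorem c1336 : Block F al 0 342272 341684 :=
  block_comb c1335 b1336 (Nat.zero_le _) (Nat.le_of_ble_eq_true rfl) rfl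

theorem c1337 : Block F al 0 342528 341940 :=
  block_comb c1336 b1337 (Nat.zero_le _) (Nat.le_of_ble_eq_true rfl) rfl

theorem c1338 : Block F al 0 342784 342196 :=
  block_comb c1337 b1338 (Nat.zero_le _) (Nat.le_of_ble_eq_true rfl) rfl

theorem c1339 : Block F al 0 343040 342452 :=
  block_comb c1338 b1339 (Nat.zero_le _) (Nat.le_of_ble_eq_true rfl) rfl

theorem c1340 : Block F al 0 343296 342708 :=
  block_comb c1339 b1340 (Nat.zero_le _) (Nat.le_of_ble_eq_true rfl) rfl

theorem c1341 : Block F al 0 343552 342964 :=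
  block_comb c1340 b1341 (Nat.zero_le _) (Nat.le_of_ble_eq_true rfl) rfl

theorem c1342 : Block F al 0 343808 343220 :=
  block_comb c1341 b1342 (Nat.zero_le _) (Nat.le_of_ble_eq_true rfl) rfl

theorem c1343 : Block F al 0 344064 343476 :=
  block_comb c1342 b1343 (Nat.zero_le _) (Nat.le_of_ble_eq_true rfl) rfl

theorem c1344 : Block F al 0 344320 343732 :=
  block_comb c1343 b1344 (Nat.zero_le _) (Nat.le_of_ble_eq_true rfl) rfl

theorem c1345 : Block F al 0 344576 343988 :=
  block_comb c1344 b1345 (Nat.zero_le _) (Nat.le_of_ble_eq_true rfl) rfl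

theorem c1346 : Block F al 0 344832 344244 :=
  block_comb c1345 b1346 (Nat.zero_le _) (Nat.le_of_ble_eq_true rfl) rfl

theorem c1347 : Block F al 0 345088 344500 :=
  block_comb c1346 b1347 (Nat.zero_le _) (Nat.le_of_ble_eq_true rfl) rfl

theorem c1348 : Block F al 0 345344 344756 :=
  block_comb c1347 b1348 (Nat.zero_le _) (Nat.le_of_ble_eq_true rfl) rfl

theorem c1349 : Block F al 0 345600 345012 :=
  block_comb c1348 b1349 (Nat.zero_le _) (Nat.le_of_ble_eq_true rfl) rfl

theorem c1350 : Block F al 0 345856 345268 :=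
  block_comb c1349 b1350 (Nat.zero_le _) (Nat.le_of_ble_eq_true rfl) rfl

theorem c1351 : Block F al 0 346112 345524 :=
  block_comb c1350 b1351 (Nat.zero_le _) (Nat.le_of_ble_eq_true rfl) rfl

theorem c1352 : Block F al 0 346368 345780 :=
  block_comb c1351 b1352 (Nat.zero_le _) (Nat.le_of_ble_eq_true rfl) rfl

theorem c1353 : Block F al 0 346624 346036 :=
  block_comb c1352 b1353 (Nat.zero_le _) (Nat.le_of_ble_eq_true rfl) rfl

theorem c1354 : Block F al 0 346880 346292 :=
  block_comb c1353 b1354 (Nat.zero_le _) (Nat.le_of_ble_eq_true rfl) rfl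

theorem c1355 : Block F al 0 347136 346548 :=
  block_comb c1354 b1355 (Nat.zero_le _) (Nat.le_of_ble_eq_true rfl) rfl

theorem c1356 : Block F al 0 347392 346804 :=
  block_comb c1355 b1356 (Nat.zero_le _) (Nat.le_of_ble_eq_true rfl) rfl

theorem c1357 : Block F al 0 347648 347060 :=
  block_comb c1356 b1357 (Nat.zero_le _) (Nat.le_of_ble_eq_true rfl) rfl

theorem c1358 : Block F al 0 347904 347316 :=
  block_comb c1357 b1358 (Nat.zero_le _) (Nat.le_of_ble_eq_true rfl) rfl

theorem c1359 : Block F al 0 348160 347572 :=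
  block_comb c1358 b1359 (Nat.zero_le _) (Nat.le_of_ble_eq_true rfl) rfl

theorem c1360 : Block F al 0 348416 347828 :=
  block_comb c1359 b1360 (Nat.zero_le _) (Nat.le_of_ble_eq_true rfl) rfl

theorem c1361 : Block F al 0 348672 348084 :=
  block_comb c1360 b1361 (Nat.zero_le _) (Nat.le_of_ble_eq_true rfl) rfl

theorem c1362 : Block F al 0 348928 348340 :=
  block_comb c1361 b1362 (Nat.zero_le _) (Nat.le_of_ble_eq_true rfl) rfl

theorem c1363 : Block F al 0 349184 348596 :=
  block_comb c1362 b1363 (Nat.zero_le _) (Nat.le_of_ble_eq_true rfl) rfl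

theorem c1364 : Block F al 0 349440 348852 :=
  block_comb c1363 b1364 (Nat.zero_le _) (Nat.le_of_ble_eq_true rfl) rfl

theorem c1365 : Block F al 0 349696 349108 :=
  block_comb c1364 b1365 (Nat.zero_le _) (Nat.le_of_ble_eq_true rfl) rfl

theorem c1366 : Block F al 0 349952 349364 :=
  block_comb c1365 b1366 (Nat.zero_le _) (Nat.le_of_ble_eq_true rfl) rfl

theorem c1367 : Block F al 0 350208 349620 :=
  block_comb c1366 b1367 (Nat.zero_le _) (Nat.le_of_ble_eq_true rfl) rfl

theorem c1368 : Block F al 0 350464 349876 :=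
  block_comb c1367 b1368 (Nat.zero_le _) (Nat.le_of_ble_eq_true rfl) rfl

theorem c1369 : Block F al 0 350720 350132 :=
  block_comb c1368 b1369 (Nat.zero_le _) (Nat.le_of_ble_eq_true rfl) rfl

theorem c1370 : Block F al 0 350976 350388 :=
  block_comb c1369 b1370 (Nat.zero_le _) (Nat.le_of_ble_eq_true rfl) rfl

theorem c1371 : Block F al 0 351232 350644 :=
  block_comb c1370 b1371 (Nat.zero_le _) (Nat.le_of_ble_eq_true rfl) rfl

theorem c1372 : Block F al 0 351488 350900 :=
  block_comb c1371 b1372 (Nat.zero_le _) (Nat.le_of_ble_eq_true rfl) rfl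

theorem c1373 : Block F al 0 351744 351156 :=
  block_comb c1372 b1373 (Nat.zero_le _) (Nat.le_of_ble_eq_true rfl) rfl

theorem c1374 : Block F al 0 352000 351412 :=
  block_comb c1373 b1374 (Nat.zero_le _) (Nat.le_of_ble_eq_true rfl) rfl

theorem c1375 : Block F al 0 352256 351668 :=
  block_comb c1374 b1375 (Nat.zero_le _) (Nat.le_of_ble_eq_true rfl) rfl

theorem c1376 : Block F al 0 352512 351924 :=
  block_comb c1375 b1376 (Nat.zero_le _) (Nat.le_of_ble_eq_true rfl) rfl

theorem c1377 : Block F al 0 352768 352180 :=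
  block_comb c1376 b1377 (Nat.zero_le _) (Nat.le_of_ble_eq_true rfl) rfl

theorem c1378 : Block F al 0 353024 352436 :=
  block_comb c1377 b1378 (Nat.zero_le _) (Nat.le_of_ble_eq_true rfl) rfl

theorem c1379 : Block F al 0 353280 352692 :=
  block_comb c1378 b1379 (Nat.zero_le _) (Nat.le_of_ble_eq_true rfl) rfl

theorem c1380 : Block F al 0 353536 352948 :=
  block_comb c1379 b1380 (Nat.zero_le _) (Nat.le_of_ble_eq_true rfl) rfl

theorem c1381 : Block F al 0 353792 353204 :=
  block_comb c1380 b1381 (Nat.zero_le _) (Nat.le_of_ble_eq_true rfl) rfl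

theorem c1382 : Block F al 0 354048 353460 :=
  block_comb c1381 b1382 (Nat.zero_le _) (Nat.le_of_ble_eq_true rfl) rfl

theorem c1383 : Block F al 0 354304 353716 :=
  block_comb c1382 b1383 (Nat.zero_le _) (Nat.le_of_ble_eq_true rfl) rfl

theorem c1384 : Block F al 0 354560 353972 :=
  block_comb c1383 b1384 (Nat.zero_le _) (Nat.le_of_ble_eq_true rfl) rfl

theorem c1385 : Block F al 0 354816 354228 :=
  block_comb c1384 b1385 (Nat.zero_le _) (Nat.le_of_ble_eq_true rfl) rfl

theorem c1386 : Block F al 0 355072 354484 :=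
  block_comb c1385 b1386 (Nat.zero_le _) (Nat.le_of_ble_eq_true rfl) rfl

theorem c1387 : Block F al 0 355328 354740 :=
  block_comb c1386 b1387 (Nat.zero_le _) (Nat.le_of_ble_eq_true rfl) rfl

theorem c1388 : Block F al 0 355584 354996 :=
  block_comb c1387 b1388 (Nat.zero_le _) (Nat.le_of_ble_eq_true rfl) rfl

theorem c1389 : Block F al 0 355840 355252 :=
  block_comb c1388 b1389 (Nat.zero_le _) (Nat.le_of_ble_eq_true rfl) rfl

theorem c1390 : Block F al 0 356096 355508 :=
  block_comb c1389 b1390 (Nat.zero_le _) (Nat.le_of_ble_eq_true rfl) rfl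

theorem c1391 : Block F al 0 356352 355764 :=
  block_comb c1390 b1391 (Nat.zero_le _) (Nat.le_of_ble_eq_true rfl) rfl

theorem c1392 : Block F al 0 356608 356020 :=
  block_comb c1391 b1392 (Nat.zero_le _) (Nat.le_of_ble_eq_true rfl) rfl

theorem c1393 : Block F al 0 356864 356276 :=
  block_comb c1392 b1393 (Nat.zero_le _) (Nat.le_of_ble_eq_true rfl) rfl

theorem c1394 : Block F al 0 357120 356532 :=
  block_comb c1393 b1394 (Nat.zero_le _) (Nat.le_of_ble_eq_true rfl) rfl

theorem c1395 : Block F al 0 357376 356788 :=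
  block_comb c1394 b1395 (Nat.zero_le _) (Nat.le_of_ble_eq_true rfl) rfl

theorem c1396 : Block F al 0 357632 357044 :=
  block_comb c1395 b1396 (Nat.zero_le _) (Nat.le_of_ble_eq_true rfl) rfl

theorem c1397 : Block F al 0 357888 357300 :=
  block_comb c1396 b1397 (Nat.zero_le _) (Nat.le_of_ble_eq_true rfl) rfl

theorem c1398 : Block F al 0 358144 357556 :=
  block_comb c1397 b1398 (Nat.zero_le _) (Nat.le_of_ble_eq_true rfl) rfl

theorem c1399 : Block F al 0 358400 357812 :=
  block_comb c1398 b1399 (Nat.zero_le _) (Nat.le_of_ble_eq_true rfl) rfl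

theorem c1400 : Block F al 0 358656 358068 :=
  block_comb c1399 b1400 (Nat.zero_le _) (Nat.le_of_ble_eq_true rfl) rfl

theorem c1401 : Block F al 0 358912 358324 :=
  block_comb c1400 b1401 (Nat.zero_le _) (Nat.le_of_ble_eq_true rfl) rfl

theorem c1402 : Block F al 0 359168 358580 :=
  block_comb c1401 b1402 (Nat.zero_le _) (Nat.le_of_ble_eq_true rfl) rfl

theorem c1403 : Block F al 0 359424 358836 :=
  block_comb c1402 b1403 (Nat.zero_le _) (Nat.le_of_ble_eq_true rfl) rfl

theorem c1404 : Block F al 0 359680 359092 :=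
  block_comb c1403 b1404 (Nat.zero_le _) (Nat.le_of_ble_eq_true rfl) rfl

theorem c1405 : Block F al 0 359936 359348 :=
  block_comb c1404 b1405 (Nat.zero_le _) (Nat.le_of_ble_eq_true rfl) rfl

theorem c1406 : Block F al 0 360192 359604 :=
  block_comb c1405 b1406 (Nat.zero_le _) (Nat.le_of_ble_eq_true rfl) rfl

theorem c1407 : Block F al 0 360448 359860 :=
  block_comb c1406 b1407 (Nat.zero_le _) (Nat.le_of_ble_eq_true rfl) rfl

theorem c1408 : Block F al 0 360704 360116 :=
  block_comb c1407 b1408 (Nat.zero_le _) (Nat.le_of_ble_eq_true rfl) rfl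

theorem c1409 : Block F al 0 360960 360372 :=
  block_comb c1408 b1409 (Nat.zero_le _) (Nat.le_of_ble_eq_true rfl) rfl

theorem c1410 : Block F al 0 361216 360628 :=
  block_comb c1409 b1410 (Nat.zero_le _) (Nat.le_of_ble_eq_true rfl) rfl

theorem c1411 : Block F al 0 361472 360884 :=
  block_comb c1410 b1411 (Nat.zero_le _) (Nat.le_of_ble_eq_true rfl) rfl

theorem c1412 : Block F al 0 361728 361140 :=
  block_comb c1411 b1412 (Nat.zero_le _) (Nat.le_of_ble_eq_true rfl) rfl

theorem c1413 : Block F al 0 361984 361396 :=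
  block_comb c1412 b1413 (Nat.zero_le _) (Nat.le_of_ble_eq_true rfl) rfl

theorem c1414 : Block F al 0 362240 361652 :=
  block_comb c1413 b1414 (Nat.zero_le _) (Nat.le_of_ble_eq_true rfl) rfl

theorem c1415 : Block F al 0 362496 361908 :=
  block_comb c1414 b1415 (Nat.zero_le _) (Nat.le_of_ble_eq_true rfl) rfl

theorem c1416 : Block F al 0 362752 362164 :=
  block_comb c1415 b1416 (Nat.zero_le _) (Nat.le_of_ble_eq_true rfl) rfl

theorem c1417 : Block F al 0 363008 362420 :=
  block_comb c1416 b1417 (Nat.zero_le _) (Nat.le_of_ble_eq_true rfl) rfl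

theorem c1418 : Block F al 0 363264 362676 :=
  block_comb c1417 b1418 (Nat.zero_le _) (Nat.le_of_ble_eq_true rfl) rfl

theorem c1419 : Block F al 0 363520 362932 :=
  block_comb c1418 b1419 (Nat.zero_le _) (Nat.le_of_ble_eq_true rfl) rfl

theorem c1420 : Block F al 0 363776 363188 :=
  block_comb c1419 b1420 (Nat.zero_le _) (Nat.le_of_ble_eq_true rfl) rfl

theorem c1421 : Block F al 0 364032 363444 :=
  block_comb c1420 b1421 (Nat.zero_le _) (Nat.le_of_ble_eq_true rfl) rfl

theorem c1422 : Block F al 0 364288 363700 :=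
  block_comb c1421 b1422 (Nat.zero_le _) (Nat.le_of_ble_eq_true rfl) rfl

theorem c1423 : Block F al 0 364544 363956 :=
  block_comb c1422 b1423 (Nat.zero_le _) (Nat.le_of_ble_eq_true rfl) rfl

theorem c1424 : Block F al 0 364800 364212 :=
  block_comb c1423 b1424 (Nat.zero_le _) (Nat.le_of_ble_eq_true rfl) rfl

theorem c1425 : Block F al 0 365056 364468 :=
  block_comb c1424 b1425 (Nat.zero_le _) (Nat.le_of_ble_eq_true rfl) rfl

theorem c1426 : Block F al 0 365312 364724 :=
  block_comb c1425 b1426 (Nat.zero_le _) (Nat.le_of_ble_eq_true rfl) rfl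

theorem c1427 : Block F al 0 365568 364980 :=
  block_comb c1426 b1427 (Nat.zero_le _) (Nat.le_of_ble_eq_true rfl) rfl

theorem c1428 : Block F al 0 365824 365236 :=
  block_comb c1427 b1428 (Nat.zero_le _) (Nat.le_of_ble_eq_true rfl) rfl

theorem c1429 : Block F al 0 366080 365492 :=
  block_comb c1428 b1429 (Nat.zero_le _) (Nat.le_of_ble_eq_true rfl) rfl

theorem c1430 : Block F al 0 366336 365748 :=
  block_comb c1429 b1430 (Nat.zero_le _) (Nat.le_of_ble_eq_true rfl) rfl

theorem c1431 : Block F al 0 366592 366004 :=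
  block_comb c1430 b1431 (Nat.zero_le _) (Nat.le_of_ble_eq_true rfl) rfl

theorem c1432 : Block F al 0 366848 366260 :=
  block_comb c1431 b1432 (Nat.zero_le _) (Nat.le_of_ble_eq_true rfl) rfl

theorem c1433 : Block F al 0 367104 366516 :=
  block_comb c1432 b1433 (Nat.zero_le _) (Nat.le_of_ble_eq_true rfl) rfl

theorem c1434 : Block F al 0 367360 366772 :=
  block_comb c1433 b1434 (Nat.zero_le _) (Nat.le_of_ble_eq_true rfl) rfl

theorem c1435 : Block F al 0 367616 367028 :=
  block_comb c1434 b1435 (Nat.zero_le _) (Nat.le_of_ble_eq_true rfl) rfl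

theorem c1436 : Block F al 0 367872 367284 :=
  block_comb c1435 b1436 (Nat.zero_le _) (Nat.le_of_ble_eq_true rfl) rfl

theorem c1437 : Block F al 0 368128 367540 :=
  block_comb c1436 b1437 (Nat.zero_le _) (Nat.le_of_ble_eq_true rfl) rfl

theorem c1438 : Block F al 0 368384 367796 :=
  block_comb c1437 b1438 (Nat.zero_le _) (Nat.le_of_ble_eq_true rfl) rfl

theorem c1439 : Block F al 0 368640 368052 :=
  block_comb c1438 b1439 (Nat.zero_le _) (Nat.le_of_ble_eq_true rfl) rfl

theorem c1440 : Block F al 0 368896 368308 :=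
  block_comb c1439 b1440 (Nat.zero_le _) (Nat.le_of_ble_eq_true rfl) rfl

theorem c1441 : Block F al 0 369152 368564 :=
  block_comb c1440 b1441 (Nat.zero_le _) (Nat.le_of_ble_eq_true rfl) rfl

theorem c1442 : Block F al 0 369408 368820 :=
  block_comb c1441 b1442 (Nat.zero_le _) (Nat.le_of_ble_eq_true rfl) rfl

theorem c1443 : Block F al 0 369664 369076 :=
  block_comb c1442 b1443 (Nat.zero_le _) (Nat.le_of_ble_eq_true rfl) rfl

theorem c1444 : Block F al 0 369920 369332 :=
  block_comb c1443 b1444 (Nat.zero_le _) (Nat.le_of_ble_eq_true rfl) rfl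

theorem c1445 : Block F al 0 370176 369588 :=
  block_comb c1444 b1445 (Nat.zero_le _) (Nat.le_of_ble_eq_true rfl) rfl

theorem c1446 : Block F al 0 370432 369842 :=
  block_comb c1445 b1446 (Nat.zero_le _) (Nat.le_of_ble_eq_true rfl) rfl

theorem c1447 : Block F al 0 370688 370098 :=
  block_comb c1446 b1447 (Nat.zero_le _) (Nat.le_of_ble_eq_true rfl) rfl

theorem c1448 : Block F al 0 370944 370354 :=
  block_comb c1447 b1448 (Nat.zero_le _) (Nat.le_of_ble_eq_true rfl) rfl

theorem c1449 : Block F al 0 371200 370610 :=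
  block_comb c1448 b1449 (Nat.zero_le _) (Nat.le_of_ble_eq_true rfl) rfl

theorem c1450 : Block F al 0 371456 370866 :=
  block_comb c1449 b1450 (Nat.zero_le _) (Nat.le_of_ble_eq_true rfl) rfl

theorem c1451 : Block F al 0 371712 371122 :=
  block_comb c1450 b1451 (Nat.zero_le _) (Nat.le_of_ble_eq_true rfl) rfl

theorem c1452 : Block F al 0 371968 371378 :=
  block_comb c1451 b1452 (Nat.zero_le _) (Nat.le_of_ble_eq_true rfl) rfl

theorem c1453 : Block F al 0 372224 371634 :=
  block_comb c1452 b1453 (Nat.zero_le _) (Nat.le_of_ble_eq_true rfl) rfl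

theorem c1454 : Block F al 0 372480 371890 :=
  block_comb c1453 b1454 (Nat.zero_le _) (Nat.le_of_ble_eq_true rfl) rfl

theorem c1455 : Block F al 0 372736 372146 :=
  block_comb c1454 b1455 (Nat.zero_le _) (Nat.le_of_ble_eq_true rfl) rfl

theorem c1456 : Block F al 0 372992 372402 :=
  block_comb c1455 b1456 (Nat.zero_le _) (Nat.le_of_ble_eq_true rfl) rfl

theorem c1457 : Block F al 0 373248 372658 :=
  block_comb c1456 b1457 (Nat.zero_le _) (Nat.le_of_ble_eq_true rfl) rfl

theorem c1458 : Block F al 0 373504 372914 :=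
  block_comb c1457 b1458 (Nat.zero_le _) (Nat.le_of_ble_eq_true rfl) rfl

theorem c1459 : Block F al 0 373760 373170 :=
  block_comb c1458 b1459 (Nat.zero_le _) (Nat.le_of_ble_eq_true rfl) rfl

theorem c1460 : Block F al 0 374016 373426 :=
  block_comb c1459 b1460 (Nat.zero_le _) (Nat.le_of_ble_eq_true rfl) rfl

theorem c1461 : Block F al 0 374272 373682 :=
  block_comb c1460 b1461 (Nat.zero_le _) (Nat.le_of_ble_eq_true rfl) rfl

theorem c1462 : Block F al 0 374528 373938 :=
  block_comb c1461 b1462 (Nat.zero_le _) (Nat.le_of_ble_eq_true rfl) rfl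

theorem c1463 : Block F al 0 374784 374194 :=
  block_comb c1462 b1463 (Nat.zero_le _) (Nat.le_of_ble_eq_true rfl) rfl

theorem c1464 : Block F al 0 375040 374450 :=
  block_comb c1463 b1464 (Nat.zero_le _) (Nat.le_of_ble_eq_true rfl) rfl

theorem c1465 : Block F al 0 375296 374706 :=
  block_comb c1464 b1465 (Nat.zero_le _) (Nat.le_of_ble_eq_true rfl) rfl

theorem c1466 : Block F al 0 375552 374962 :=
  block_comb c1465 b1466 (Nat.zero_le _) (Nat.le_of_ble_eq_true rfl) rfl

theorem c1467 : Block F al 0 375808 375218 :=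
  block_comb c1466 b1467 (Nat.zero_le _) (Nat.le_of_ble_eq_true rfl) rfl

theorem c1468 : Block F al 0 376064 375474 :=
  block_comb c1467 b1468 (Nat.zero_le _) (Nat.le_of_ble_eq_true rfl) rfl

theorem c1469 : Block F al 0 376320 375730 :=
  block_comb c1468 b1469 (Nat.zero_le _) (Nat.le_of_ble_eq_true rfl) rfl

theorem c1470 : Block F al 0 376576 375986 :=
  block_comb c1469 b1470 (Nat.zero_le _) (Nat.le_of_ble_eq_true rfl) rfl

theorem c1471 : Block F al 0 376832 376240 :=
  block_comb c1470 b1471 (Nat.zero_le _) (Nat.le_of_ble_eq_true rfl) rfl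

theorem c1472 : Block F al 0 377088 376496 :=
  block_comb c1471 b1472 (Nat.zero_le _) (Nat.le_of_ble_eq_true rfl) rfl

theorem c1473 : Block F al 0 377344 376752 :=
  block_comb c1472 b1473 (Nat.zero_le _) (Nat.le_of_ble_eq_true rfl) rfl

theorem c1474 : Block F al 0 377600 377008 :=
  block_comb c1473 b1474 (Nat.zero_le _) (Nat.le_of_ble_eq_true rfl) rfl

theorem c1475 : Block F al 0 377856 377264 :=
  block_comb c1474 b1475 (Nat.zero_le _) (Nat.le_of_ble_eq_true rfl) rfl

theorem c1476 : Block F al 0 378112 377520 :=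
  block_comb c1475 b1476 (Nat.zero_le _) (Nat.le_of_ble_eq_true rfl) rfl

theorem c1477 : Block F al 0 378368 377776 :=
  block_comb c1476 b1477 (Nat.zero_le _) (Nat.le_of_ble_eq_true rfl) rfl

theorem c1478 : Block F al 0 378624 378032 :=
  block_comb c1477 b1478 (Nat.zero_le _) (Nat.le_of_ble_eq_true rfl) rfl

theorem c1479 : Block F al 0 378880 378288 :=
  block_comb c1478 b1479 (Nat.zero_le _) (Nat.le_of_ble_eq_true rfl) rfl

theorem c1480 : Block F al 0 379136 378544 :=
  block_comb c1479 b1480 (Nat.zero_le _) (Nat.le_of_ble_eq_true rfl) rfl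

theorem c1481 : Block F al 0 379392 378800 :=
  block_comb c1480 b1481 (Nat.zero_le _) (Nat.le_of_ble_eq_true rfl) rfl

theorem c1482 : Block F al 0 379648 379056 :=
  block_comb c1481 b1482 (Nat.zero_le _) (Nat.le_of_ble_eq_true rfl) rfl

theorem c1483 : Block F al 0 379904 379312 :=
  block_comb c1482 b1483 (Nat.zero_le _) (Nat.le_of_ble_eq_true rfl) rfl

theorem c1484 : Block F al 0 380160 379568 :=
  block_comb c1483 b1484 (Nat.zero_le _) (Nat.le_of_ble_eq_true rfl) rfl

theorem c1485 : Block F al 0 380416 379824 :=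
  block_comb c1484 b1485 (Nat.zero_le _) (Nat.le_of_ble_eq_true rfl) rfl

theorem c1486 : Block F al 0 380672 380080 :=
  block_comb c1485 b1486 (Nat.zero_le _) (Nat.le_of_ble_eq_true rfl) rfl

theorem c1487 : Block F al 0 380928 380336 :=
  block_comb c1486 b1487 (Nat.zero_le _) (Nat.le_of_ble_eq_true rfl) rfl

theorem c1488 : Block F al 0 381184 380592 :=
  block_comb c1487 b1488 (Nat.zero_le _) (Nat.le_of_ble_eq_true rfl) rfl

theorem c1489 : Block F al 0 381440 380848 :=
  block_comb c1488 b1489 (Nat.zero_le _) (Nat.le_of_ble_eq_true rfl) rfl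

theorem c1490 : Block F al 0 381696 381104 :=
  block_comb c1489 b1490 (Nat.zero_le _) (Nat.le_of_ble_eq_true rfl) rfl

theorem c1491 : Block F al 0 381952 381360 :=
  block_comb c1490 b1491 (Nat.zero_le _) (Nat.le_of_ble_eq_true rfl) rfl

theorem c1492 : Block F al 0 382208 381616 :=
  block_comb c1491 b1492 (Nat.zero_le _) (Nat.le_of_ble_eq_true rfl) rfl

theorem c1493 : Block F al 0 382464 381872 :=
  block_comb c1492 b1493 (Nat.zero_le _) (Nat.le_of_ble_eq_true rfl) rfl

theorem c1494 : Block F al 0 382720 382128 :=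
  block_comb c1493 b1494 (Nat.zero_le _) (Nat.le_of_ble_eq_true rfl) rfl

theorem c1495 : Block F al 0 382976 382384 :=
  block_comb c1494 b1495 (Nat.zero_le _) (Nat.le_of_ble_eq_true rfl) rfl

theorem c1496 : Block F al 0 383232 382640 :=
  block_comb c1495 b1496 (Nat.zero_le _) (Nat.le_of_ble_eq_true rfl) rfl

theorem c1497 : Block F al 0 383488 382896 :=
  block_comb c1496 b1497 (Nat.zero_le _) (Nat.le_of_ble_eq_true rfl) rfl

theorem c1498 : Block F al 0 383744 383152 :=
  block_comb c1497 b1498 (Nat.zero_le _) (Nat.le_of_ble_eq_true rfl) rfl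

theorem c1499 : Block F al 0 384000 383408 :=
  block_comb c1498 b1499 (Nat.zero_le _) (Nat.le_of_ble_eq_true rfl) rfl

theorem c1500 : Block F al 0 384256 383664 :=
  block_comb c1499 b1500 (Nat.zero_le _) (Nat.le_of_ble_eq_true rfl) rfl

theorem c1501 : Block F al 0 384512 383920 :=
  block_comb c1500 b1501 (Nat.zero_le _) (Nat.le_of_ble_eq_true rfl) rfl

theorem c1502 : Block F al 0 384768 384176 :=
  block_comb c1501 b1502 (Nat.zero_le _) (Nat.le_of_ble_eq_true rfl) rfl

theorem c1503 : Block F al 0 385024 384432 :=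
  block_comb c1502 b1503 (Nat.zero_le _) (Nat.le_of_ble_eq_true rfl) rfl

theorem c1504 : Block F al 0 385280 384688 :=
  block_comb c1503 b1504 (Nat.zero_le _) (Nat.le_of_ble_eq_true rfl) rfl

theorem c1505 : Block F al 0 385536 384944 :=
  block_comb c1504 b1505 (Nat.zero_le _) (Nat.le_of_ble_eq_true rfl) rfl

theorem c1506 : Block F al 0 385792 385200 :=
  block_comb c1505 b1506 (Nat.zero_le _) (Nat.le_of_ble_eq_true rfl) rfl

theorem c1507 : Block F al 0 386048 385456 :=
  block_comb c1506 b1507 (Nat.zero_le _) (Nat.le_of_ble_eq_true rfl) rfl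

theorem c1508 : Block F al 0 386304 385712 :=
  block_comb c1507 b1508 (Nat.zero_le _) (Nat.le_of_ble_eq_true rfl) rfl

theorem c1509 : Block F al 0 386560 385968 :=
  block_comb c1508 b1509 (Nat.zero_le _) (Nat.le_of_ble_eq_true rfl) rfl

theorem c1510 : Block F al 0 386816 386224 :=
  block_comb c1509 b1510 (Nat.zero_le _) (Nat.le_of_ble_eq_true rfl) rfl

theorem c1511 : Block F al 0 387072 386480 :=
  block_comb c1510 b1511 (Nat.zero_le _) (Nat.le_of_ble_eq_true rfl) rfl

theorem c1512 : Block F al 0 387328 386736 :=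
  block_comb c1511 b1512 (Nat.zero_le _) (Nat.le_of_ble_eq_true rfl) rfl

theorem c1513 : Block F al 0 387584 386992 :=
  block_comb c1512 b1513 (Nat.zero_le _) (Nat.le_of_ble_eq_true rfl) rfl

theorem c1514 : Block F al 0 387840 387248 :=
  block_comb c1513 b1514 (Nat.zero_le _) (Nat.le_of_ble_eq_true rfl) rfl

theorem c1515 : Block F al 0 388096 387504 :=
  block_comb c1514 b1515 (Nat.zero_le _) (Nat.le_of_ble_eq_true rfl) rfl

theorem c1516 : Block F al 0 388352 387760 :=
  block_comb c1515 b1516 (Nat.zero_le _) (Nat.le_of_ble_eq_true rfl) rfl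

theorem c1517 : Block F al 0 388608 388016 :=
  block_comb c1516 b1517 (Nat.zero_le _) (Nat.le_of_ble_eq_true rfl) rfl

theorem c1518 : Block F al 0 388864 388272 :=
  block_comb c1517 b1518 (Nat.zero_le _) (Nat.le_of_ble_eq_true rfl) rfl

theorem c1519 : Block F al 0 389120 388528 :=
  block_comb c1518 b1519 (Nat.zero_le _) (Nat.le_of_ble_eq_true rfl) rfl

theorem c1520 : Block F al 0 389376 388784 :=
  block_comb c1519 b1520 (Nat.zero_le _) (Nat.le_of_ble_eq_true rfl) rfl

theorem c1521 : Block F al 0 389632 389040 :=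
  block_comb c1520 b1521 (Nat.zero_le _) (Nat.le_of_ble_eq_true rfl) rfl

theorem c1522 : Block F al 0 389888 389296 :=
  block_comb c1521 b1522 (Nat.zero_le _) (Nat.le_of_ble_eq_true rfl) rfl

theorem c1523 : Block F al 0 390144 389552 :=
  block_comb c1522 b1523 (Nat.zero_le _) (Nat.le_of_ble_eq_true rfl) rfl

theorem c1524 : Block F al 0 390400 389808 :=
  block_comb c1523 b1524 (Nat.zero_le _) (Nat.le_of_ble_eq_true rfl) rfl

theorem c1525 : Block F al 0 390656 390064 :=
  block_comb c1524 b1525 (Nat.zero_le _) (Nat.le_of_ble_eq_true rfl) rfl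

theorem c1526 : Block F al 0 390912 390320 :=
  block_comb c1525 b1526 (Nat.zero_le _) (Nat.le_of_ble_eq_true rfl) rfl

theorem c1527 : Block F al 0 391168 390576 :=
  block_comb c1526 b1527 (Nat.zero_le _) (Nat.le_of_ble_eq_true rfl) rfl

theorem c1528 : Block F al 0 391424 390832 :=
  block_comb c1527 b1528 (Nat.zero_le _) (Nat.le_of_ble_eq_true rfl) rfl

theorem c1529 : Block F al 0 391680 391088 :=
  block_comb c1528 b1529 (Nat.zero_le _) (Nat.le_of_ble_eq_true rfl) rfl

theorem c1530 : Block F al 0 391936 391344 :=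
  block_comb c1529 b1530 (Nat.zero_le _) (Nat.le_of_ble_eq_true rfl) rfl

theorem c1531 : Block F al 0 392192 391600 :=
  block_comb c1530 b1531 (Nat.zero_le _) (Nat.le_of_ble_eq_true rfl) rfl

theorem c1532 : Block F al 0 392448 391856 :=
  block_comb c1531 b1532 (Nat.zero_le _) (Nat.le_of_ble_eq_true rfl) rfl

theorem c1533 : Block F al 0 392704 392112 :=
  block_comb c1532 b1533 (Nat.zero_le _) (Nat.le_of_ble_eq_true rfl) rfl

theorem c1534 : Block F al 0 392960 392368 :=
  block_comb c1533 b1534 (Nat.zero_le _) (Nat.le_of_ble_eq_true rfl) rfl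

theorem c1535 : Block F al 0 393216 392624 :=
  block_comb c1534 b1535 (Nat.zero_le _) (Nat.le_of_ble_eq_true rfl) rfl

theorem c1536 : Block F al 0 393472 392880 :=
  block_comb c1535 b1536 (Nat.zero_le _) (Nat.le_of_ble_eq_true rfl) rfl

theorem c1537 : Block F al 0 393728 393136 :=
  block_comb c1536 b1537 (Nat.zero_le _) (Nat.le_of_ble_eq_true rfl) rfl

theorem c1538 : Block F al 0 393984 393392 :=
  block_comb c1537 b1538 (Nat.zero_le _) (Nat.le_of_ble_eq_true rfl) rfl

theorem c1539 : Block F al 0 394240 393648 :=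
  block_comb c1538 b1539 (Nat.zero_le _) (Nat.le_of_ble_eq_true rfl) rfl

theorem c1540 : Block F al 0 394496 393904 :=
  block_comb c1539 b1540 (Nat.zero_le _) (Nat.le_of_ble_eq_true rfl) rfl

theorem c1541 : Block F al 0 394752 394160 :=
  block_comb c1540 b1541 (Nat.zero_le _) (Nat.le_of_ble_eq_true rfl) rfl

theorem c1542 : Block F al 0 395008 394416 :=
  block_comb c1541 b1542 (Nat.zero_le _) (Nat.le_of_ble_eq_true rfl) rfl

theorem c1543 : Block F al 0 395264 394672 :=
  block_comb c1542 b1543 (Nat.zero_le _) (Nat.le_of_ble_eq_true rfl) rfl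

theorem c1544 : Block F al 0 395520 394928 :=
  block_comb c1543 b1544 (Nat.zero_le _) (Nat.le_of_ble_eq_true rfl) rfl

theorem c1545 : Block F al 0 395776 395184 :=
  block_comb c1544 b1545 (Nat.zero_le _) (Nat.le_of_ble_eq_true rfl) rfl

theorem c1546 : Block F al 0 396032 395440 :=
  block_comb c1545 b1546 (Nat.zero_le _) (Nat.le_of_ble_eq_true rfl) rfl

theorem c1547 : Block F al 0 396288 395696 :=
  block_comb c1546 b1547 (Nat.zero_le _) (Nat.le_of_ble_eq_true rfl) rfl

theorem c1548 : Block F al 0 396544 395952 :=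
  block_comb c1547 b1548 (Nat.zero_le _) (Nat.le_of_ble_eq_true rfl) rfl

theorem c1549 : Block F al 0 396800 396208 :=
  block_comb c1548 b1549 (Nat.zero_le _) (Nat.le_of_ble_eq_true rfl) rfl

theorem c1550 : Block F al 0 397056 396464 :=
  block_comb c1549 b1550 (Nat.zero_le _) (Nat.le_of_ble_eq_true rfl) rfl

theorem c1551 : Block F al 0 397312 396720 :=
  block_comb c1550 b1551 (Nat.zero_le _) (Nat.le_of_ble_eq_true rfl) rfl

theorem c1552 : Block F al 0 397568 396976 :=
  block_comb c1551 b1552 (Nat.zero_le _) (Nat.le_of_ble_eq_true rfl) rfl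

theorem c1553 : Block F al 0 397824 397232 :=
  block_comb c1552 b1553 (Nat.zero_le _) (Nat.le_of_ble_eq_true rfl) rfl

theorem c1554 : Block F al 0 398080 397488 :=
  block_comb c1553 b1554 (Nat.zero_le _) (Nat.le_of_ble_eq_true rfl) rfl

theorem c1555 : Block F al 0 398336 397744 :=
  block_comb c1554 b1555 (Nat.zero_le _) (Nat.le_of_ble_eq_true rfl) rfl

theorem c1556 : Block F al 0 398592 398000 :=
  block_comb c1555 b1556 (Nat.zero_le _) (Nat.le_of_ble_eq_true rfl) rfl

theorem c1557 : Block F al 0 398848 398256 :=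
  block_comb c1556 b1557 (Nat.zero_le _) (Nat.le_of_ble_eq_true rfl) rfl

theorem c1558 : Block F al 0 399104 398512 :=
  block_comb c1557 b1558 (Nat.zero_le _) (Nat.le_of_ble_eq_true rfl) rfl

theorem c1559 : Block F al 0 399360 398768 :=
  block_comb c1558 b1559 (Nat.zero_le _) (Nat.le_of_ble_eq_true rfl) rfl

theorem c1560 : Block F al 0 399616 399024 :=
  block_comb c1559 b1560 (Nat.zero_le _) (Nat.le_of_ble_eq_true rfl) rfl

theorem c1561 : Block F al 0 399872 399280 :=
  block_comb c1560 b1561 (Nat.zero_le _) (Nat.le_of_ble_eq_true rfl) rfl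

theorem c1562 : Block F al 0 400128 399536 :=
  block_comb c1561 b1562 (Nat.zero_le _) (Nat.le_of_ble_eq_true rfl) rfl

theorem c1563 : Block F al 0 400384 399792 :=
  block_comb c1562 b1563 (Nat.zero_le _) (Nat.le_of_ble_eq_true rfl) rfl

theorem c1564 : Block F al 0 400640 400048 :=
  block_comb c1563 b1564 (Nat.zero_le _) (Nat.le_of_ble_eq_true rfl) rfl

theorem c1565 : Block F al 0 400896 400304 :=
  block_comb c1564 b1565 (Nat.zero_le _) (Nat.le_of_ble_eq_true rfl) rfl

theorem c1566 : Block F al 0 401152 400560 :=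
  block_comb c1565 b1566 (Nat.zero_le _) (Nat.le_of_ble_eq_true rfl) rfl

theorem c1567 : Block F al 0 401408 400816 :=
  block_comb c1566 b1567 (Nat.zero_le _) (Nat.le_of_ble_eq_true rfl) rfl

theorem c1568 : Block F al 0 401664 401072 :=
  block_comb c1567 b1568 (Nat.zero_le _) (Nat.le_of_ble_eq_true rfl) rfl

theorem c1569 : Block F al 0 401920 401328 :=
  block_comb c1568 b1569 (Nat.zero_le _) (Nat.le_of_ble_eq_true rfl) rfl

theorem c1570 : Block F al 0 402176 401584 :=
  block_comb c1569 b1570 (Nat.zero_le _) (Nat.le_of_ble_eq_true rfl) rfl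

theorem c1571 : Block F al 0 402432 401840 :=
  block_comb c1570 b1571 (Nat.zero_le _) (Nat.le_of_ble_eq_true rfl) rfl

theorem c1572 : Block F al 0 402688 402096 :=
  block_comb c1571 b1572 (Nat.zero_le _) (Nat.le_of_ble_eq_true rfl) rfl

theorem c1573 : Block F al 0 402944 402352 :=
  block_comb c1572 b1573 (Nat.zero_le _) (Nat.le_of_ble_eq_true rfl) rfl

theorem c1574 : Block F al 0 403200 402608 :=
  block_comb c1573 b1574 (Nat.zero_le _) (Nat.le_of_ble_eq_true rfl) rfl

theorem c1575 : Block F al 0 403456 402864 :=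
  block_comb c1574 b1575 (Nat.zero_le _) (Nat.le_of_ble_eq_true rfl) rfl

theorem c1576 : Block F al 0 403712 403120 :=
  block_comb c1575 b1576 (Nat.zero_le _) (Nat.le_of_ble_eq_true rfl) rfl

theorem c1577 : Block F al 0 403968 403376 :=
  block_comb c1576 b1577 (Nat.zero_le _) (Nat.le_of_ble_eq_true rfl) rfl

theorem c1578 : Block F al 0 404224 403632 :=
  block_comb c1577 b1578 (Nat.zero_le _) (Nat.le_of_ble_eq_true rfl) rfl

theorem c1579 : Block F al 0 404480 403888 :=
  block_comb c1578 b1579 (Nat.zero_le _) (Nat.le_of_ble_eq_true rfl) rfl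

theorem c1580 : Block F al 0 404736 404144 :=
  block_comb c1579 b1580 (Nat.zero_le _) (Nat.le_of_ble_eq_true rfl) rfl

theorem c1581 : Block F al 0 404992 404400 :=
  block_comb c1580 b1581 (Nat.zero_le _) (Nat.le_of_ble_eq_true rfl) rfl

theorem c1582 : Block F al 0 405248 404656 :=
  block_comb c1581 b1582 (Nat.zero_le _) (Nat.le_of_ble_eq_true rfl) rfl

theorem c1583 : Block F al 0 405504 404912 :=
  block_comb c1582 b1583 (Nat.zero_le _) (Nat.le_of_ble_eq_true rfl) rfl

theorem c1584 : Block F al 0 405760 405168 :=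
  block_comb c1583 b1584 (Nat.zero_le _) (Nat.le_of_ble_eq_true rfl) rfl

theorem c1585 : Block F al 0 406016 405424 :=
  block_comb c1584 b1585 (Nat.zero_le _) (Nat.le_of_ble_eq_true rfl) rfl

theorem c1586 : Block F al 0 406272 405680 :=
  block_comb c1585 b1586 (Nat.zero_le _) (Nat.le_of_ble_eq_true rfl) rfl

theorem c1587 : Block F al 0 406528 405936 :=
  block_comb c1586 b1587 (Nat.zero_le _) (Nat.le_of_ble_eq_true rfl) rfl

theorem c1588 : Block F al 0 406784 406192 :=
  block_comb c1587 b1588 (Nat.zero_le _) (Nat.le_of_ble_eq_true rfl) rfl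

theorem c1589 : Block F al 0 407040 406448 :=
  block_comb c1588 b1589 (Nat.zero_le _) (Nat.le_of_ble_eq_true rfl) rfl

theorem c1590 : Block F al 0 407296 406704 :=
  block_comb c1589 b1590 (Nat.zero_le _) (Nat.le_of_ble_eq_true rfl) rfl

theorem c1591 : Block F al 0 407552 406960 :=
  block_comb c1590 b1591 (Nat.zero_le _) (Nat.le_of_ble_eq_true rfl) rfl

theorem c1592 : Block F al 0 407808 407216 :=
  block_comb c1591 b1592 (Nat.zero_le _) (Nat.le_of_ble_eq_true rfl) rfl

theorem c1593 : Block F al 0 408064 407472 :=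
  block_comb c1592 b1593 (Nat.zero_le _) (Nat.le_of_ble_eq_true rfl) rfl

theorem c1594 : Block F al 0 408320 407728 :=
  block_comb c1593 b1594 (Nat.zero_le _) (Nat.le_of_ble_eq_true rfl) rfl

theorem c1595 : Block F al 0 408576 407984 :=
  block_comb c1594 b1595 (Nat.zero_le _) (Nat.le_of_ble_eq_true rfl) rfl

theorem c1596 : Block F al 0 408832 408240 :=
  block_comb c1595 b1596 (Nat.zero_le _) (Nat.le_of_ble_eq_true rfl) rfl

theorem c1597 : Block F al 0 409088 408496 :=
  block_comb c1596 b1597 (Nat.zero_le _) (Nat.le_of_ble_eq_true rfl) rfl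

theorem c1598 : Block F al 0 409344 408752 :=
  block_comb c1597 b1598 (Nat.zero_le _) (Nat.le_of_ble_eq_true rfl) rfl

theorem c1599 : Block F al 0 409600 409008 :=
  block_comb c1598 b1599 (Nat.zero_le _) (Nat.le_of_ble_eq_true rfl) rfl

theorem c1600 : Block F al 0 409856 409264 :=
  block_comb c1599 b1600 (Nat.zero_le _) (Nat.le_of_ble_eq_true rfl) rfl

theorem c1601 : Block F al 0 410112 409520 :=
  block_comb c1600 b1601 (Nat.zero_le _) (Nat.le_of_ble_eq_true rfl) rfl

theorem c1602 : Block F al 0 410368 409776 :=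
  block_comb c1601 b1602 (Nat.zero_le _) (Nat.le_of_ble_eq_true rfl) rfl

theorem c1603 : Block F al 0 410624 410032 :=
  block_comb c1602 b1603 (Nat.zero_le _) (Nat.le_of_ble_eq_true rfl) rfl

theorem c1604 : Block F al 0 410880 410288 :=
  block_comb c1603 b1604 (Nat.zero_le _) (Nat.le_of_ble_eq_true rfl) rfl

theorem c1605 : Block F al 0 411136 410544 :=
  block_comb c1604 b1605 (Nat.zero_le _) (Nat.le_of_ble_eq_true rfl) rfl

theorem c1606 : Block F al 0 411392 410800 :=
  block_comb c1605 b1606 (Nat.zero_le _) (Nat.le_of_ble_eq_true rfl) rfl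

theorem c1607 : Block F al 0 411648 411056 :=
  block_comb c1606 b1607 (Nat.zero_le _) (Nat.le_of_ble_eq_true rfl) rfl

theorem c1608 : Block F al 0 411904 411312 :=
  block_comb c1607 b1608 (Nat.zero_le _) (Nat.le_of_ble_eq_true rfl) rfl

theorem c1609 : Block F al 0 412160 411568 :=
  block_comb c1608 b1609 (Nat.zero_le _) (Nat.le_of_ble_eq_true rfl) rfl

theorem c1610 : Block F al 0 412416 411824 :=
  block_comb c1609 b1610 (Nat.zero_le _) (Nat.le_of_ble_eq_true rfl) rfl

theorem c1611 : Block F al 0 412672 412080 :=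
  block_comb c1610 b1611 (Nat.zero_le _) (Nat.le_of_ble_eq_true rfl) rfl

theorem c1612 : Block F al 0 412928 412336 :=
  block_comb c1611 b1612 (Nat.zero_le _) (Nat.le_of_ble_eq_true rfl) rfl

theorem c1613 : Block F al 0 413184 412592 :=
  block_comb c1612 b1613 (Nat.zero_le _) (Nat.le_of_ble_eq_true rfl) rfl

theorem c1614 : Block F al 0 413440 412848 :=
  block_comb c1613 b1614 (Nat.zero_le _) (Nat.le_of_ble_eq_true rfl) rfl

theorem c1615 : Block F al 0 413696 413104 :=
  block_comb c1614 b1615 (Nat.zero_le _) (Nat.le_of_ble_eq_true rfl) rfl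

theorem c1616 : Block F al 0 413952 413360 :=
  block_comb c1615 b1616 (Nat.zero_le _) (Nat.le_of_ble_eq_true rfl) rfl

theorem c1617 : Block F al 0 414208 413616 :=
  block_comb c1616 b1617 (Nat.zero_le _) (Nat.le_of_ble_eq_true rfl) rfl

theorem c1618 : Block F al 0 414464 413871 :=
  block_comb c1617 b1618 (Nat.zero_le _) (Nat.le_of_ble_eq_true rfl) rfl

theorem c1619 : Block F al 0 414720 414127 :=
  block_comb c1618 b1619 (Nat.zero_le _) (Nat.le_of_ble_eq_true rfl) rfl

theorem c1620 : Block F al 0 414976 414383 :=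
  block_comb c1619 b1620 (Nat.zero_le _) (Nat.le_of_ble_eq_true rfl) rfl

theorem c1621 : Block F al 0 415232 414635 :=
  block_comb c1620 b1621 (Nat.zero_le _) (Nat.le_of_ble_eq_true rfl) rfl

theorem c1622 : Block F al 0 415488 414891 :=
  block_comb c1621 b1622 (Nat.zero_le _) (Nat.le_of_ble_eq_true rfl) rfl

theorem c1623 : Block F al 0 415744 415147 :=
  block_comb c1622 b1623 (Nat.zero_le _) (Nat.le_of_ble_eq_true rfl) rfl

theorem c1624 : Block F al 0 416000 415403 :=
  block_comb c1623 b1624 (Nat.zero_le _) (Nat.le_of_ble_eq_true rfl) rfl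

theorem c1625 : Block F al 0 416256 415653 :=
  block_comb c1624 b1625 (Nat.zero_le _) (Nat.le_of_ble_eq_true rfl) rfl

theorem c1626 : Block F al 0 416512 415909 :=
  block_comb c1625 b1626 (Nat.zero_le _) (Nat.le_of_ble_eq_true rfl) rfl

theorem c1627 : Block F al 0 416768 416165 :=
  block_comb c1626 b1627 (Nat.zero_le _) (Nat.le_of_ble_eq_true rfl) rfl

theorem c1628 : Block F al 0 417024 416421 :=
  block_comb c1627 b1628 (Nat.zero_le _) (Nat.le_of_ble_eq_true rfl) rfl

theorem c1629 : Block F al 0 417280 416677 :=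
  block_comb c1628 b1629 (Nat.zero_le _) (Nat.le_of_ble_eq_true rfl) rfl

theorem c1630 : Block F al 0 417536 416933 :=
  block_comb c1629 b1630 (Nat.zero_le _) (Nat.le_of_ble_eq_true rfl) rfl

theorem c1631 : Block F al 0 417792 417189 :=
  block_comb c1630 b1631 (Nat.zero_le _) (Nat.le_of_ble_eq_true rfl) rfl

theorem c1632 : Block F al 0 418048 417445 :=
  block_comb c1631 b1632 (Nat.zero_le _) (Nat.le_of_ble_eq_true rfl) rfl

theorem c1633 : Block F al 0 418304 417701 :=
  block_comb c1632 b1633 (Nat.zero_le _) (Nat.le_of_ble_eq_true rfl) rfl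

theorem c1634 : Block F al 0 418560 417957 :=
  block_comb c1633 b1634 (Nat.zero_le _) (Nat.le_of_ble_eq_true rfl) rfl

theorem c1635 : Block F al 0 418816 418213 :=
  block_comb c1634 b1635 (Nat.zero_le _) (Nat.le_of_ble_eq_true rfl) rfl

theorem c1636 : Block F al 0 419072 418469 :=
  block_comb c1635 b1636 (Nat.zero_le _) (Nat.le_of_ble_eq_true rfl) rfl

theorem c1637 : Block F al 0 419328 418725 :=
  block_comb c1636 b1637 (Nat.zero_le _) (Nat.le_of_ble_eq_true rfl) rfl

theorem c1638 : Block F al 0 419584 418981 :=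
  block_comb c1637 b1638 (Nat.zero_le _) (Nat.le_of_ble_eq_true rfl) rfl

theorem c1639 : Block F al 0 419840 419237 :=
  block_comb c1638 b1639 (Nat.zero_le _) (Nat.le_of_ble_eq_true rfl) rfl

theorem c1640 : Block F al 0 420096 419493 :=
  block_comb c1639 b1640 (Nat.zero_le _) (Nat.le_of_ble_eq_true rfl) rfl

theorem c1641 : Block F al 0 420352 419749 :=
  block_comb c1640 b1641 (Nat.zero_le _) (Nat.le_of_ble_eq_true rfl) rfl

theorem c1642 : Block F al 0 420608 420005 :=
  block_comb c1641 b1642 (Nat.zero_le _) (Nat.le_of_ble_eq_true rfl) rfl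

theorem c1643 : Block F al 0 420864 420261 :=
  block_comb c1642 b1643 (Nat.zero_le _) (Nat.le_of_ble_eq_true rfl) rfl

theorem c1644 : Block F al 0 421120 420517 :=
  block_comb c1643 b1644 (Nat.zero_le _) (Nat.le_of_ble_eq_true rfl) rfl

theorem c1645 : Block F al 0 421376 420773 :=
  block_comb c1644 b1645 (Nat.zero_le _) (Nat.le_of_ble_eq_true rfl) rfl

theorem c1646 : Block F al 0 421632 421029 :=
  block_comb c1645 b1646 (Nat.zero_le _) (Nat.le_of_ble_eq_true rfl) rfl

theorem c1647 : Block F al 0 421888 421285 :=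
  block_comb c1646 b1647 (Nat.zero_le _) (Nat.le_of_ble_eq_true rfl) rfl

theorem c1648 : Block F al 0 422144 421541 :=
  block_comb c1647 b1648 (Nat.zero_le _) (Nat.le_of_ble_eq_true rfl) rfl

theorem c1649 : Block F al 0 422400 421797 :=
  block_comb c1648 b1649 (Nat.zero_le _) (Nat.le_of_ble_eq_true rfl) rfl

theorem c1650 : Block F al 0 422656 422053 :=
  block_comb c1649 b1650 (Nat.zero_le _) (Nat.le_of_ble_eq_true rfl) rfl

theorem c1651 : Block F al 0 422912 422308 :=
  block_comb c1650 b1651 (Nat.zero_le _) (Nat.le_of_ble_eq_true rfl) rfl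

theorem c1652 : Block F al 0 423168 422563 :=
  block_comb c1651 b1652 (Nat.zero_le _) (Nat.le_of_ble_eq_true rfl) rfl

theorem c1653 : Block F al 0 423424 422819 :=
  block_comb c1652 b1653 (Nat.zero_le _) (Nat.le_of_ble_eq_true rfl) rfl

theorem c1654 : Block F al 0 423680 423075 :=
  block_comb c1653 b1654 (Nat.zero_le _) (Nat.le_of_ble_eq_true rfl) rfl

theorem c1655 : Block F al 0 423936 423331 :=
  block_comb c1654 b1655 (Nat.zero_le _) (Nat.le_of_ble_eq_true rfl) rfl

theorem c1656 : Block F al 0 424192 423587 :=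
  block_comb c1655 b1656 (Nat.zero_le _) (Nat.le_of_ble_eq_true rfl) rfl

theorem c1657 : Block F al 0 424448 423843 :=
  block_comb c1656 b1657 (Nat.zero_le _) (Nat.le_of_ble_eq_true rfl) rfl

theorem c1658 : Block F al 0 424704 424099 :=
  block_comb c1657 b1658 (Nat.zero_le _) (Nat.le_of_ble_eq_true rfl) rfl

theorem c1659 : Block F al 0 424960 424355 :=
  block_comb c1658 b1659 (Nat.zero_le _) (Nat.le_of_ble_eq_true rfl) rfl

theorem c1660 : Block F al 0 425216 424611 :=
  block_comb c1659 b1660 (Nat.zero_le _) (Nat.le_of_ble_eq_true rfl) rfl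

theorem c1661 : Block F al 0 425472 424867 :=
  block_comb c1660 b1661 (Nat.zero_le _) (Nat.le_of_ble_eq_true rfl) rfl

theorem c1662 : Block F al 0 425728 425121 :=
  block_comb c1661 b1662 (Nat.zero_le _) (Nat.le_of_ble_eq_true rfl) rfl

theorem c1663 : Block F al 0 425984 425377 :=
  block_comb c1662 b1663 (Nat.zero_le _) (Nat.le_of_ble_eq_true rfl) rfl

theorem c1664 : Block F al 0 426240 425633 :=
  block_comb c1663 b1664 (Nat.zero_le _) (Nat.le_of_ble_eq_true rfl) rfl

theorem c1665 : Block F al 0 426496 425889 :=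
  block_comb c1664 b1665 (Nat.zero_le _) (Nat.le_of_ble_eq_true rfl) rfl

theorem c1666 : Block F al 0 426752 426145 :=
  block_comb c1665 b1666 (Nat.zero_le _) (Nat.le_of_ble_eq_true rfl) rfl

theorem c1667 : Block F al 0 427008 426401 :=
  block_comb c1666 b1667 (Nat.zero_le _) (Nat.le_of_ble_eq_true rfl) rfl

theorem c1668 : Block F al 0 427264 426657 :=
  block_comb c1667 b1668 (Nat.zero_le _) (Nat.le_of_ble_eq_true rfl) rfl

theorem c1669 : Block F al 0 427520 426913 :=
  block_comb c1668 b1669 (Nat.zero_le _) (Nat.le_of_ble_eq_true rfl) rfl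

theorem c1670 : Block F al 0 427776 427169 :=
  block_comb c1669 b1670 (Nat.zero_le _) (Nat.le_of_ble_eq_true rfl) rfl

theorem c1671 : Block F al 0 428032 427425 :=
  block_comb c1670 b1671 (Nat.zero_le _) (Nat.le_of_ble_eq_true rfl) rfl

theorem c1672 : Block F al 0 428288 427681 :=
  block_comb c1671 b1672 (Nat.zero_le _) (Nat.le_of_ble_eq_true rfl) rfl

theorem c1673 : Block F al 0 428544 427937 :=
  block_comb c1672 b1673 (Nat.zero_le _) (Nat.le_of_ble_eq_true rfl) rfl

theorem c1674 : Block F al 0 428800 428193 :=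
  block_comb c1673 b1674 (Nat.zero_le _) (Nat.le_of_ble_eq_true rfl) rfl

theorem c1675 : Block F al 0 429056 428449 :=
  block_comb c1674 b1675 (Nat.zero_le _) (Nat.le_of_ble_eq_true rfl) rfl

theorem c1676 : Block F al 0 429312 428705 :=
  block_comb c1675 b1676 (Nat.zero_le _) (Nat.le_of_ble_eq_true rfl) rfl

theorem c1677 : Block F al 0 429568 428961 :=
  block_comb c1676 b1677 (Nat.zero_le _) (Nat.le_of_ble_eq_true rfl) rfl

theorem c1678 : Block F al 0 429824 429217 :=
  block_comb c1677 b1678 (Nat.zero_le _) (Nat.le_of_ble_eq_true rfl) rfl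

theorem c1679 : Block F al 0 430080 429473 :=
  block_comb c1678 b1679 (Nat.zero_le _) (Nat.le_of_ble_eq_true rfl) rfl

theorem c1680 : Block F al 0 430336 429729 :=
  block_comb c1679 b1680 (Nat.zero_le _) (Nat.le_of_ble_eq_true rfl) rfl

theorem c1681 : Block F al 0 430592 429985 :=
  block_comb c1680 b1681 (Nat.zero_le _) (Nat.le_of_ble_eq_true rfl) rfl

theorem c1682 : Block F al 0 430848 430241 :=
  block_comb c1681 b1682 (Nat.zero_le _) (Nat.le_of_ble_eq_true rfl) rfl

theorem c1683 : Block F al 0 431104 430497 :=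
  block_comb c1682 b1683 (Nat.zero_le _) (Nat.le_of_ble_eq_true rfl) rfl

theorem c1684 : Block F al 0 431360 430753 :=
  block_comb c1683 b1684 (Nat.zero_le _) (Nat.le_of_ble_eq_true rfl) rfl

theorem c1685 : Block F al 0 431616 431009 :=
  block_comb c1684 b1685 (Nat.zero_le _) (Nat.le_of_ble_eq_true rfl) rfl

theorem c1686 : Block F al 0 431872 431265 :=
  block_comb c1685 b1686 (Nat.zero_le _) (Nat.le_of_ble_eq_true rfl) rfl

theorem c1687 : Block F al 0 432128 431521 :=
  block_comb c1686 b1687 (Nat.zero_le _) (Nat.le_of_ble_eq_true rfl) rfl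

theorem c1688 : Block F al 0 432384 431777 :=
  block_comb c1687 b1688 (Nat.zero_le _) (Nat.le_of_ble_eq_true rfl) rfl

theorem c1689 : Block F al 0 432640 432033 :=
  block_comb c1688 b1689 (Nat.zero_le _) (Nat.le_of_ble_eq_true rfl) rfl

theorem c1690 : Block F al 0 432896 432289 :=
  block_comb c1689 b1690 (Nat.zero_le _) (Nat.le_of_ble_eq_true rfl) rfl

theorem c1691 : Block F al 0 433152 432545 :=
  block_comb c1690 b1691 (Nat.zero_le _) (Nat.le_of_ble_eq_true rfl) rfl

theorem c1692 : Block F al 0 433408 432801 :=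
  block_comb c1691 b1692 (Nat.zero_le _) (Nat.le_of_ble_eq_true rfl) rfl

theorem c1693 : Block F al 0 433664 433057 :=
  block_comb c1692 b1693 (Nat.zero_le _) (Nat.le_of_ble_eq_true rfl) rfl

theorem c1694 : Block F al 0 433920 433313 :=
  block_comb c1693 b1694 (Nat.zero_le _) (Nat.le_of_ble_eq_true rfl) rfl

theorem c1695 : Block F al 0 434176 433569 :=
  block_comb c1694 b1695 (Nat.zero_le _) (Nat.le_of_ble_eq_true rfl) rfl

theorem c1696 : Block F al 0 434432 433825 :=
  block_comb c1695 b1696 (Nat.zero_le _) (Nat.le_of_ble_eq_true rfl) rfl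

theorem c1697 : Block F al 0 434688 434081 :=
  block_comb c1696 b1697 (Nat.zero_le _) (Nat.le_of_ble_eq_true rfl) rfl

theorem c1698 : Block F al 0 434944 434335 :=
  block_comb c1697 b1698 (Nat.zero_le _) (Nat.le_of_ble_eq_true rfl) rfl

theorem c1699 : Block F al 0 435200 434591 :=
  block_comb c1698 b1699 (Nat.zero_le _) (Nat.le_of_ble_eq_true rfl) rfl

theorem c1700 : Block F al 0 435456 434847 :=
  block_comb c1699 b1700 (Nat.zero_le _) (Nat.le_of_ble_eq_true rfl) rfl

theorem c1701 : Block F al 0 435712 435103 :=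
  block_comb c1700 b1701 (Nat.zero_le _) (Nat.le_of_ble_eq_true rfl) rfl

theorem c1702 : Block F al 0 435968 435359 :=
  block_comb c1701 b1702 (Nat.zero_le _) (Nat.le_of_ble_eq_true rfl) rfl

theorem c1703 : Block F al 0 436224 435615 :=
  block_comb c1702 b1703 (Nat.zero_le _) (Nat.le_of_ble_eq_true rfl) rfl

theorem c1704 : Block F al 0 436480 435871 :=
  block_comb c1703 b1704 (Nat.zero_le _) (Nat.le_of_ble_eq_true rfl) rfl

theorem c1705 : Block F al 0 436736 436127 :=
  block_comb c1704 b1705 (Nat.zero_le _) (Nat.le_of_ble_eq_true rfl) rfl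

theorem c1706 : Block F al 0 436992 436383 :=
  block_comb c1705 b1706 (Nat.zero_le _) (Nat.le_of_ble_eq_true rfl) rfl

theorem c1707 : Block F al 0 437248 436639 :=
  block_comb c1706 b1707 (Nat.zero_le _) (Nat.le_of_ble_eq_true rfl) rfl

theorem c1708 : Block F al 0 437504 436895 :=
  block_comb c1707 b1708 (Nat.zero_le _) (Nat.le_of_ble_eq_true rfl) rfl

theorem c1709 : Block F al 0 437760 437151 :=
  block_comb c1708 b1709 (Nat.zero_le _) (Nat.le_of_ble_eq_true rfl) rfl

theorem c1710 : Block F al 0 438016 437407 :=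
  block_comb c1709 b1710 (Nat.zero_le _) (Nat.le_of_ble_eq_true rfl) rfl

theorem c1711 : Block F al 0 438272 437663 :=
  block_comb c1710 b1711 (Nat.zero_le _) (Nat.le_of_ble_eq_true rfl) rfl

theorem c1712 : Block F al 0 438528 437919 :=
  block_comb c1711 b1712 (Nat.zero_le _) (Nat.le_of_ble_eq_true rfl) rfl

theorem c1713 : Block F al 0 438784 438175 :=
  block_comb c1712 b1713 (Nat.zero_le _) (Nat.le_of_ble_eq_true rfl) rfl

theorem c1714 : Block F al 0 439040 438431 :=
  block_comb c1713 b1714 (Nat.zero_le _) (Nat.le_of_ble_eq_true rfl) rfl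

theorem c1715 : Block F al 0 439296 438687 :=
  block_comb c1714 b1715 (Nat.zero_le _) (Nat.le_of_ble_eq_true rfl) rfl

theorem c1716 : Block F al 0 439552 438943 :=
  block_comb c1715 b1716 (Nat.zero_le _) (Nat.le_of_ble_eq_true rfl) rfl

theorem c1717 : Block F al 0 439808 439199 :=
  block_comb c1716 b1717 (Nat.zero_le _) (Nat.le_of_ble_eq_true rfl) rfl

theorem c1718 : Block F al 0 440064 439455 :=
  block_comb c1717 b1718 (Nat.zero_le _) (Nat.le_of_ble_eq_true rfl) rfl

theorem c1719 : Block F al 0 440320 439711 :=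
  block_comb c1718 b1719 (Nat.zero_le _) (Nat.le_of_ble_eq_true rfl) rfl

theorem c1720 : Block F al 0 440576 439967 :=
  block_comb c1719 b1720 (Nat.zero_le _) (Nat.le_of_ble_eq_true rfl) rfl

theorem c1721 : Block F al 0 440832 440223 :=
  block_comb c1720 b1721 (Nat.zero_le _) (Nat.le_of_ble_eq_true rfl) rfl

theorem c1722 : Block F al 0 441088 440479 :=
  block_comb c1721 b1722 (Nat.zero_le _) (Nat.le_of_ble_eq_true rfl) rfl

theorem c1723 : Block F al 0 441344 440735 :=
  block_comb c1722 b1723 (Nat.zero_le _) (Nat.le_of_ble_eq_true rfl) rfl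

theorem c1724 : Block F al 0 441600 440991 :=
  block_comb c1723 b1724 (Nat.zero_le _) (Nat.le_of_ble_eq_true rfl) rfl

theorem c1725 : Block F al 0 441856 441247 :=
  block_comb c1724 b1725 (Nat.zero_le _) (Nat.le_of_ble_eq_true rfl) rfl

theorem c1726 : Block F al 0 442112 441503 :=
  block_comb c1725 b1726 (Nat.zero_le _) (Nat.le_of_ble_eq_true rfl) rfl

theorem c1727 : Block F al 0 442368 441759 :=
  block_comb c1726 b1727 (Nat.zero_le _) (Nat.le_of_ble_eq_true rfl) rfl

theorem c1728 : Block F al 0 442624 442015 :=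
  block_comb c1727 b1728 (Nat.zero_le _) (Nat.le_of_ble_eq_true rfl) rfl

theorem c1729 : Block F al 0 442880 442271 :=
  block_comb c1728 b1729 (Nat.zero_le _) (Nat.le_of_ble_eq_true rfl) rfl

theorem c1730 : Block F al 0 443136 442527 :=
  block_comb c1729 b1730 (Nat.zero_le _) (Nat.le_of_ble_eq_true rfl) rfl

theorem c1731 : Block F al 0 443392 442783 :=
  block_comb c1730 b1731 (Nat.zero_le _) (Nat.le_of_ble_eq_true rfl) rfl

theorem c1732 : Block F al 0 443648 443039 :=
  block_comb c1731 b1732 (Nat.zero_le _) (Nat.le_of_ble_eq_true rfl) rfl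

theorem c1733 : Block F al 0 443904 443295 :=
  block_comb c1732 b1733 (Nat.zero_le _) (Nat.le_of_ble_eq_true rfl) rfl

theorem c1734 : Block F al 0 444160 443551 :=
  block_comb c1733 b1734 (Nat.zero_le _) (Nat.le_of_ble_eq_true rfl) rfl

theorem c1735 : Block F al 0 444416 443807 :=
  block_comb c1734 b1735 (Nat.zero_le _) (Nat.le_of_ble_eq_true rfl) rfl

theorem c1736 : Block F al 0 444672 444063 :=
  block_comb c1735 b1736 (Nat.zero_le _) (Nat.le_of_ble_eq_true rfl) rfl

theorem c1737 : Block F al 0 444928 444319 :=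
  block_comb c1736 b1737 (Nat.zero_le _) (Nat.le_of_ble_eq_true rfl) rfl

theorem c1738 : Block F al 0 445184 444575 :=
  block_comb c1737 b1738 (Nat.zero_le _) (Nat.le_of_ble_eq_true rfl) rfl

theorem c1739 : Block F al 0 445440 444831 :=
  block_comb c1738 b1739 (Nat.zero_le _) (Nat.le_of_ble_eq_true rfl) rfl

theorem c1740 : Block F al 0 445696 445087 :=
  block_comb c1739 b1740 (Nat.zero_le _) (Nat.le_of_ble_eq_true rfl) rfl

theorem c1741 : Block F al 0 445952 445343 :=
  block_comb c1740 b1741 (Nat.zero_le _) (Nat.le_of_ble_eq_true rfl) rfl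

theorem c1742 : Block F al 0 446208 445599 :=
  block_comb c1741 b1742 (Nat.zero_le _) (Nat.le_of_ble_eq_true rfl) rfl

theorem c1743 : Block F al 0 446464 445855 :=
  block_comb c1742 b1743 (Nat.zero_le _) (Nat.le_of_ble_eq_true rfl) rfl

theorem c1744 : Block F al 0 446720 446111 :=
  block_comb c1743 b1744 (Nat.zero_le _) (Nat.le_of_ble_eq_true rfl) rfl

theorem c1745 : Block F al 0 446976 446367 :=
  block_comb c1744 b1745 (Nat.zero_le _) (Nat.le_of_ble_eq_true rfl) rfl

theorem c1746 : Block F al 0 447232 446623 :=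
  block_comb c1745 b1746 (Nat.zero_le _) (Nat.le_of_ble_eq_true rfl) rfl

theorem c1747 : Block F al 0 447488 446879 :=
  block_comb c1746 b1747 (Nat.zero_le _) (Nat.le_of_ble_eq_true rfl) rfl

theorem c1748 : Block F al 0 447744 447135 :=
  block_comb c1747 b1748 (Nat.zero_le _) (Nat.le_of_ble_eq_true rfl) rfl

theorem c1749 : Block F al 0 448000 447391 :=
  block_comb c1748 b1749 (Nat.zero_le _) (Nat.le_of_ble_eq_true rfl) rfl

theorem c1750 : Block F al 0 448256 447647 :=
  block_comb c1749 b1750 (Nat.zero_le _) (Nat.le_of_ble_eq_true rfl) rfl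

theorem c1751 : Block F al 0 448512 447903 :=
  block_comb c1750 b1751 (Nat.zero_le _) (Nat.le_of_ble_eq_true rfl) rfl

theorem c1752 : Block F al 0 448768 448159 :=
  block_comb c1751 b1752 (Nat.zero_le _) (Nat.le_of_ble_eq_true rfl) rfl

theorem c1753 : Block F al 0 449024 448415 :=
  block_comb c1752 b1753 (Nat.zero_le _) (Nat.le_of_ble_eq_true rfl) rfl

theorem c1754 : Block F al 0 449280 448669 :=
  block_comb c1753 b1754 (Nat.zero_le _) (Nat.le_of_ble_eq_true rfl) rfl

theorem c1755 : Block F al 0 449536 448921 :=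
  block_comb c1754 b1755 (Nat.zero_le _) (Nat.le_of_ble_eq_true rfl) rfl

theorem c1756 : Block F al 0 449792 449175 :=
  block_comb c1755 b1756 (Nat.zero_le _) (Nat.le_of_ble_eq_true rfl) rfl

theorem c1757 : Block F al 0 450048 449431 :=
  block_comb c1756 b1757 (Nat.zero_le _) (Nat.le_of_ble_eq_true rfl) rfl

theorem c1758 : Block F al 0 450304 449687 :=
  block_comb c1757 b1758 (Nat.zero_le _) (Nat.le_of_ble_eq_true rfl) rfl

theorem c1759 : Block F al 0 450560 449943 :=
  block_comb c1758 b1759 (Nat.zero_le _) (Nat.le_of_ble_eq_true rfl) rfl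

theorem c1760 : Block F al 0 450816 450199 :=
  block_comb c1759 b1760 (Nat.zero_le _) (Nat.le_of_ble_eq_true rfl) rfl

theorem c1761 : Block F al 0 451072 450455 :=
  block_comb c1760 b1761 (Nat.zero_le _) (Nat.le_of_ble_eq_true rfl) rfl

theorem c1762 : Block F al 0 451328 450711 :=
  block_comb c1761 b1762 (Nat.zero_le _) (Nat.le_of_ble_eq_true rfl) rfl

theorem c1763 : Block F al 0 451584 450967 :=
  block_comb c1762 b1763 (Nat.zero_le _) (Nat.le_of_ble_eq_true rfl) rfl

theorem c1764 : Block F al 0 451840 451223 :=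
  block_comb c1763 b1764 (Nat.zero_le _) (Nat.le_of_ble_eq_true rfl) rfl

theorem c1765 : Block F al 0 452096 451479 :=
  block_comb c1764 b1765 (Nat.zero_le _) (Nat.le_of_ble_eq_true rfl) rfl

theorem c1766 : Block F al 0 452352 451735 :=
  block_comb c1765 b1766 (Nat.zero_le _) (Nat.le_of_ble_eq_true rfl) rfl

theorem c1767 : Block F al 0 452608 451991 :=
  block_comb c1766 b1767 (Nat.zero_le _) (Nat.le_of_ble_eq_true rfl) rfl

theorem c1768 : Block F al 0 452864 452247 :=
  block_comb c1767 b1768 (Nat.zero_le _) (Nat.le_of_ble_eq_true rfl) rfl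

theorem c1769 : Block F al 0 453120 452503 :=
  block_comb c1768 b1769 (Nat.zero_le _) (Nat.le_of_ble_eq_true rfl) rfl

theorem c1770 : Block F al 0 453376 452759 :=
  block_comb c1769 b1770 (Nat.zero_le _) (Nat.le_of_ble_eq_true rfl) rfl

theorem c1771 : Block F al 0 453632 453015 :=
  block_comb c1770 b1771 (Nat.zero_le _) (Nat.le_of_ble_eq_true rfl) rfl

theorem c1772 : Block F al 0 453888 453271 :=
  block_comb c1771 b1772 (Nat.zero_le _) (Nat.le_of_ble_eq_true rfl) rfl

theorem c1773 : Block F al 0 454144 453527 :=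
  block_comb c1772 b1773 (Nat.zero_le _) (Nat.le_of_ble_eq_true rfl) rfl

theorem c1774 : Block F al 0 454400 453783 :=
  block_comb c1773 b1774 (Nat.zero_le _) (Nat.le_of_ble_eq_true rfl) rfl

theorem c1775 : Block F al 0 454656 454039 :=
  block_comb c1774 b1775 (Nat.zero_le _) (Nat.le_of_ble_eq_true rfl) rfl

theorem c1776 : Block F al 0 454912 454295 :=
  block_comb c1775 b1776 (Nat.zero_le _) (Nat.le_of_ble_eq_true rfl) rfl

theorem c1777 : Block F al 0 455168 454551 :=
  block_comb c1776 b1777 (Nat.zero_le _) (Nat.le_of_ble_eq_true rfl) rfl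

theorem c1778 : Block F al 0 455424 454807 :=
  block_comb c1777 b1778 (Nat.zero_le _) (Nat.le_of_ble_eq_true rfl) rfl

theorem c1779 : Block F al 0 455680 455063 :=
  block_comb c1778 b1779 (Nat.zero_le _) (Nat.le_of_ble_eq_true rfl) rfl

theorem c1780 : Block F al 0 455936 455319 :=
  block_comb c1779 b1780 (Nat.zero_le _) (Nat.le_of_ble_eq_true rfl) rfl

theorem c1781 : Block F al 0 456192 455575 :=
  block_comb c1780 b1781 (Nat.zero_le _) (Nat.le_of_ble_eq_true rfl) rfl

theorem c1782 : Block F al 0 456448 455831 :=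
  block_comb c1781 b1782 (Nat.zero_le _) (Nat.le_of_ble_eq_true rfl) rfl

theorem c1783 : Block F al 0 456704 456087 :=
  block_comb c1782 b1783 (Nat.zero_le _) (Nat.le_of_ble_eq_true rfl) rfl

theorem c1784 : Block F al 0 456960 456343 :=
  block_comb c1783 b1784 (Nat.zero_le _) (Nat.le_of_ble_eq_true rfl) rfl

theorem c1785 : Block F al 0 457216 456599 :=
  block_comb c1784 b1785 (Nat.zero_le _) (Nat.le_of_ble_eq_true rfl) rfl

theorem c1786 : Block F al 0 457472 456855 :=
  block_comb c1785 b1786 (Nat.zero_le _) (Nat.le_of_ble_eq_true rfl) rfl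

theorem c1787 : Block F al 0 457728 457111 :=
  block_comb c1786 b1787 (Nat.zero_le _) (Nat.le_of_ble_eq_true rfl) rfl

theorem c1788 : Block F al 0 457984 457367 :=
  block_comb c1787 b1788 (Nat.zero_le _) (Nat.le_of_ble_eq_true rfl) rfl

theorem c1789 : Block F al 0 458240 457623 :=
  block_comb c1788 b1789 (Nat.zero_le _) (Nat.le_of_ble_eq_true rfl) rfl

theorem c1790 : Block F al 0 458496 457879 :=
  block_comb c1789 b1790 (Nat.zero_le _) (Nat.le_of_ble_eq_true rfl) rfl

theorem c1791 : Block F al 0 458752 458135 :=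
  block_comb c1790 b1791 (Nat.zero_le _) (Nat.le_of_ble_eq_true rfl) rfl

theorem c1792 : Block F al 0 459008 458391 :=
  block_comb c1791 b1792 (Nat.zero_le _) (Nat.le_of_ble_eq_true rfl) rfl

theorem c1793 : Block F al 0 459264 458647 :=
  block_comb c1792 b1793 (Nat.zero_le _) (Nat.le_of_ble_eq_true rfl) rfl

theorem c1794 : Block F al 0 459520 458903 :=
  block_comb c1793 b1794 (Nat.zero_le _) (Nat.le_of_ble_eq_true rfl) rfl

theorem c1795 : Block F al 0 459776 459159 :=
  block_comb c1794 b1795 (Nat.zero_le _) (Nat.le_of_ble_eq_true rfl) rfl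

theorem c1796 : Block F al 0 460032 459415 :=
  block_comb c1795 b1796 (Nat.zero_le _) (Nat.le_of_ble_eq_true rfl) rfl

theorem c1797 : Block F al 0 460288 459671 :=
  block_comb c1796 b1797 (Nat.zero_le _) (Nat.le_of_ble_eq_true rfl) rfl

theorem c1798 : Block F al 0 460544 459927 :=
  block_comb c1797 b1798 (Nat.zero_le _) (Nat.le_of_ble_eq_true rfl) rfl

theorem c1799 : Block F al 0 460800 460183 :=
  block_comb c1798 b1799 (Nat.zero_le _) (Nat.le_of_ble_eq_true rfl) rfl

theorem c1800 : Block F al 0 461056 460439 :=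
  block_comb c1799 b1800 (Nat.zero_le _) (Nat.le_of_ble_eq_true rfl) rfl

theorem c1801 : Block F al 0 461312 460695 :=
  block_comb c1800 b1801 (Nat.zero_le _) (Nat.le_of_ble_eq_true rfl) rfl

theorem c1802 : Block F al 0 461568 460951 :=
  block_comb c1801 b1802 (Nat.zero_le _) (Nat.le_of_ble_eq_true rfl) rfl

theorem c1803 : Block F al 0 461824 461207 :=
  block_comb c1802 b1803 (Nat.zero_le _) (Nat.le_of_ble_eq_true rfl) rfl

theorem c1804 : Block F al 0 462080 461463 :=
  block_comb c1803 b1804 (Nat.zero_le _) (Nat.le_of_ble_eq_true rfl) rfl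

theorem c1805 : Block F al 0 462336 461719 :=
  block_comb c1804 b1805 (Nat.zero_le _) (Nat.le_of_ble_eq_true rfl) rfl

theorem c1806 : Block F al 0 462592 461975 :=
  block_comb c1805 b1806 (Nat.zero_le _) (Nat.le_of_ble_eq_true rfl) rfl

theorem c1807 : Block F al 0 462848 462231 :=
  block_comb c1806 b1807 (Nat.zero_le _) (Nat.le_of_ble_eq_true rfl) rfl

theorem c1808 : Block F al 0 463104 462487 :=
  block_comb c1807 b1808 (Nat.zero_le _) (Nat.le_of_ble_eq_true rfl) rfl

theorem c1809 : Block F al 0 463360 462743 :=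
  block_comb c1808 b1809 (Nat.zero_le _) (Nat.le_of_ble_eq_true rfl) rfl

theorem c1810 : Block F al 0 463616 462999 :=
  block_comb c1809 b1810 (Nat.zero_le _) (Nat.le_of_ble_eq_true rfl) rfl

theorem c1811 : Block F al 0 463872 463255 :=
  block_comb c1810 b1811 (Nat.zero_le _) (Nat.le_of_ble_eq_true rfl) rfl

theorem c1812 : Block F al 0 464128 463511 :=
  block_comb c1811 b1812 (Nat.zero_le _) (Nat.le_of_ble_eq_true rfl) rfl

theorem c1813 : Block F al 0 464384 463767 :=
  block_comb c1812 b1813 (Nat.zero_le _) (Nat.le_of_ble_eq_true rfl) rfl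

theorem c1814 : Block F al 0 464640 464023 :=
  block_comb c1813 b1814 (Nat.zero_le _) (Nat.le_of_ble_eq_true rfl) rfl

theorem c1815 : Block F al 0 464896 464279 :=
  block_comb c1814 b1815 (Nat.zero_le _) (Nat.le_of_ble_eq_true rfl) rfl

theorem c1816 : Block F al 0 465152 464535 :=
  block_comb c1815 b1816 (Nat.zero_le _) (Nat.le_of_ble_eq_true rfl) rfl

theorem c1817 : Block F al 0 465408 464791 :=
  block_comb c1816 b1817 (Nat.zero_le _) (Nat.le_of_ble_eq_true rfl) rfl

theorem c1818 : Block F al 0 465664 465047 :=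
  block_comb c1817 b1818 (Nat.zero_le _) (Nat.le_of_ble_eq_true rfl) rfl

theorem c1819 : Block F al 0 465920 465303 :=
  block_comb c1818 b1819 (Nat.zero_le _) (Nat.le_of_ble_eq_true rfl) rfl

theorem c1820 : Block F al 0 466176 465559 :=
  block_comb c1819 b1820 (Nat.zero_le _) (Nat.le_of_ble_eq_true rfl) rfl

theorem c1821 : Block F al 0 466432 465815 :=
  block_comb c1820 b1821 (Nat.zero_le _) (Nat.le_of_ble_eq_true rfl) rfl

theorem c1822 : Block F al 0 466688 466071 :=
  block_comb c1821 b1822 (Nat.zero_le _) (Nat.le_of_ble_eq_true rfl) rfl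

theorem c1823 : Block F al 0 466944 466327 :=
  block_comb c1822 b1823 (Nat.zero_le _) (Nat.le_of_ble_eq_true rfl) rfl

theorem c1824 : Block F al 0 467200 466583 :=
  block_comb c1823 b1824 (Nat.zero_le _) (Nat.le_of_ble_eq_true rfl) rfl

theorem c1825 : Block F al 0 467456 466839 :=
  block_comb c1824 b1825 (Nat.zero_le _) (Nat.le_of_ble_eq_true rfl) rfl

theorem c1826 : Block F al 0 467712 467095 :=
  block_comb c1825 b1826 (Nat.zero_le _) (Nat.le_of_ble_eq_true rfl) rfl

theorem c1827 : Block F al 0 467968 467351 :=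
  block_comb c1826 b1827 (Nat.zero_le _) (Nat.le_of_ble_eq_true rfl) rfl

theorem c1828 : Block F al 0 468224 467607 :=
  block_comb c1827 b1828 (Nat.zero_le _) (Nat.le_of_ble_eq_true rfl) rfl

theorem c1829 : Block F al 0 468480 467863 :=
  block_comb c1828 b1829 (Nat.zero_le _) (Nat.le_of_ble_eq_true rfl) rfl

theorem c1830 : Block F al 0 468736 468119 :=
  block_comb c1829 b1830 (Nat.zero_le _) (Nat.le_of_ble_eq_true rfl) rfl

theorem c1831 : Block F al 0 468992 468375 :=
  block_comb c1830 b1831 (Nat.zero_le _) (Nat.le_of_ble_eq_true rfl) rfl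

theorem c1832 : Block F al 0 469248 468631 :=
  block_comb c1831 b1832 (Nat.zero_le _) (Nat.le_of_ble_eq_true rfl) rfl

theorem c1833 : Block F al 0 469504 468887 :=
  block_comb c1832 b1833 (Nat.zero_le _) (Nat.le_of_ble_eq_true rfl) rfl

theorem c1834 : Block F al 0 469760 469143 :=
  block_comb c1833 b1834 (Nat.zero_le _) (Nat.le_of_ble_eq_true rfl) rfl

theorem c1835 : Block F al 0 470016 469399 :=
  block_comb c1834 b1835 (Nat.zero_le _) (Nat.le_of_ble_eq_true rfl) rfl

theorem c1836 : Block F al 0 470272 469655 :=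
  block_comb c1835 b1836 (Nat.zero_le _) (Nat.le_of_ble_eq_true rfl) rfl

theorem c1837 : Block F al 0 470528 469911 :=
  block_comb c1836 b1837 (Nat.zero_le _) (Nat.le_of_ble_eq_true rfl) rfl

theorem c1838 : Block F al 0 470784 470167 :=
  block_comb c1837 b1838 (Nat.zero_le _) (Nat.le_of_ble_eq_true rfl) rfl

theorem c1839 : Block F al 0 471040 470423 :=
  block_comb c1838 b1839 (Nat.zero_le _) (Nat.le_of_ble_eq_true rfl) rfl

theorem c1840 : Block F al 0 471296 470679 :=
  block_comb c1839 b1840 (Nat.zero_le _) (Nat.le_of_ble_eq_true rfl) rfl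

theorem c1841 : Block F al 0 471552 470935 :=
  block_comb c1840 b1841 (Nat.zero_le _) (Nat.le_of_ble_eq_true rfl) rfl

theorem c1842 : Block F al 0 471808 471191 :=
  block_comb c1841 b1842 (Nat.zero_le _) (Nat.le_of_ble_eq_true rfl) rfl

theorem c1843 : Block F al 0 472064 471447 :=
  block_comb c1842 b1843 (Nat.zero_le _) (Nat.le_of_ble_eq_true rfl) rfl

theorem c1844 : Block F al 0 472320 471703 :=
  block_comb c1843 b1844 (Nat.zero_le _) (Nat.le_of_ble_eq_true rfl) rfl

theorem c1845 : Block F al 0 472576 471959 :=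
  block_comb c1844 b1845 (Nat.zero_le _) (Nat.le_of_ble_eq_true rfl) rfl

theorem c1846 : Block F al 0 472832 472215 :=
  block_comb c1845 b1846 (Nat.zero_le _) (Nat.le_of_ble_eq_true rfl) rfl

theorem c1847 : Block F al 0 473088 472471 :=
  block_comb c1846 b1847 (Nat.zero_le _) (Nat.le_of_ble_eq_true rfl) rfl

theorem c1848 : Block F al 0 473344 472727 :=
  block_comb c1847 b1848 (Nat.zero_le _) (Nat.le_of_ble_eq_true rfl) rfl

theorem c1849 : Block F al 0 473600 472983 :=
  block_comb c1848 b1849 (Nat.zero_le _) (Nat.le_of_ble_eq_true rfl) rfl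

theorem c1850 : Block F al 0 473856 473239 :=
  block_comb c1849 b1850 (Nat.zero_le _) (Nat.le_of_ble_eq_true rfl) rfl

theorem c1851 : Block F al 0 474112 473495 :=
  block_comb c1850 b1851 (Nat.zero_le _) (Nat.le_of_ble_eq_true rfl) rfl

theorem c1852 : Block F al 0 474368 473751 :=
  block_comb c1851 b1852 (Nat.zero_le _) (Nat.le_of_ble_eq_true rfl) rfl

theorem c1853 : Block F al 0 474624 474007 :=
  block_comb c1852 b1853 (Nat.zero_le _) (Nat.le_of_ble_eq_true rfl) rfl

theorem c1854 : Block F al 0 474880 474263 :=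
  block_comb c1853 b1854 (Nat.zero_le _) (Nat.le_of_ble_eq_true rfl) rfl

theorem c1855 : Block F al 0 475136 474519 :=
  block_comb c1854 b1855 (Nat.zero_le _) (Nat.le_of_ble_eq_true rfl) rfl

theorem c1856 : Block F al 0 475392 474775 :=
  block_comb c1855 b1856 (Nat.zero_le _) (Nat.le_of_ble_eq_true rfl) rfl

theorem c1857 : Block F al 0 475648 475031 :=
  block_comb c1856 b1857 (Nat.zero_le _) (Nat.le_of_ble_eq_true rfl) rfl

theorem c1858 : Block F al 0 475904 475287 :=
  block_comb c1857 b1858 (Nat.zero_le _) (Nat.le_of_ble_eq_true rfl) rfl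

theorem c1859 : Block F al 0 476160 475543 :=
  block_comb c1858 b1859 (Nat.zero_le _) (Nat.le_of_ble_eq_true rfl) rfl

theorem c1860 : Block F al 0 476416 475799 :=
  block_comb c1859 b1860 (Nat.zero_le _) (Nat.le_of_ble_eq_true rfl) rfl

theorem c1861 : Block F al 0 476672 476055 :=
  block_comb c1860 b1861 (Nat.zero_le _) (Nat.le_of_ble_eq_true rfl) rfl

theorem c1862 : Block F al 0 476928 476311 :=
  block_comb c1861 b1862 (Nat.zero_le _) (Nat.le_of_ble_eq_true rfl) rfl

theorem c1863 : Block F al 0 477184 476567 :=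
  block_comb c1862 b1863 (Nat.zero_le _) (Nat.le_of_ble_eq_true rfl) rfl

theorem c1864 : Block F al 0 477440 476823 :=
  block_comb c1863 b1864 (Nat.zero_le _) (Nat.le_of_ble_eq_true rfl) rfl

theorem c1865 : Block F al 0 477696 477079 :=
  block_comb c1864 b1865 (Nat.zero_le _) (Nat.le_of_ble_eq_true rfl) rfl

theorem c1866 : Block F al 0 477952 477335 :=
  block_comb c1865 b1866 (Nat.zero_le _) (Nat.le_of_ble_eq_true rfl) rfl

theorem c1867 : Block F al 0 478208 477591 :=
  block_comb c1866 b1867 (Nat.zero_le _) (Nat.le_of_ble_eq_true rfl) rfl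

theorem c1868 : Block F al 0 478464 477847 :=
  block_comb c1867 b1868 (Nat.zero_le _) (Nat.le_of_ble_eq_true rfl) rfl

theorem c1869 : Block F al 0 478720 478103 :=
  block_comb c1868 b1869 (Nat.zero_le _) (Nat.le_of_ble_eq_true rfl) rfl

theorem c1870 : Block F al 0 478976 478359 :=
  block_comb c1869 b1870 (Nat.zero_le _) (Nat.le_of_ble_eq_true rfl) rfl

theorem c1871 : Block F al 0 479232 478615 :=
  block_comb c1870 b1871 (Nat.zero_le _) (Nat.le_of_ble_eq_true rfl) rfl

theorem c1872 : Block F al 0 479488 478871 :=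
  block_comb c1871 b1872 (Nat.zero_le _) (Nat.le_of_ble_eq_true rfl) rfl

theorem c1873 : Block F al 0 479744 479127 :=
  block_comb c1872 b1873 (Nat.zero_le _) (Nat.le_of_ble_eq_true rfl) rfl

theorem c1874 : Block F al 0 480000 479383 :=
  block_comb c1873 b1874 (Nat.zero_le _) (Nat.le_of_ble_eq_true rfl) rfl

theorem c1875 : Block F al 0 480256 479639 :=
  block_comb c1874 b1875 (Nat.zero_le _) (Nat.le_of_ble_eq_true rfl) rfl

theorem c1876 : Block F al 0 480512 479895 :=
  block_comb c1875 b1876 (Nat.zero_le _) (Nat.le_of_ble_eq_true rfl) rfl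

theorem c1877 : Block F al 0 480768 480151 :=
  block_comb c1876 b1877 (Nat.zero_le _) (Nat.le_of_ble_eq_true rfl) rfl

theorem c1878 : Block F al 0 481024 480407 :=
  block_comb c1877 b1878 (Nat.zero_le _) (Nat.le_of_ble_eq_true rfl) rfl

theorem c1879 : Block F al 0 481280 480663 :=
  block_comb c1878 b1879 (Nat.zero_le _) (Nat.le_of_ble_eq_true rfl) rfl

theorem c1880 : Block F al 0 481536 480919 :=
  block_comb c1879 b1880 (Nat.zero_le _) (Nat.le_of_ble_eq_true rfl) rfl

theorem c1881 : Block F al 0 481792 481175 :=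
  block_comb c1880 b1881 (Nat.zero_le _) (Nat.le_of_ble_eq_true rfl) rfl

theorem c1882 : Block F al 0 482048 481431 :=
  block_comb c1881 b1882 (Nat.zero_le _) (Nat.le_of_ble_eq_true rfl) rfl

theorem c1883 : Block F al 0 482304 481687 :=
  block_comb c1882 b1883 (Nat.zero_le _) (Nat.le_of_ble_eq_true rfl) rfl

theorem c1884 : Block F al 0 482560 481943 :=
  block_comb c1883 b1884 (Nat.zero_le _) (Nat.le_of_ble_eq_true rfl) rfl

theorem c1885 : Block F al 0 482816 482199 :=
  block_comb c1884 b1885 (Nat.zero_le _) (Nat.le_of_ble_eq_true rfl) rfl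

theorem c1886 : Block F al 0 483072 482455 :=
  block_comb c1885 b1886 (Nat.zero_le _) (Nat.le_of_ble_eq_true rfl) rfl

theorem c1887 : Block F al 0 483328 482711 :=
  block_comb c1886 b1887 (Nat.zero_le _) (Nat.le_of_ble_eq_true rfl) rfl

theorem c1888 : Block F al 0 483584 482967 :=
  block_comb c1887 b1888 (Nat.zero_le _) (Nat.le_of_ble_eq_true rfl) rfl

theorem c1889 : Block F al 0 483840 483223 :=
  block_comb c1888 b1889 (Nat.zero_le _) (Nat.le_of_ble_eq_true rfl) rfl

theorem c1890 : Block F al 0 484096 483479 :=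
  block_comb c1889 b1890 (Nat.zero_le _) (Nat.le_of_ble_eq_true rfl) rfl

theorem c1891 : Block F al 0 484352 483735 :=
  block_comb c1890 b1891 (Nat.zero_le _) (Nat.le_of_ble_eq_true rfl) rfl

theorem c1892 : Block F al 0 484608 483991 :=
  block_comb c1891 b1892 (Nat.zero_le _) (Nat.le_of_ble_eq_true rfl) rfl

theorem c1893 : Block F al 0 484864 484247 :=
  block_comb c1892 b1893 (Nat.zero_le _) (Nat.le_of_ble_eq_true rfl) rfl

theorem c1894 : Block F al 0 485120 484503 :=
  block_comb c1893 b1894 (Nat.zero_le _) (Nat.le_of_ble_eq_true rfl) rfl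

theorem c1895 : Block F al 0 485376 484759 :=
  block_comb c1894 b1895 (Nat.zero_le _) (Nat.le_of_ble_eq_true rfl) rfl

theorem c1896 : Block F al 0 485632 485015 :=
  block_comb c1895 b1896 (Nat.zero_le _) (Nat.le_of_ble_eq_true rfl) rfl

theorem c1897 : Block F al 0 485888 485271 :=
  block_comb c1896 b1897 (Nat.zero_le _) (Nat.le_of_ble_eq_true rfl) rfl

theorem c1898 : Block F al 0 486144 485527 :=
  block_comb c1897 b1898 (Nat.zero_le _) (Nat.le_of_ble_eq_true rfl) rfl

theorem c1899 : Block F al 0 486400 485783 :=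
  block_comb c1898 b1899 (Nat.zero_le _) (Nat.le_of_ble_eq_true rfl) rfl

theorem c1900 : Block F al 0 486656 486039 :=
  block_comb c1899 b1900 (Nat.zero_le _) (Nat.le_of_ble_eq_true rfl) rfl

theorem c1901 : Block F al 0 486912 486295 :=
  block_comb c1900 b1901 (Nat.zero_le _) (Nat.le_of_ble_eq_true rfl) rfl

theorem c1902 : Block F al 0 487168 486551 :=
  block_comb c1901 b1902 (Nat.zero_le _) (Nat.le_of_ble_eq_true rfl) rfl

theorem c1903 : Block F al 0 487424 486807 :=
  block_comb c1902 b1903 (Nat.zero_le _) (Nat.le_of_ble_eq_true rfl) rfl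

theorem c1904 : Block F al 0 487680 487063 :=
  block_comb c1903 b1904 (Nat.zero_le _) (Nat.le_of_ble_eq_true rfl) rfl

theorem c1905 : Block F al 0 487936 487319 :=
  block_comb c1904 b1905 (Nat.zero_le _) (Nat.le_of_ble_eq_true rfl) rfl

theorem c1906 : Block F al 0 488192 487575 :=
  block_comb c1905 b1906 (Nat.zero_le _) (Nat.le_of_ble_eq_true rfl) rfl

theorem c1907 : Block F al 0 488448 487831 :=
  block_comb c1906 b1907 (Nat.zero_le _) (Nat.le_of_ble_eq_true rfl) rfl

theorem c1908 : Block F al 0 488704 488087 :=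
  block_comb c1907 b1908 (Nat.zero_le _) (Nat.le_of_ble_eq_true rfl) rfl

theorem c1909 : Block F al 0 488960 488343 :=
  block_comb c1908 b1909 (Nat.zero_le _) (Nat.le_of_ble_eq_true rfl) rfl

theorem c1910 : Block F al 0 489216 488599 :=
  block_comb c1909 b1910 (Nat.zero_le _) (Nat.le_of_ble_eq_true rfl) rfl

theorem c1911 : Block F al 0 489472 488855 :=
  block_comb c1910 b1911 (Nat.zero_le _) (Nat.le_of_ble_eq_true rfl) rfl

theorem c1912 : Block F al 0 489728 489111 :=
  block_comb c1911 b1912 (Nat.zero_le _) (Nat.le_of_ble_eq_true rfl) rfl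

theorem c1913 : Block F al 0 489984 489367 :=
  block_comb c1912 b1913 (Nat.zero_le _) (Nat.le_of_ble_eq_true rfl) rfl

theorem c1914 : Block F al 0 490240 489623 :=
  block_comb c1913 b1914 (Nat.zero_le _) (Nat.le_of_ble_eq_true rfl) rfl

theorem c1915 : Block F al 0 490496 489879 :=
  block_comb c1914 b1915 (Nat.zero_le _) (Nat.le_of_ble_eq_true rfl) rfl

theorem c1916 : Block F al 0 490752 490135 :=
  block_comb c1915 b1916 (Nat.zero_le _) (Nat.le_of_ble_eq_true rfl) rfl

theorem c1917 : Block F al 0 491008 490391 :=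
  block_comb c1916 b1917 (Nat.zero_le _) (Nat.le_of_ble_eq_true rfl) rfl

theorem c1918 : Block F al 0 491264 490647 :=
  block_comb c1917 b1918 (Nat.zero_le _) (Nat.le_of_ble_eq_true rfl) rfl

theorem c1919 : Block F al 0 491520 490903 :=
  block_comb c1918 b1919 (Nat.zero_le _) (Nat.le_of_ble_eq_true rfl) rfl

theorem c1920 : Block F al 0 491776 491159 :=
  block_comb c1919 b1920 (Nat.zero_le _) (Nat.le_of_ble_eq_true rfl) rfl

theorem c1921 : Block F al 0 492032 491415 :=
  block_comb c1920 b1921 (Nat.zero_le _) (Nat.le_of_ble_eq_true rfl) rfl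

theorem c1922 : Block F al 0 492288 491671 :=
  block_comb c1921 b1922 (Nat.zero_le _) (Nat.le_of_ble_eq_true rfl) rfl

theorem c1923 : Block F al 0 492544 491927 :=
  block_comb c1922 b1923 (Nat.zero_le _) (Nat.le_of_ble_eq_true rfl) rfl

theorem c1924 : Block F al 0 492800 492183 :=
  block_comb c1923 b1924 (Nat.zero_le _) (Nat.le_of_ble_eq_true rfl) rfl

theorem c1925 : Block F al 0 493056 492439 :=
  block_comb c1924 b1925 (Nat.zero_le _) (Nat.le_of_ble_eq_true rfl) rfl

theorem c1926 : Block F al 0 493312 492695 :=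
  block_comb c1925 b1926 (Nat.zero_le _) (Nat.le_of_ble_eq_true rfl) rfl

theorem c1927 : Block F al 0 493568 492951 :=
  block_comb c1926 b1927 (Nat.zero_le _) (Nat.le_of_ble_eq_true rfl) rfl

theorem c1928 : Block F al 0 493824 493207 :=
  block_comb c1927 b1928 (Nat.zero_le _) (Nat.le_of_ble_eq_true rfl) rfl

theorem c1929 : Block F al 0 494080 493463 :=
  block_comb c1928 b1929 (Nat.zero_le _) (Nat.le_of_ble_eq_true rfl) rfl

theorem c1930 : Block F al 0 494336 493719 :=
  block_comb c1929 b1930 (Nat.zero_le _) (Nat.le_of_ble_eq_true rfl) rfl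

theorem c1931 : Block F al 0 494592 493975 :=
  block_comb c1930 b1931 (Nat.zero_le _) (Nat.le_of_ble_eq_true rfl) rfl

theorem c1932 : Block F al 0 494848 494231 :=
  block_comb c1931 b1932 (Nat.zero_le _) (Nat.le_of_ble_eq_true rfl) rfl

theorem c1933 : Block F al 0 495104 494487 :=
  block_comb c1932 b1933 (Nat.zero_le _) (Nat.le_of_ble_eq_true rfl) rfl

theorem c1934 : Block F al 0 495360 494743 :=
  block_comb c1933 b1934 (Nat.zero_le _) (Nat.le_of_ble_eq_true rfl) rfl

theorem c1935 : Block F al 0 495616 494999 :=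
  block_comb c1934 b1935 (Nat.zero_le _) (Nat.le_of_ble_eq_true rfl) rfl

theorem c1936 : Block F al 0 495872 495255 :=
  block_comb c1935 b1936 (Nat.zero_le _) (Nat.le_of_ble_eq_true rfl) rfl

theorem c1937 : Block F al 0 496128 495511 :=
  block_comb c1936 b1937 (Nat.zero_le _) (Nat.le_of_ble_eq_true rfl) rfl

theorem c1938 : Block F al 0 496384 495767 :=
  block_comb c1937 b1938 (Nat.zero_le _) (Nat.le_of_ble_eq_true rfl) rfl

theorem c1939 : Block F al 0 496640 496023 :=
  block_comb c1938 b1939 (Nat.zero_le _) (Nat.le_of_ble_eq_true rfl) rfl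

theorem c1940 : Block F al 0 496896 496279 :=
  block_comb c1939 b1940 (Nat.zero_le _) (Nat.le_of_ble_eq_true rfl) rfl

theorem c1941 : Block F al 0 497152 496535 :=
  block_comb c1940 b1941 (Nat.zero_le _) (Nat.le_of_ble_eq_true rfl) rfl

theorem c1942 : Block F al 0 497408 496791 :=
  block_comb c1941 b1942 (Nat.zero_le _) (Nat.le_of_ble_eq_true rfl) rfl

theorem c1943 : Block F al 0 497664 497047 :=
  block_comb c1942 b1943 (Nat.zero_le _) (Nat.le_of_ble_eq_true rfl) rfl

theorem c1944 : Block F al 0 497920 497303 :=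
  block_comb c1943 b1944 (Nat.zero_le _) (Nat.le_of_ble_eq_true rfl) rfl

theorem c1945 : Block F al 0 498176 497559 :=
  block_comb c1944 b1945 (Nat.zero_le _) (Nat.le_of_ble_eq_true rfl) rfl

theorem c1946 : Block F al 0 498432 497815 :=
  block_comb c1945 b1946 (Nat.zero_le _) (Nat.le_of_ble_eq_true rfl) rfl

theorem c1947 : Block F al 0 498688 498071 :=
  block_comb c1946 b1947 (Nat.zero_le _) (Nat.le_of_ble_eq_true rfl) rfl

theorem c1948 : Block F al 0 498944 498327 :=
  block_comb c1947 b1948 (Nat.zero_le _) (Nat.le_of_ble_eq_true rfl) rfl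

theorem c1949 : Block F al 0 499200 498583 :=
  block_comb c1948 b1949 (Nat.zero_le _) (Nat.le_of_ble_eq_true rfl) rfl

theorem c1950 : Block F al 0 499456 498839 :=
  block_comb c1949 b1950 (Nat.zero_le _) (Nat.le_of_ble_eq_true rfl) rfl

theorem c1951 : Block F al 0 499712 499095 :=
  block_comb c1950 b1951 (Nat.zero_le _) (Nat.le_of_ble_eq_true rfl) rfl

theorem c1952 : Block F al 0 499968 499351 :=
  block_comb c1951 b1952 (Nat.zero_le _) (Nat.le_of_ble_eq_true rfl) rfl

theorem c1953 : Block F al 0 500224 499607 :=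
  block_comb c1952 b1953 (Nat.zero_le _) (Nat.le_of_ble_eq_true rfl) rfl

theorem c1954 : Block F al 0 500480 499863 :=
  block_comb c1953 b1954 (Nat.zero_le _) (Nat.le_of_ble_eq_true rfl) rfl

theorem c1955 : Block F al 0 500736 500119 :=
  block_comb c1954 b1955 (Nat.zero_le _) (Nat.le_of_ble_eq_true rfl) rfl

theorem c1956 : Block F al 0 500992 500375 :=
  block_comb c1955 b1956 (Nat.zero_le _) (Nat.le_of_ble_eq_true rfl) rfl

theorem c1957 : Block F al 0 501248 500631 :=
  block_comb c1956 b1957 (Nat.zero_le _) (Nat.le_of_ble_eq_true rfl) rfl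

theorem c1958 : Block F al 0 501504 500887 :=
  block_comb c1957 b1958 (Nat.zero_le _) (Nat.le_of_ble_eq_true rfl) rfl

theorem c1959 : Block F al 0 501760 501143 :=
  block_comb c1958 b1959 (Nat.zero_le _) (Nat.le_of_ble_eq_true rfl) rfl

theorem c1960 : Block F al 0 502016 501399 :=
  block_comb c1959 b1960 (Nat.zero_le _) (Nat.le_of_ble_eq_true rfl) rfl

theorem c1961 : Block F al 0 502272 501655 :=
  block_comb c1960 b1961 (Nat.zero_le _) (Nat.le_of_ble_eq_true rfl) rfl

theorem c1962 : Block F al 0 502528 501911 :=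
  block_comb c1961 b1962 (Nat.zero_le _) (Nat.le_of_ble_eq_true rfl) rfl

theorem c1963 : Block F al 0 502784 502167 :=
  block_comb c1962 b1963 (Nat.zero_le _) (Nat.le_of_ble_eq_true rfl) rfl

theorem c1964 : Block F al 0 503040 502423 :=
  block_comb c1963 b1964 (Nat.zero_le _) (Nat.le_of_ble_eq_true rfl) rfl

theorem c1965 : Block F al 0 503296 502679 :=
  block_comb c1964 b1965 (Nat.zero_le _) (Nat.le_of_ble_eq_true rfl) rfl

theorem c1966 : Block F al 0 503552 502935 :=
  block_comb c1965 b1966 (Nat.zero_le _) (Nat.le_of_ble_eq_true rfl) rfl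

theorem c1967 : Block F al 0 503808 503191 :=
  block_comb c1966 b1967 (Nat.zero_le _) (Nat.le_of_ble_eq_true rfl) rfl

theorem c1968 : Block F al 0 504064 503447 :=
  block_comb c1967 b1968 (Nat.zero_le _) (Nat.le_of_ble_eq_true rfl) rfl

theorem c1969 : Block F al 0 504320 503703 :=
  block_comb c1968 b1969 (Nat.zero_le _) (Nat.le_of_ble_eq_true rfl) rfl

theorem c1970 : Block F al 0 504576 503959 :=
  block_comb c1969 b1970 (Nat.zero_le _) (Nat.le_of_ble_eq_true rfl) rfl

theorem c1971 : Block F al 0 504832 504215 :=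
  block_comb c1970 b1971 (Nat.zero_le _) (Nat.le_of_ble_eq_true rfl) rfl

theorem c1972 : Block F al 0 505088 504471 :=
  block_comb c1971 b1972 (Nat.zero_le _) (Nat.le_of_ble_eq_true rfl) rfl

theorem c1973 : Block F al 0 505344 504727 :=
  block_comb c1972 b1973 (Nat.zero_le _) (Nat.le_of_ble_eq_true rfl) rfl

theorem c1974 : Block F al 0 505600 504983 :=
  block_comb c1973 b1974 (Nat.zero_le _) (Nat.le_of_ble_eq_true rfl) rfl

theorem c1975 : Block F al 0 505856 505239 :=
  block_comb c1974 b1975 (Nat.zero_le _) (Nat.le_of_ble_eq_true rfl) rfl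

theorem c1976 : Block F al 0 506112 505495 :=
  block_comb c1975 b1976 (Nat.zero_le _) (Nat.le_of_ble_eq_true rfl) rfl

theorem c1977 : Block F al 0 506368 505751 :=
  block_comb c1976 b1977 (Nat.zero_le _) (Nat.le_of_ble_eq_true rfl) rfl

theorem c1978 : Block F al 0 506624 506007 :=
  block_comb c1977 b1978 (Nat.zero_le _) (Nat.le_of_ble_eq_true rfl) rfl

theorem c1979 : Block F al 0 506880 506263 :=
  block_comb c1978 b1979 (Nat.zero_le _) (Nat.le_of_ble_eq_true rfl) rfl

theorem c1980 : Block F al 0 507136 506519 :=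
  block_comb c1979 b1980 (Nat.zero_le _) (Nat.le_of_ble_eq_true rfl) rfl

theorem c1981 : Block F al 0 507392 506775 :=
  block_comb c1980 b1981 (Nat.zero_le _) (Nat.le_of_ble_eq_true rfl) rfl

theorem c1982 : Block F al 0 507648 507031 :=
  block_comb c1981 b1982 (Nat.zero_le _) (Nat.le_of_ble_eq_true rfl) rfl

theorem c1983 : Block F al 0 507904 507287 :=
  block_comb c1982 b1983 (Nat.zero_le _) (Nat.le_of_ble_eq_true rfl) rfl

theorem c1984 : Block F al 0 508160 507543 :=
  block_comb c1983 b1984 (Nat.zero_le _) (Nat.le_of_ble_eq_true rfl) rfl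

theorem c1985 : Block F al 0 508416 507799 :=
  block_comb c1984 b1985 (Nat.zero_le _) (Nat.le_of_ble_eq_true rfl) rfl

theorem c1986 : Block F al 0 508672 508055 :=
  block_comb c1985 b1986 (Nat.zero_le _) (Nat.le_of_ble_eq_true rfl) rfl

theorem c1987 : Block F al 0 508928 508311 :=
  block_comb c1986 b1987 (Nat.zero_le _) (Nat.le_of_ble_eq_true rfl) rfl

theorem c1988 : Block F al 0 509184 508567 :=
  block_comb c1987 b1988 (Nat.zero_le _) (Nat.le_of_ble_eq_true rfl) rfl

theorem c1989 : Block F al 0 509440 508823 :=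
  block_comb c1988 b1989 (Nat.zero_le _) (Nat.le_of_ble_eq_true rfl) rfl

theorem c1990 : Block F al 0 509696 509079 :=
  block_comb c1989 b1990 (Nat.zero_le _) (Nat.le_of_ble_eq_true rfl) rfl

theorem c1991 : Block F al 0 509952 509335 :=
  block_comb c1990 b1991 (Nat.zero_le _) (Nat.le_of_ble_eq_true rfl) rfl

theorem c1992 : Block F al 0 510208 509591 :=
  block_comb c1991 b1992 (Nat.zero_le _) (Nat.le_of_ble_eq_true rfl) rfl

theorem c1993 : Block F al 0 510464 509847 :=
  block_comb c1992 b1993 (Nat.zero_le _) (Nat.le_of_ble_eq_true rfl) rfl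

theorem c1994 : Block F al 0 510720 510103 :=
  block_comb c1993 b1994 (Nat.zero_le _) (Nat.le_of_ble_eq_true rfl) rfl

theorem c1995 : Block F al 0 510976 510359 :=
  block_comb c1994 b1995 (Nat.zero_le _) (Nat.le_of_ble_eq_true rfl) rfl

theorem c1996 : Block F al 0 511232 510615 :=
  block_comb c1995 b1996 (Nat.zero_le _) (Nat.le_of_ble_eq_true rfl) rfl

theorem c1997 : Block F al 0 511488 510871 :=
  block_comb c1996 b1997 (Nat.zero_le _) (Nat.le_of_ble_eq_true rfl) rfl

theorem c1998 : Block F al 0 511744 511127 :=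
  block_comb c1997 b1998 (Nat.zero_le _) (Nat.le_of_ble_eq_true rfl) rfl

theorem c1999 : Block F al 0 512000 511383 :=
  block_comb c1998 b1999 (Nat.zero_le _) (Nat.le_of_ble_eq_true rfl) rfl

theorem c2000 : Block F al 0 512256 511639 :=
  block_comb c1999 b2000 (Nat.zero_le _) (Nat.le_of_ble_eq_true rfl) rfl

theorem c2001 : Block F al 0 512512 511895 :=
  block_comb c2000 b2001 (Nat.zero_le _) (Nat.le_of_ble_eq_true rfl) rfl

theorem c2002 : Block F al 0 512768 512151 :=
  block_comb c2001 b2002 (Nat.zero_le _) (Nat.le_of_ble_eq_true rfl) rfl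

theorem c2003 : Block F al 0 513024 512407 :=
  block_comb c2002 b2003 (Nat.zero_le _) (Nat.le_of_ble_eq_true rfl) rfl

theorem c2004 : Block F al 0 513280 512663 :=
  block_comb c2003 b2004 (Nat.zero_le _) (Nat.le_of_ble_eq_true rfl) rfl

theorem c2005 : Block F al 0 513536 512919 :=
  block_comb c2004 b2005 (Nat.zero_le _) (Nat.le_of_ble_eq_true rfl) rfl

theorem c2006 : Block F al 0 513792 513175 :=
  block_comb c2005 b2006 (Nat.zero_le _) (Nat.le_of_ble_eq_true rfl) rfl

theorem c2007 : Block F al 0 514048 513431 :=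
  block_comb c2006 b2007 (Nat.zero_le _) (Nat.le_of_ble_eq_true rfl) rfl

theorem c2008 : Block F al 0 514304 513687 :=
  block_comb c2007 b2008 (Nat.zero_le _) (Nat.le_of_ble_eq_true rfl) rfl

theorem c2009 : Block F al 0 514560 513943 :=
  block_comb c2008 b2009 (Nat.zero_le _) (Nat.le_of_ble_eq_true rfl) rfl

theorem c2010 : Block F al 0 514816 514199 :=
  block_comb c2009 b2010 (Nat.zero_le _) (Nat.le_of_ble_eq_true rfl) rfl

theorem c2011 : Block F al 0 515072 514455 :=
  block_comb c2010 b2011 (Nat.zero_le _) (Nat.le_of_ble_eq_true rfl) rfl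

theorem c2012 : Block F al 0 515328 514711 :=
  block_comb c2011 b2012 (Nat.zero_le _) (Nat.le_of_ble_eq_true rfl) rfl

theorem c2013 : Block F al 0 515584 514967 :=
  block_comb c2012 b2013 (Nat.zero_le _) (Nat.le_of_ble_eq_true rfl) rfl

theorem c2014 : Block F al 0 515840 515223 :=
  block_comb c2013 b2014 (Nat.zero_le _) (Nat.le_of_ble_eq_true rfl) rfl

theorem c2015 : Block F al 0 516096 515479 :=
  block_comb c2014 b2015 (Nat.zero_le _) (Nat.le_of_ble_eq_true rfl) rfl

theorem c2016 : Block F al 0 516352 515735 :=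
  block_comb c2015 b2016 (Nat.zero_le _) (Nat.le_of_ble_eq_true rfl) rfl

theorem c2017 : Block F al 0 516608 515991 :=
  block_comb c2016 b2017 (Nat.zero_le _) (Nat.le_of_ble_eq_true rfl) rfl

theorem c2018 : Block F al 0 516864 516247 :=
  block_comb c2017 b2018 (Nat.zero_le _) (Nat.le_of_ble_eq_true rfl) rfl

theorem c2019 : Block F al 0 517120 516503 :=
  block_comb c2018 b2019 (Nat.zero_le _) (Nat.le_of_ble_eq_true rfl) rfl

theorem c2020 : Block F al 0 517376 516759 :=
  block_comb c2019 b2020 (Nat.zero_le _) (Nat.le_of_ble_eq_true rfl) rfl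

theorem c2021 : Block F al 0 517632 517015 :=
  block_comb c2020 b2021 (Nat.zero_le _) (Nat.le_of_ble_eq_true rfl) rfl

theorem c2022 : Block F al 0 517888 517271 :=
  block_comb c2021 b2022 (Nat.zero_le _) (Nat.le_of_ble_eq_true rfl) rfl

theorem c2023 : Block F al 0 518144 517527 :=
  block_comb c2022 b2023 (Nat.zero_le _) (Nat.le_of_ble_eq_true rfl) rfl

theorem c2024 : Block F al 0 518400 517783 :=
  block_comb c2023 b2024 (Nat.zero_le _) (Nat.le_of_ble_eq_true rfl) rfl

theorem c2025 : Block F al 0 518656 518039 :=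
  block_comb c2024 b2025 (Nat.zero_le _) (Nat.le_of_ble_eq_true rfl) rfl

theorem c2026 : Block F al 0 518912 518295 :=
  block_comb c2025 b2026 (Nat.zero_le _) (Nat.le_of_ble_eq_true rfl) rfl

theorem c2027 : Block F al 0 519168 518551 :=
  block_comb c2026 b2027 (Nat.zero_le _) (Nat.le_of_ble_eq_true rfl) rfl

theorem c2028 : Block F al 0 519424 518807 :=
  block_comb c2027 b2028 (Nat.zero_le _) (Nat.le_of_ble_eq_true rfl) rfl

theorem c2029 : Block F al 0 519680 519063 :=
  block_comb c2028 b2029 (Nat.zero_le _) (Nat.le_of_ble_eq_true rfl) rfl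

theorem c2030 : Block F al 0 519936 519319 :=
  block_comb c2029 b2030 (Nat.zero_le _) (Nat.le_of_ble_eq_true rfl) rfl

theorem c2031 : Block F al 0 520192 519575 :=
  block_comb c2030 b2031 (Nat.zero_le _) (Nat.le_of_ble_eq_true rfl) rfl

theorem c2032 : Block F al 0 520448 519831 :=
  block_comb c2031 b2032 (Nat.zero_le _) (Nat.le_of_ble_eq_true rfl) rfl

theorem c2033 : Block F al 0 520704 520087 :=
  block_comb c2032 b2033 (Nat.zero_le _) (Nat.le_of_ble_eq_true rfl) rfl

theorem c2034 : Block F al 0 520960 520343 :=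
  block_comb c2033 b2034 (Nat.zero_le _) (Nat.le_of_ble_eq_true rfl) rfl

theorem c2035 : Block F al 0 521216 520599 :=
  block_comb c2034 b2035 (Nat.zero_le _) (Nat.le_of_ble_eq_true rfl) rfl

theorem c2036 : Block F al 0 521472 520855 :=
  block_comb c2035 b2036 (Nat.zero_le _) (Nat.le_of_ble_eq_true rfl) rfl

theorem c2037 : Block F al 0 521728 521111 :=
  block_comb c2036 b2037 (Nat.zero_le _) (Nat.le_of_ble_eq_true rfl) rfl

theorem c2038 : Block F al 0 521984 521367 :=
  block_comb c2037 b2038 (Nat.zero_le _) (Nat.le_of_ble_eq_true rfl) rfl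

theorem c2039 : Block F al 0 522240 521623 :=
  block_comb c2038 b2039 (Nat.zero_le _) (Nat.le_of_ble_eq_true rfl) rfl

theorem c2040 : Block F al 0 522496 521879 :=
  block_comb c2039 b2040 (Nat.zero_le _) (Nat.le_of_ble_eq_true rfl) rfl

theorem c2041 : Block F al 0 522752 522124 :=
  block_comb c2040 b2041 (Nat.zero_le _) (Nat.le_of_ble_eq_true rfl) rfl

theorem c2042 : Block F al 0 523008 522377 :=
  block_comb c2041 b2042 (Nat.zero_le _) (Nat.le_of_ble_eq_true rfl) rfl

theorem c2043 : Block F al 0 523264 522633 :=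
  block_comb c2042 b2043 (Nat.zero_le _) (Nat.le_of_ble_eq_true rfl) rfl

theorem c2044 : Block F al 0 523520 522889 :=
  block_comb c2043 b2044 (Nat.zero_le _) (Nat.le_of_ble_eq_true rfl) rfl

theorem c2045 : Block F al 0 523776 523145 :=
  block_comb c2044 b2045 (Nat.zero_le _) (Nat.le_of_ble_eq_true rfl) rfl

theorem c2046 : Block F al 0 524032 523401 :=
  block_comb c2045 b2046 (Nat.zero_le _) (Nat.le_of_ble_eq_true rfl) rfl

theorem c2047 : Block F al 0 524288 523657 :=
  block_comb c2046 b2047 (Nat.zero_le _) (Nat.le_of_ble_eq_true rfl) rfl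

theorem c2048 : Block F al 0 524544 523913 :=
  block_comb c2047 b2048 (Nat.zero_le _) (Nat.le_of_ble_eq_true rfl) rfl

theorem c2049 : Block F al 0 524800 524169 :=
  block_comb c2048 b2049 (Nat.zero_le _) (Nat.le_of_ble_eq_true rfl) rfl

theorem c2050 : Block F al 0 525056 524425 :=
  block_comb c2049 b2050 (Nat.zero_le _) (Nat.le_of_ble_eq_true rfl) rfl

theorem c2051 : Block F al 0 525312 524681 :=
  block_comb c2050 b2051 (Nat.zero_le _) (Nat.le_of_ble_eq_true rfl) rfl

theorem c2052 : Block F al 0 525568 524937 :=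
  block_comb c2051 b2052 (Nat.zero_le _) (Nat.le_of_ble_eq_true rfl) rfl

theorem c2053 : Block F al 0 525824 525193 :=
  block_comb c2052 b2053 (Nat.zero_le _) (Nat.le_of_ble_eq_true rfl) rfl

theorem c2054 : Block F al 0 526080 525449 :=
  block_comb c2053 b2054 (Nat.zero_le _) (Nat.le_of_ble_eq_true rfl) rfl

theorem c2055 : Block F al 0 526336 525705 :=
  block_comb c2054 b2055 (Nat.zero_le _) (Nat.le_of_ble_eq_true rfl) rfl

theorem c2056 : Block F al 0 526592 525961 :=
  block_comb c2055 b2056 (Nat.zero_le _) (Nat.le_of_ble_eq_true rfl) rfl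

theorem c2057 : Block F al 0 526848 526217 :=
  block_comb c2056 b2057 (Nat.zero_le _) (Nat.le_of_ble_eq_true rfl) rfl

theorem c2058 : Block F al 0 527104 526473 :=
  block_comb c2057 b2058 (Nat.zero_le _) (Nat.le_of_ble_eq_true rfl) rfl

theorem c2059 : Block F al 0 527360 526729 :=
  block_comb c2058 b2059 (Nat.zero_le _) (Nat.le_of_ble_eq_true rfl) rfl

theorem c2060 : Block F al 0 527616 526985 :=
  block_comb c2059 b2060 (Nat.zero_le _) (Nat.le_of_ble_eq_true rfl) rfl

theorem c2061 : Block F al 0 527872 527241 :=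
  block_comb c2060 b2061 (Nat.zero_le _) (Nat.le_of_ble_eq_true rfl) rfl

theorem c2062 : Block F al 0 528128 527497 :=
  block_comb c2061 b2062 (Nat.zero_le _) (Nat.le_of_ble_eq_true rfl) rfl

theorem c2063 : Block F al 0 528384 527753 :=
  block_comb c2062 b2063 (Nat.zero_le _) (Nat.le_of_ble_eq_true rfl) rfl

theorem c2064 : Block F al 0 528640 528009 :=
  block_comb c2063 b2064 (Nat.zero_le _) (Nat.le_of_ble_eq_true rfl) rfl

theorem c2065 : Block F al 0 528896 528265 :=
  block_comb c2064 b2065 (Nat.zero_le _) (Nat.le_of_ble_eq_true rfl) rfl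

theorem c2066 : Block F al 0 529152 528521 :=
  block_comb c2065 b2066 (Nat.zero_le _) (Nat.le_of_ble_eq_true rfl) rfl

theorem c2067 : Block F al 0 529408 528777 :=
  block_comb c2066 b2067 (Nat.zero_le _) (Nat.le_of_ble_eq_true rfl) rfl

theorem c2068 : Block F al 0 529664 529033 :=
  block_comb c2067 b2068 (Nat.zero_le _) (Nat.le_of_ble_eq_true rfl) rfl

theorem c2069 : Block F al 0 529920 529289 :=
  block_comb c2068 b2069 (Nat.zero_le _) (Nat.le_of_ble_eq_true rfl) rfl

theorem c2070 : Block F al 0 530176 529545 :=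
  block_comb c2069 b2070 (Nat.zero_le _) (Nat.le_of_ble_eq_true rfl) rfl

theorem c2071 : Block F al 0 530432 529801 :=
  block_comb c2070 b2071 (Nat.zero_le _) (Nat.le_of_ble_eq_true rfl) rfl

theorem c2072 : Block F al 0 530688 530057 :=
  block_comb c2071 b2072 (Nat.zero_le _) (Nat.le_of_ble_eq_true rfl) rfl

theorem c2073 : Block F al 0 530944 530313 :=
  block_comb c2072 b2073 (Nat.zero_le _) (Nat.le_of_ble_eq_true rfl) rfl

theorem c2074 : Block F al 0 531200 530569 :=
  block_comb c2073 b2074 (Nat.zero_le _) (Nat.le_of_ble_eq_true rfl) rfl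

theorem c2075 : Block F al 0 531456 530825 :=
  block_comb c2074 b2075 (Nat.zero_le _) (Nat.le_of_ble_eq_true rfl) rfl

theorem c2076 : Block F al 0 531712 531081 :=
  block_comb c2075 b2076 (Nat.zero_le _) (Nat.le_of_ble_eq_true rfl) rfl

theorem c2077 : Block F al 0 531968 531337 :=
  block_comb c2076 b2077 (Nat.zero_le _) (Nat.le_of_ble_eq_true rfl) rfl

theorem c2078 : Block F al 0 532224 531593 :=
  block_comb c2077 b2078 (Nat.zero_le _) (Nat.le_of_ble_eq_true rfl) rfl

theorem c2079 : Block F al 0 532480 531849 :=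
  block_comb c2078 b2079 (Nat.zero_le _) (Nat.le_of_ble_eq_true rfl) rfl

theorem c2080 : Block F al 0 532736 532105 :=
  block_comb c2079 b2080 (Nat.zero_le _) (Nat.le_of_ble_eq_true rfl) rfl

theorem c2081 : Block F al 0 532992 532361 :=
  block_comb c2080 b2081 (Nat.zero_le _) (Nat.le_of_ble_eq_true rfl) rfl

theorem c2082 : Block F al 0 533248 532617 :=
  block_comb c2081 b2082 (Nat.zero_le _) (Nat.le_of_ble_eq_true rfl) rfl

theorem c2083 : Block F al 0 533504 532873 :=
  block_comb c2082 b2083 (Nat.zero_le _) (Nat.le_of_ble_eq_true rfl) rfl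

theorem c2084 : Block F al 0 533760 533129 :=
  block_comb c2083 b2084 (Nat.zero_le _) (Nat.le_of_ble_eq_true rfl) rfl

theorem c2085 : Block F al 0 534016 533385 :=
  block_comb c2084 b2085 (Nat.zero_le _) (Nat.le_of_ble_eq_true rfl) rfl

theorem c2086 : Block F al 0 534272 533641 :=
  block_comb c2085 b2086 (Nat.zero_le _) (Nat.le_of_ble_eq_true rfl) rfl

theorem c2087 : Block F al 0 534528 533897 :=
  block_comb c2086 b2087 (Nat.zero_le _) (Nat.le_of_ble_eq_true rfl) rfl

theorem c2088 : Block F al 0 534784 534153 :=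
  block_comb c2087 b2088 (Nat.zero_le _) (Nat.le_of_ble_eq_true rfl) rfl

theorem c2089 : Block F al 0 535040 534409 :=
  block_comb c2088 b2089 (Nat.zero_le _) (Nat.le_of_ble_eq_true rfl) rfl

theorem c2090 : Block F al 0 535296 534665 :=
  block_comb c2089 b2090 (Nat.zero_le _) (Nat.le_of_ble_eq_true rfl) rfl

theorem c2091 : Block F al 0 535552 534921 :=
  block_comb c2090 b2091 (Nat.zero_le _) (Nat.le_of_ble_eq_true rfl) rfl

theorem c2092 : Block F al 0 535808 535177 :=
  block_comb c2091 b2092 (Nat.zero_le _) (Nat.le_of_ble_eq_true rfl) rfl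

theorem c2093 : Block F al 0 536064 535433 :=
  block_comb c2092 b2093 (Nat.zero_le _) (Nat.le_of_ble_eq_true rfl) rfl

theorem c2094 : Block F al 0 536320 535689 :=
  block_comb c2093 b2094 (Nat.zero_le _) (Nat.le_of_ble_eq_true rfl) rfl

theorem c2095 : Block F al 0 536576 535945 :=
  block_comb c2094 b2095 (Nat.zero_le _) (Nat.le_of_ble_eq_true rfl) rfl

theorem c2096 : Block F al 0 536832 536201 :=
  block_comb c2095 b2096 (Nat.zero_le _) (Nat.le_of_ble_eq_true rfl) rfl

theorem c2097 : Block F al 0 537088 536457 :=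
  block_comb c2096 b2097 (Nat.zero_le _) (Nat.le_of_ble_eq_true rfl) rfl

theorem c2098 : Block F al 0 537344 536713 :=
  block_comb c2097 b2098 (Nat.zero_le _) (Nat.le_of_ble_eq_true rfl) rfl

theorem c2099 : Block F al 0 537600 536969 :=
  block_comb c2098 b2099 (Nat.zero_le _) (Nat.le_of_ble_eq_true rfl) rfl

theorem c2100 : Block F al 0 537856 537225 :=
  block_comb c2099 b2100 (Nat.zero_le _) (Nat.le_of_ble_eq_true rfl) rfl

theorem c2101 : Block F al 0 538112 537481 :=
  block_comb c2100 b2101 (Nat.zero_le _) (Nat.le_of_ble_eq_true rfl) rfl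

theorem c2102 : Block F al 0 538368 537737 :=
  block_comb c2101 b2102 (Nat.zero_le _) (Nat.le_of_ble_eq_true rfl) rfl

theorem c2103 : Block F al 0 538624 537993 :=
  block_comb c2102 b2103 (Nat.zero_le _) (Nat.le_of_ble_eq_true rfl) rfl

theorem c2104 : Block F al 0 538880 538249 :=
  block_comb c2103 b2104 (Nat.zero_le _) (Nat.le_of_ble_eq_true rfl) rfl

theorem c2105 : Block F al 0 539136 538505 :=
  block_comb c2104 b2105 (Nat.zero_le _) (Nat.le_of_ble_eq_true rfl) rfl

theorem c2106 : Block F al 0 539392 538761 :=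
  block_comb c2105 b2106 (Nat.zero_le _) (Nat.le_of_ble_eq_true rfl) rfl

theorem c2107 : Block F al 0 539648 539017 :=
  block_comb c2106 b2107 (Nat.zero_le _) (Nat.le_of_ble_eq_true rfl) rfl

theorem c2108 : Block F al 0 539904 539273 :=
  block_comb c2107 b2108 (Nat.zero_le _) (Nat.le_of_ble_eq_true rfl) rfl

theorem c2109 : Block F al 0 540160 539529 :=
  block_comb c2108 b2109 (Nat.zero_le _) (Nat.le_of_ble_eq_true rfl) rfl

theorem c2110 : Block F al 0 540416 539785 :=
  block_comb c2109 b2110 (Nat.zero_le _) (Nat.le_of_ble_eq_true rfl) rfl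

theorem c2111 : Block F al 0 540672 540041 :=
  block_comb c2110 b2111 (Nat.zero_le _) (Nat.le_of_ble_eq_true rfl) rfl

theorem c2112 : Block F al 0 540928 540297 :=
  block_comb c2111 b2112 (Nat.zero_le _) (Nat.le_of_ble_eq_true rfl) rfl

theorem c2113 : Block F al 0 541184 540553 :=
  block_comb c2112 b2113 (Nat.zero_le _) (Nat.le_of_ble_eq_true rfl) rfl

theorem c2114 : Block F al 0 541440 540809 :=
  block_comb c2113 b2114 (Nat.zero_le _) (Nat.le_of_ble_eq_true rfl) rfl

theorem c2115 : Block F al 0 541696 541065 :=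
  block_comb c2114 b2115 (Nat.zero_le _) (Nat.le_of_ble_eq_true rfl) rfl

theorem c2116 : Block F al 0 541952 541321 :=
  block_comb c2115 b2116 (Nat.zero_le _) (Nat.le_of_ble_eq_true rfl) rfl

theorem c2117 : Block F al 0 542208 541577 :=
  block_comb c2116 b2117 (Nat.zero_le _) (Nat.le_of_ble_eq_true rfl) rfl

theorem c2118 : Block F al 0 542464 541833 :=
  block_comb c2117 b2118 (Nat.zero_le _) (Nat.le_of_ble_eq_true rfl) rfl

theorem c2119 : Block F al 0 542720 542089 :=
  block_comb c2118 b2119 (Nat.zero_le _) (Nat.le_of_ble_eq_true rfl) rfl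

theorem c2120 : Block F al 0 542976 542345 :=
  block_comb c2119 b2120 (Nat.zero_le _) (Nat.le_of_ble_eq_true rfl) rfl

theorem c2121 : Block F al 0 543232 542601 :=
  block_comb c2120 b2121 (Nat.zero_le _) (Nat.le_of_ble_eq_true rfl) rfl

theorem c2122 : Block F al 0 543488 542857 :=
  block_comb c2121 b2122 (Nat.zero_le _) (Nat.le_of_ble_eq_true rfl) rfl

theorem c2123 : Block F al 0 543744 543113 :=
  block_comb c2122 b2123 (Nat.zero_le _) (Nat.le_of_ble_eq_true rfl) rfl

theorem c2124 : Block F al 0 544000 543369 :=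
  block_comb c2123 b2124 (Nat.zero_le _) (Nat.le_of_ble_eq_true rfl) rfl

theorem c2125 : Block F al 0 544256 543625 :=
  block_comb c2124 b2125 (Nat.zero_le _) (Nat.le_of_ble_eq_true rfl) rfl

theorem c2126 : Block F al 0 544512 543881 :=
  block_comb c2125 b2126 (Nat.zero_le _) (Nat.le_of_ble_eq_true rfl) rfl

theorem c2127 : Block F al 0 544768 544137 :=
  block_comb c2126 b2127 (Nat.zero_le _) (Nat.le_of_ble_eq_true rfl) rfl

theorem c2128 : Block F al 0 545024 544393 :=
  block_comb c2127 b2128 (Nat.zero_le _) (Nat.le_of_ble_eq_true rfl) rfl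

theorem c2129 : Block F al 0 545280 544649 :=
  block_comb c2128 b2129 (Nat.zero_le _) (Nat.le_of_ble_eq_true rfl) rfl

theorem c2130 : Block F al 0 545536 544905 :=
  block_comb c2129 b2130 (Nat.zero_le _) (Nat.le_of_ble_eq_true rfl) rfl

theorem c2131 : Block F al 0 545792 545161 :=
  block_comb c2130 b2131 (Nat.zero_le _) (Nat.le_of_ble_eq_true rfl) rfl

theorem c2132 : Block F al 0 546048 545417 :=
  block_comb c2131 b2132 (Nat.zero_le _) (Nat.le_of_ble_eq_true rfl) rfl

theorem c2133 : Block F al 0 546304 545673 :=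
  block_comb c2132 b2133 (Nat.zero_le _) (Nat.le_of_ble_eq_true rfl) rfl

theorem c2134 : Block F al 0 546560 545929 :=
  block_comb c2133 b2134 (Nat.zero_le _) (Nat.le_of_ble_eq_true rfl) rfl

theorem c2135 : Block F al 0 546816 546185 :=
  block_comb c2134 b2135 (Nat.zero_le _) (Nat.le_of_ble_eq_true rfl) rfl

theorem c2136 : Block F al 0 547072 546441 :=
  block_comb c2135 b2136 (Nat.zero_le _) (Nat.le_of_ble_eq_true rfl) rfl

theorem c2137 : Block F al 0 547328 546697 :=
  block_comb c2136 b2137 (Nat.zero_le _) (Nat.le_of_ble_eq_true rfl) rfl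

theorem c2138 : Block F al 0 547584 546953 :=
  block_comb c2137 b2138 (Nat.zero_le _) (Nat.le_of_ble_eq_true rfl) rfl

theorem c2139 : Block F al 0 547840 547209 :=
  block_comb c2138 b2139 (Nat.zero_le _) (Nat.le_of_ble_eq_true rfl) rfl

theorem c2140 : Block F al 0 548096 547465 :=
  block_comb c2139 b2140 (Nat.zero_le _) (Nat.le_of_ble_eq_true rfl) rfl

theorem c2141 : Block F al 0 548352 547721 :=
  block_comb c2140 b2141 (Nat.zero_le _) (Nat.le_of_ble_eq_true rfl) rfl

theorem c2142 : Block F al 0 548608 547977 :=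
  block_comb c2141 b2142 (Nat.zero_le _) (Nat.le_of_ble_eq_true rfl) rfl

theorem c2143 : Block F al 0 548864 548233 :=
  block_comb c2142 b2143 (Nat.zero_le _) (Nat.le_of_ble_eq_true rfl) rfl

theorem c2144 : Block F al 0 549120 548489 :=
  block_comb c2143 b2144 (Nat.zero_le _) (Nat.le_of_ble_eq_true rfl) rfl

theorem c2145 : Block F al 0 549376 548745 :=
  block_comb c2144 b2145 (Nat.zero_le _) (Nat.le_of_ble_eq_true rfl) rfl

theorem c2146 : Block F al 0 549632 549001 :=
  block_comb c2145 b2146 (Nat.zero_le _) (Nat.le_of_ble_eq_true rfl) rfl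

theorem c2147 : Block F al 0 549888 549257 :=
  block_comb c2146 b2147 (Nat.zero_le _) (Nat.le_of_ble_eq_true rfl) rfl

theorem c2148 : Block F al 0 550144 549513 :=
  block_comb c2147 b2148 (Nat.zero_le _) (Nat.le_of_ble_eq_true rfl) rfl

theorem c2149 : Block F al 0 550400 549769 :=
  block_comb c2148 b2149 (Nat.zero_le _) (Nat.le_of_ble_eq_true rfl) rfl

theorem c2150 : Block F al 0 550656 550025 :=
  block_comb c2149 b2150 (Nat.zero_le _) (Nat.le_of_ble_eq_true rfl) rfl

theorem c2151 : Block F al 0 550912 550281 :=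
  block_comb c2150 b2151 (Nat.zero_le _) (Nat.le_of_ble_eq_true rfl) rfl

theorem c2152 : Block F al 0 551168 550537 :=
  block_comb c2151 b2152 (Nat.zero_le _) (Nat.le_of_ble_eq_true rfl) rfl

theorem c2153 : Block F al 0 551424 550793 :=
  block_comb c2152 b2153 (Nat.zero_le _) (Nat.le_of_ble_eq_true rfl) rfl

theorem c2154 : Block F al 0 551680 551049 :=
  block_comb c2153 b2154 (Nat.zero_le _) (Nat.le_of_ble_eq_true rfl) rfl

theorem c2155 : Block F al 0 551936 551305 :=
  block_comb c2154 b2155 (Nat.zero_le _) (Nat.le_of_ble_eq_true rfl) rfl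

theorem c2156 : Block F al 0 552192 551561 :=
  block_comb c2155 b2156 (Nat.zero_le _) (Nat.le_of_ble_eq_true rfl) rfl

theorem c2157 : Block F al 0 552448 551817 :=
  block_comb c2156 b2157 (Nat.zero_le _) (Nat.le_of_ble_eq_true rfl) rfl

theorem c2158 : Block F al 0 552704 552073 :=
  block_comb c2157 b2158 (Nat.zero_le _) (Nat.le_of_ble_eq_true rfl) rfl

theorem c2159 : Block F al 0 552960 552329 :=
  block_comb c2158 b2159 (Nat.zero_le _) (Nat.le_of_ble_eq_true rfl) rfl

theorem c2160 : Block F al 0 553216 552585 :=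
  block_comb c2159 b2160 (Nat.zero_le _) (Nat.le_of_ble_eq_true rfl) rfl

theorem c2161 : Block F al 0 553472 552841 :=
  block_comb c2160 b2161 (Nat.zero_le _) (Nat.le_of_ble_eq_true rfl) rfl

theorem c2162 : Block F al 0 553728 553097 :=
  block_comb c2161 b2162 (Nat.zero_le _) (Nat.le_of_ble_eq_true rfl) rfl

theorem c2163 : Block F al 0 553984 553353 :=
  block_comb c2162 b2163 (Nat.zero_le _) (Nat.le_of_ble_eq_true rfl) rfl

theorem c2164 : Block F al 0 554240 553609 :=
  block_comb c2163 b2164 (Nat.zero_le _) (Nat.le_of_ble_eq_true rfl) rfl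

theorem c2165 : Block F al 0 554496 553865 :=
  block_comb c2164 b2165 (Nat.zero_le _) (Nat.le_of_ble_eq_true rfl) rfl

theorem c2166 : Block F al 0 554752 554121 :=
  block_comb c2165 b2166 (Nat.zero_le _) (Nat.le_of_ble_eq_true rfl) rfl

theorem c2167 : Block F al 0 555008 554377 :=
  block_comb c2166 b2167 (Nat.zero_le _) (Nat.le_of_ble_eq_true rfl) rfl

theorem c2168 : Block F al 0 555264 554633 :=
  block_comb c2167 b2168 (Nat.zero_le _) (Nat.le_of_ble_eq_true rfl) rfl

theorem c2169 : Block F al 0 555520 554889 :=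
  block_comb c2168 b2169 (Nat.zero_le _) (Nat.le_of_ble_eq_true rfl) rfl

theorem c2170 : Block F al 0 555776 555145 :=
  block_comb c2169 b2170 (Nat.zero_le _) (Nat.le_of_ble_eq_true rfl) rfl

theorem c2171 : Block F al 0 556032 555401 :=
  block_comb c2170 b2171 (Nat.zero_le _) (Nat.le_of_ble_eq_true rfl) rfl

theorem c2172 : Block F al 0 556288 555657 :=
  block_comb c2171 b2172 (Nat.zero_le _) (Nat.le_of_ble_eq_true rfl) rfl

theorem c2173 : Block F al 0 556544 555913 :=
  block_comb c2172 b2173 (Nat.zero_le _) (Nat.le_of_ble_eq_true rfl) rfl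

theorem c2174 : Block F al 0 556800 556169 :=
  block_comb c2173 b2174 (Nat.zero_le _) (Nat.le_of_ble_eq_true rfl) rfl

theorem c2175 : Block F al 0 557056 556425 :=
  block_comb c2174 b2175 (Nat.zero_le _) (Nat.le_of_ble_eq_true rfl) rfl

theorem c2176 : Block F al 0 557312 556681 :=
  block_comb c2175 b2176 (Nat.zero_le _) (Nat.le_of_ble_eq_true rfl) rfl

theorem c2177 : Block F al 0 557568 556937 :=
  block_comb c2176 b2177 (Nat.zero_le _) (Nat.le_of_ble_eq_true rfl) rfl

theorem c2178 : Block F al 0 557824 557193 :=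
  block_comb c2177 b2178 (Nat.zero_le _) (Nat.le_of_ble_eq_true rfl) rfl

theorem c2179 : Block F al 0 558080 557449 :=
  block_comb c2178 b2179 (Nat.zero_le _) (Nat.le_of_ble_eq_true rfl) rfl

theorem c2180 : Block F al 0 558336 557705 :=
  block_comb c2179 b2180 (Nat.zero_le _) (Nat.le_of_ble_eq_true rfl) rfl

theorem c2181 : Block F al 0 558592 557961 :=
  block_comb c2180 b2181 (Nat.zero_le _) (Nat.le_of_ble_eq_true rfl) rfl

theorem c2182 : Block F al 0 558848 558217 :=
  block_comb c2181 b2182 (Nat.zero_le _) (Nat.le_of_ble_eq_true rfl) rfl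

theorem c2183 : Block F al 0 559104 558473 :=
  block_comb c2182 b2183 (Nat.zero_le _) (Nat.le_of_ble_eq_true rfl) rfl

theorem c2184 : Block F al 0 559360 558729 :=
  block_comb c2183 b2184 (Nat.zero_le _) (Nat.le_of_ble_eq_true rfl) rfl

theorem c2185 : Block F al 0 559616 558985 :=
  block_comb c2184 b2185 (Nat.zero_le _) (Nat.le_of_ble_eq_true rfl) rfl

theorem c2186 : Block F al 0 559872 559241 :=
  block_comb c2185 b2186 (Nat.zero_le _) (Nat.le_of_ble_eq_true rfl) rfl

theorem c2187 : Block F al 0 560128 559497 :=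
  block_comb c2186 b2187 (Nat.zero_le _) (Nat.le_of_ble_eq_true rfl) rfl

theorem c2188 : Block F al 0 560384 559753 :=
  block_comb c2187 b2188 (Nat.zero_le _) (Nat.le_of_ble_eq_true rfl) rfl

theorem c2189 : Block F al 0 560640 560009 :=
  block_comb c2188 b2189 (Nat.zero_le _) (Nat.le_of_ble_eq_true rfl) rfl

theorem c2190 : Block F al 0 560896 560265 :=
  block_comb c2189 b2190 (Nat.zero_le _) (Nat.le_of_ble_eq_true rfl) rfl

theorem c2191 : Block F al 0 561152 560521 :=
  block_comb c2190 b2191 (Nat.zero_le _) (Nat.le_of_ble_eq_true rfl) rfl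

theorem c2192 : Block F al 0 561408 560777 :=
  block_comb c2191 b2192 (Nat.zero_le _) (Nat.le_of_ble_eq_true rfl) rfl

theorem c2193 : Block F al 0 561664 561033 :=
  block_comb c2192 b2193 (Nat.zero_le _) (Nat.le_of_ble_eq_true rfl) rfl

theorem c2194 : Block F al 0 561920 561289 :=
  block_comb c2193 b2194 (Nat.zero_le _) (Nat.le_of_ble_eq_true rfl) rfl

theorem c2195 : Block F al 0 562176 561545 :=
  block_comb c2194 b2195 (Nat.zero_le _) (Nat.le_of_ble_eq_true rfl) rfl

theorem c2196 : Block F al 0 562432 561801 :=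
  block_comb c2195 b2196 (Nat.zero_le _) (Nat.le_of_ble_eq_true rfl) rfl

theorem c2197 : Block F al 0 562688 562057 :=
  block_comb c2196 b2197 (Nat.zero_le _) (Nat.le_of_ble_eq_true rfl) rfl

theorem c2198 : Block F al 0 562944 562313 :=
  block_comb c2197 b2198 (Nat.zero_le _) (Nat.le_of_ble_eq_true rfl) rfl

theorem c2199 : Block F al 0 563200 562569 :=
  block_comb c2198 b2199 (Nat.zero_le _) (Nat.le_of_ble_eq_true rfl) rfl

theorem c2200 : Block F al 0 563456 562825 :=
  block_comb c2199 b2200 (Nat.zero_le _) (Nat.le_of_ble_eq_true rfl) rfl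

theorem c2201 : Block F al 0 563712 563081 :=
  block_comb c2200 b2201 (Nat.zero_le _) (Nat.le_of_ble_eq_true rfl) rfl

theorem c2202 : Block F al 0 563968 563337 :=
  block_comb c2201 b2202 (Nat.zero_le _) (Nat.le_of_ble_eq_true rfl) rfl

theorem c2203 : Block F al 0 564224 563593 :=
  block_comb c2202 b2203 (Nat.zero_le _) (Nat.le_of_ble_eq_true rfl) rfl

theorem c2204 : Block F al 0 564480 563849 :=
  block_comb c2203 b2204 (Nat.zero_le _) (Nat.le_of_ble_eq_true rfl) rfl

theorem c2205 : Block F al 0 564736 564105 :=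
  block_comb c2204 b2205 (Nat.zero_le _) (Nat.le_of_ble_eq_true rfl) rfl

theorem c2206 : Block F al 0 564992 564361 :=
  block_comb c2205 b2206 (Nat.zero_le _) (Nat.le_of_ble_eq_true rfl) rfl

theorem c2207 : Block F al 0 565248 564617 :=
  block_comb c2206 b2207 (Nat.zero_le _) (Nat.le_of_ble_eq_true rfl) rfl

theorem c2208 : Block F al 0 565504 564873 :=
  block_comb c2207 b2208 (Nat.zero_le _) (Nat.le_of_ble_eq_true rfl) rfl

theorem c2209 : Block F al 0 565760 565129 :=
  block_comb c2208 b2209 (Nat.zero_le _) (Nat.le_of_ble_eq_true rfl) rfl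

theorem c2210 : Block F al 0 566016 565385 :=
  block_comb c2209 b2210 (Nat.zero_le _) (Nat.le_of_ble_eq_true rfl) rfl

theorem c2211 : Block F al 0 566272 565641 :=
  block_comb c2210 b2211 (Nat.zero_le _) (Nat.le_of_ble_eq_true rfl) rfl

theorem c2212 : Block F al 0 566528 565897 :=
  block_comb c2211 b2212 (Nat.zero_le _) (Nat.le_of_ble_eq_true rfl) rfl

theorem c2213 : Block F al 0 566784 566153 :=
  block_comb c2212 b2213 (Nat.zero_le _) (Nat.le_of_ble_eq_true rfl) rfl

theorem c2214 : Block F al 0 567040 566409 :=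
  block_comb c2213 b2214 (Nat.zero_le _) (Nat.le_of_ble_eq_true rfl) rfl

theorem c2215 : Block F al 0 567296 566665 :=
  block_comb c2214 b2215 (Nat.zero_le _) (Nat.le_of_ble_eq_true rfl) rfl

theorem c2216 : Block F al 0 567552 566921 :=
  block_comb c2215 b2216 (Nat.zero_le _) (Nat.le_of_ble_eq_true rfl) rfl

theorem c2217 : Block F al 0 567808 567177 :=
  block_comb c2216 b2217 (Nat.zero_le _) (Nat.le_of_ble_eq_true rfl) rfl

theorem c2218 : Block F al 0 568064 567433 :=
  block_comb c2217 b2218 (Nat.zero_le _) (Nat.le_of_ble_eq_true rfl) rfl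

theorem c2219 : Block F al 0 568320 567689 :=
  block_comb c2218 b2219 (Nat.zero_le _) (Nat.le_of_ble_eq_true rfl) rfl

theorem c2220 : Block F al 0 568576 567945 :=
  block_comb c2219 b2220 (Nat.zero_le _) (Nat.le_of_ble_eq_true rfl) rfl

theorem c2221 : Block F al 0 568832 568201 :=
  block_comb c2220 b2221 (Nat.zero_le _) (Nat.le_of_ble_eq_true rfl) rfl

theorem c2222 : Block F al 0 569088 568457 :=
  block_comb c2221 b2222 (Nat.zero_le _) (Nat.le_of_ble_eq_true rfl) rfl

theorem c2223 : Block F al 0 569344 568713 :=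
  block_comb c2222 b2223 (Nat.zero_le _) (Nat.le_of_ble_eq_true rfl) rfl

theorem c2224 : Block F al 0 569600 568969 :=
  block_comb c2223 b2224 (Nat.zero_le _) (Nat.le_of_ble_eq_true rfl) rfl

theorem c2225 : Block F al 0 569856 569225 :=
  block_comb c2224 b2225 (Nat.zero_le _) (Nat.le_of_ble_eq_true rfl) rfl

theorem c2226 : Block F al 0 570112 569481 :=
  block_comb c2225 b2226 (Nat.zero_le _) (Nat.le_of_ble_eq_true rfl) rfl

theorem c2227 : Block F al 0 570368 569737 :=
  block_comb c2226 b2227 (Nat.zero_le _) (Nat.le_of_ble_eq_true rfl) rfl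

theorem c2228 : Block F al 0 570624 569993 :=
  block_comb c2227 b2228 (Nat.zero_le _) (Nat.le_of_ble_eq_true rfl) rfl

theorem c2229 : Block F al 0 570880 570249 :=
  block_comb c2228 b2229 (Nat.zero_le _) (Nat.le_of_ble_eq_true rfl) rfl

theorem c2230 : Block F al 0 571136 570505 :=
  block_comb c2229 b2230 (Nat.zero_le _) (Nat.le_of_ble_eq_true rfl) rfl

theorem c2231 : Block F al 0 571392 570761 :=
  block_comb c2230 b2231 (Nat.zero_le _) (Nat.le_of_ble_eq_true rfl) rfl

theorem c2232 : Block F al 0 571648 571017 :=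
  block_comb c2231 b2232 (Nat.zero_le _) (Nat.le_of_ble_eq_true rfl) rfl

theorem c2233 : Block F al 0 571904 571273 :=
  block_comb c2232 b2233 (Nat.zero_le _) (Nat.le_of_ble_eq_true rfl) rfl

theorem c2234 : Block F al 0 572160 571529 :=
  block_comb c2233 b2234 (Nat.zero_le _) (Nat.le_of_ble_eq_true rfl) rfl

theorem c2235 : Block F al 0 572416 571785 :=
  block_comb c2234 b2235 (Nat.zero_le _) (Nat.le_of_ble_eq_true rfl) rfl

theorem c2236 : Block F al 0 572672 572041 :=
  block_comb c2235 b2236 (Nat.zero_le _) (Nat.le_of_ble_eq_true rfl) rfl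

theorem c2237 : Block F al 0 572928 572297 :=
  block_comb c2236 b2237 (Nat.zero_le _) (Nat.le_of_ble_eq_true rfl) rfl

theorem c2238 : Block F al 0 573184 572553 :=
  block_comb c2237 b2238 (Nat.zero_le _) (Nat.le_of_ble_eq_true rfl) rfl

theorem c2239 : Block F al 0 573440 572809 :=
  block_comb c2238 b2239 (Nat.zero_le _) (Nat.le_of_ble_eq_true rfl) rfl

theorem c2240 : Block F al 0 573696 573065 :=
  block_comb c2239 b2240 (Nat.zero_le _) (Nat.le_of_ble_eq_true rfl) rfl

theorem c2241 : Block F al 0 573952 573321 :=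
  block_comb c2240 b2241 (Nat.zero_le _) (Nat.le_of_ble_eq_true rfl) rfl

theorem c2242 : Block F al 0 574208 573577 :=
  block_comb c2241 b2242 (Nat.zero_le _) (Nat.le_of_ble_eq_true rfl) rfl

theorem c2243 : Block F al 0 574464 573833 :=
  block_comb c2242 b2243 (Nat.zero_le _) (Nat.le_of_ble_eq_true rfl) rfl

theorem c2244 : Block F al 0 574720 574089 :=
  block_comb c2243 b2244 (Nat.zero_le _) (Nat.le_of_ble_eq_true rfl) rfl

theorem c2245 : Block F al 0 574976 574345 :=
  block_comb c2244 b2245 (Nat.zero_le _) (Nat.le_of_ble_eq_true rfl) rfl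

theorem c2246 : Block F al 0 575232 574601 :=
  block_comb c2245 b2246 (Nat.zero_le _) (Nat.le_of_ble_eq_true rfl) rfl

theorem c2247 : Block F al 0 575488 574857 :=
  block_comb c2246 b2247 (Nat.zero_le _) (Nat.le_of_ble_eq_true rfl) rfl

theorem c2248 : Block F al 0 575744 575113 :=
  block_comb c2247 b2248 (Nat.zero_le _) (Nat.le_of_ble_eq_true rfl) rfl

theorem c2249 : Block F al 0 576000 575369 :=
  block_comb c2248 b2249 (Nat.zero_le _) (Nat.le_of_ble_eq_true rfl) rfl

theorem c2250 : Block F al 0 576256 575625 :=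
  block_comb c2249 b2250 (Nat.zero_le _) (Nat.le_of_ble_eq_true rfl) rfl

theorem c2251 : Block F al 0 576512 575881 :=
  block_comb c2250 b2251 (Nat.zero_le _) (Nat.le_of_ble_eq_true rfl) rfl

theorem c2252 : Block F al 0 576768 576137 :=
  block_comb c2251 b2252 (Nat.zero_le _) (Nat.le_of_ble_eq_true rfl) rfl

theorem c2253 : Block F al 0 577024 576393 :=
  block_comb c2252 b2253 (Nat.zero_le _) (Nat.le_of_ble_eq_true rfl) rfl

theorem c2254 : Block F al 0 577280 576649 :=
  block_comb c2253 b2254 (Nat.zero_le _) (Nat.le_of_ble_eq_true rfl) rfl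

theorem c2255 : Block F al 0 577536 576905 :=
  block_comb c2254 b2255 (Nat.zero_le _) (Nat.le_of_ble_eq_true rfl) rfl

theorem c2256 : Block F al 0 577792 577161 :=
  block_comb c2255 b2256 (Nat.zero_le _) (Nat.le_of_ble_eq_true rfl) rfl

theorem c2257 : Block F al 0 578048 577417 :=
  block_comb c2256 b2257 (Nat.zero_le _) (Nat.le_of_ble_eq_true rfl) rfl

theorem c2258 : Block F al 0 578304 577673 :=
  block_comb c2257 b2258 (Nat.zero_le _) (Nat.le_of_ble_eq_true rfl) rfl

theorem c2259 : Block F al 0 578560 577929 :=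
  block_comb c2258 b2259 (Nat.zero_le _) (Nat.le_of_ble_eq_true rfl) rfl

theorem c2260 : Block F al 0 578816 578185 :=
  block_comb c2259 b2260 (Nat.zero_le _) (Nat.le_of_ble_eq_true rfl) rfl

theorem c2261 : Block F al 0 579072 578441 :=
  block_comb c2260 b2261 (Nat.zero_le _) (Nat.le_of_ble_eq_true rfl) rfl

theorem c2262 : Block F al 0 579328 578697 :=
  block_comb c2261 b2262 (Nat.zero_le _) (Nat.le_of_ble_eq_true rfl) rfl

theorem c2263 : Block F al 0 579584 578953 :=
  block_comb c2262 b2263 (Nat.zero_le _) (Nat.le_of_ble_eq_true rfl) rfl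

theorem c2264 : Block F al 0 579840 579209 :=
  block_comb c2263 b2264 (Nat.zero_le _) (Nat.le_of_ble_eq_true rfl) rfl

theorem c2265 : Block F al 0 580096 579465 :=
  block_comb c2264 b2265 (Nat.zero_le _) (Nat.le_of_ble_eq_true rfl) rfl

theorem c2266 : Block F al 0 580352 579721 :=
  block_comb c2265 b2266 (Nat.zero_le _) (Nat.le_of_ble_eq_true rfl) rfl

theorem c2267 : Block F al 0 580608 579977 :=
  block_comb c2266 b2267 (Nat.zero_le _) (Nat.le_of_ble_eq_true rfl) rfl

theorem c2268 : Block F al 0 580864 580233 :=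
  block_comb c2267 b2268 (Nat.zero_le _) (Nat.le_of_ble_eq_true rfl) rfl

theorem c2269 : Block F al 0 581120 580489 :=
  block_comb c2268 b2269 (Nat.zero_le _) (Nat.le_of_ble_eq_true rfl) rfl

theorem c2270 : Block F al 0 581376 580745 :=
  block_comb c2269 b2270 (Nat.zero_le _) (Nat.le_of_ble_eq_true rfl) rfl

theorem c2271 : Block F al 0 581632 581001 :=
  block_comb c2270 b2271 (Nat.zero_le _) (Nat.le_of_ble_eq_true rfl) rfl

theorem c2272 : Block F al 0 581888 581257 :=
  block_comb c2271 b2272 (Nat.zero_le _) (Nat.le_of_ble_eq_true rfl) rfl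

theorem c2273 : Block F al 0 582144 581513 :=
  block_comb c2272 b2273 (Nat.zero_le _) (Nat.le_of_ble_eq_true rfl) rfl

theorem c2274 : Block F al 0 582400 581769 :=
  block_comb c2273 b2274 (Nat.zero_le _) (Nat.le_of_ble_eq_true rfl) rfl

theorem c2275 : Block F al 0 582656 582025 :=
  block_comb c2274 b2275 (Nat.zero_le _) (Nat.le_of_ble_eq_true rfl) rfl

theorem c2276 : Block F al 0 582912 582281 :=
  block_comb c2275 b2276 (Nat.zero_le _) (Nat.le_of_ble_eq_true rfl) rfl

theorem c2277 : Block F al 0 583168 582537 :=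
  block_comb c2276 b2277 (Nat.zero_le _) (Nat.le_of_ble_eq_true rfl) rfl

theorem c2278 : Block F al 0 583424 582793 :=
  block_comb c2277 b2278 (Nat.zero_le _) (Nat.le_of_ble_eq_true rfl) rfl

theorem c2279 : Block F al 0 583680 583049 :=
  block_comb c2278 b2279 (Nat.zero_le _) (Nat.le_of_ble_eq_true rfl) rfl

theorem c2280 : Block F al 0 583936 583305 :=
  block_comb c2279 b2280 (Nat.zero_le _) (Nat.le_of_ble_eq_true rfl) rfl

theorem c2281 : Block F al 0 584192 583561 :=
  block_comb c2280 b2281 (Nat.zero_le _) (Nat.le_of_ble_eq_true rfl) rfl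

theorem c2282 : Block F al 0 584448 583817 :=
  block_comb c2281 b2282 (Nat.zero_le _) (Nat.le_of_ble_eq_true rfl) rfl

theorem c2283 : Block F al 0 584704 584073 :=
  block_comb c2282 b2283 (Nat.zero_le _) (Nat.le_of_ble_eq_true rfl) rfl

theorem c2284 : Block F al 0 584960 584329 :=
  block_comb c2283 b2284 (Nat.zero_le _) (Nat.le_of_ble_eq_true rfl) rfl

theorem c2285 : Block F al 0 585216 584585 :=
  block_comb c2284 b2285 (Nat.zero_le _) (Nat.le_of_ble_eq_true rfl) rfl

theorem c2286 : Block F al 0 585472 584841 :=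
  block_comb c2285 b2286 (Nat.zero_le _) (Nat.le_of_ble_eq_true rfl) rfl

theorem c2287 : Block F al 0 585728 585097 :=
  block_comb c2286 b2287 (Nat.zero_le _) (Nat.le_of_ble_eq_true rfl) rfl

theorem c2288 : Block F al 0 585984 585353 :=
  block_comb c2287 b2288 (Nat.zero_le _) (Nat.le_of_ble_eq_true rfl) rfl

theorem c2289 : Block F al 0 586240 585609 :=
  block_comb c2288 b2289 (Nat.zero_le _) (Nat.le_of_ble_eq_true rfl) rfl

theorem c2290 : Block F al 0 586496 585865 :=
  block_comb c2289 b2290 (Nat.zero_le _) (Nat.le_of_ble_eq_true rfl) rfl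

theorem c2291 : Block F al 0 586752 586121 :=
  block_comb c2290 b2291 (Nat.zero_le _) (Nat.le_of_ble_eq_true rfl) rfl

theorem c2292 : Block F al 0 587008 586377 :=
  block_comb c2291 b2292 (Nat.zero_le _) (Nat.le_of_ble_eq_true rfl) rfl

theorem c2293 : Block F al 0 587264 586633 :=
  block_comb c2292 b2293 (Nat.zero_le _) (Nat.le_of_ble_eq_true rfl) rfl

theorem c2294 : Block F al 0 587520 586889 :=
  block_comb c2293 b2294 (Nat.zero_le _) (Nat.le_of_ble_eq_true rfl) rfl

theorem c2295 : Block F al 0 587776 587145 :=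
  block_comb c2294 b2295 (Nat.zero_le _) (Nat.le_of_ble_eq_true rfl) rfl

theorem c2296 : Block F al 0 588032 587401 :=
  block_comb c2295 b2296 (Nat.zero_le _) (Nat.le_of_ble_eq_true rfl) rfl

theorem c2297 : Block F al 0 588288 587657 :=
  block_comb c2296 b2297 (Nat.zero_le _) (Nat.le_of_ble_eq_true rfl) rfl

theorem c2298 : Block F al 0 588544 587913 :=
  block_comb c2297 b2298 (Nat.zero_le _) (Nat.le_of_ble_eq_true rfl) rfl

theorem c2299 : Block F al 0 588800 588169 :=
  block_comb c2298 b2299 (Nat.zero_le _) (Nat.le_of_ble_eq_true rfl) rfl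

theorem c2300 : Block F al 0 589056 588425 :=
  block_comb c2299 b2300 (Nat.zero_le _) (Nat.le_of_ble_eq_true rfl) rfl

theorem c2301 : Block F al 0 589312 588681 :=
  block_comb c2300 b2301 (Nat.zero_le _) (Nat.le_of_ble_eq_true rfl) rfl

theorem c2302 : Block F al 0 589568 588937 :=
  block_comb c2301 b2302 (Nat.zero_le _) (Nat.le_of_ble_eq_true rfl) rfl

theorem c2303 : Block F al 0 589824 589193 :=
  block_comb c2302 b2303 (Nat.zero_le _) (Nat.le_of_ble_eq_true rfl) rfl

theorem c2304 : Block F al 0 590080 589449 :=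
  block_comb c2303 b2304 (Nat.zero_le _) (Nat.le_of_ble_eq_true rfl) rfl

theorem c2305 : Block F al 0 590336 589705 :=
  block_comb c2304 b2305 (Nat.zero_le _) (Nat.le_of_ble_eq_true rfl) rfl

theorem c2306 : Block F al 0 590592 589961 :=
  block_comb c2305 b2306 (Nat.zero_le _) (Nat.le_of_ble_eq_true rfl) rfl

theorem c2307 : Block F al 0 590848 590217 :=
  block_comb c2306 b2307 (Nat.zero_le _) (Nat.le_of_ble_eq_true rfl) rfl

theorem c2308 : Block F al 0 591104 590473 :=
  block_comb c2307 b2308 (Nat.zero_le _) (Nat.le_of_ble_eq_true rfl) rfl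

theorem c2309 : Block F al 0 591360 590729 :=
  block_comb c2308 b2309 (Nat.zero_le _) (Nat.le_of_ble_eq_true rfl) rfl

theorem c2310 : Block F al 0 591616 590985 :=
  block_comb c2309 b2310 (Nat.zero_le _) (Nat.le_of_ble_eq_true rfl) rfl

theorem c2311 : Block F al 0 591872 591241 :=
  block_comb c2310 b2311 (Nat.zero_le _) (Nat.le_of_ble_eq_true rfl) rfl

theorem c2312 : Block F al 0 592128 591497 :=
  block_comb c2311 b2312 (Nat.zero_le _) (Nat.le_of_ble_eq_true rfl) rfl

theorem c2313 : Block F al 0 592384 591753 :=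
  block_comb c2312 b2313 (Nat.zero_le _) (Nat.le_of_ble_eq_true rfl) rfl

theorem c2314 : Block F al 0 592640 592009 :=
  block_comb c2313 b2314 (Nat.zero_le _) (Nat.le_of_ble_eq_true rfl) rfl

theorem c2315 : Block F al 0 592896 592265 :=
  block_comb c2314 b2315 (Nat.zero_le _) (Nat.le_of_ble_eq_true rfl) rfl

theorem c2316 : Block F al 0 593152 592521 :=
  block_comb c2315 b2316 (Nat.zero_le _) (Nat.le_of_ble_eq_true rfl) rfl

theorem c2317 : Block F al 0 593408 592777 :=
  block_comb c2316 b2317 (Nat.zero_le _) (Nat.le_of_ble_eq_true rfl) rfl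

theorem c2318 : Block F al 0 593664 593033 :=
  block_comb c2317 b2318 (Nat.zero_le _) (Nat.le_of_ble_eq_true rfl) rfl

theorem c2319 : Block F al 0 593920 593289 :=
  block_comb c2318 b2319 (Nat.zero_le _) (Nat.le_of_ble_eq_true rfl) rfl

theorem c2320 : Block F al 0 594176 593545 :=
  block_comb c2319 b2320 (Nat.zero_le _) (Nat.le_of_ble_eq_true rfl) rfl

theorem c2321 : Block F al 0 594432 593801 :=
  block_comb c2320 b2321 (Nat.zero_le _) (Nat.le_of_ble_eq_true rfl) rfl

theorem c2322 : Block F al 0 594688 594057 :=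
  block_comb c2321 b2322 (Nat.zero_le _) (Nat.le_of_ble_eq_true rfl) rfl

theorem c2323 : Block F al 0 594944 594313 :=
  block_comb c2322 b2323 (Nat.zero_le _) (Nat.le_of_ble_eq_true rfl) rfl

theorem c2324 : Block F al 0 595200 594569 :=
  block_comb c2323 b2324 (Nat.zero_le _) (Nat.le_of_ble_eq_true rfl) rfl

theorem c2325 : Block F al 0 595456 594825 :=
  block_comb c2324 b2325 (Nat.zero_le _) (Nat.le_of_ble_eq_true rfl) rfl

theorem c2326 : Block F al 0 595712 595081 :=
  block_comb c2325 b2326 (Nat.zero_le _) (Nat.le_of_ble_eq_true rfl) rfl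

theorem c2327 : Block F al 0 595968 595337 :=
  block_comb c2326 b2327 (Nat.zero_le _) (Nat.le_of_ble_eq_true rfl) rfl

theorem c2328 : Block F al 0 596224 595593 :=
  block_comb c2327 b2328 (Nat.zero_le _) (Nat.le_of_ble_eq_true rfl) rfl

theorem c2329 : Block F al 0 596480 595849 :=
  block_comb c2328 b2329 (Nat.zero_le _) (Nat.le_of_ble_eq_true rfl) rfl

theorem c2330 : Block F al 0 596736 596105 :=
  block_comb c2329 b2330 (Nat.zero_le _) (Nat.le_of_ble_eq_true rfl) rfl

theorem c2331 : Block F al 0 596992 596361 :=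
  block_comb c2330 b2331 (Nat.zero_le _) (Nat.le_of_ble_eq_true rfl) rfl

theorem c2332 : Block F al 0 597248 596617 :=
  block_comb c2331 b2332 (Nat.zero_le _) (Nat.le_of_ble_eq_true rfl) rfl

theorem c2333 : Block F al 0 597504 596873 :=
  block_comb c2332 b2333 (Nat.zero_le _) (Nat.le_of_ble_eq_true rfl) rfl

theorem c2334 : Block F al 0 597760 597129 :=
  block_comb c2333 b2334 (Nat.zero_le _) (Nat.le_of_ble_eq_true rfl) rfl

theorem c2335 : Block F al 0 598016 597385 :=
  block_comb c2334 b2335 (Nat.zero_le _) (Nat.le_of_ble_eq_true rfl) rfl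

theorem c2336 : Block F al 0 598272 597641 :=
  block_comb c2335 b2336 (Nat.zero_le _) (Nat.le_of_ble_eq_true rfl) rfl

theorem c2337 : Block F al 0 598528 597897 :=
  block_comb c2336 b2337 (Nat.zero_le _) (Nat.le_of_ble_eq_true rfl) rfl

theorem c2338 : Block F al 0 598784 598153 :=
  block_comb c2337 b2338 (Nat.zero_le _) (Nat.le_of_ble_eq_true rfl) rfl

theorem c2339 : Block F al 0 599040 598409 :=
  block_comb c2338 b2339 (Nat.zero_le _) (Nat.le_of_ble_eq_true rfl) rfl

theorem c2340 : Block F al 0 599296 598665 :=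
  block_comb c2339 b2340 (Nat.zero_le _) (Nat.le_of_ble_eq_true rfl) rfl

theorem c2341 : Block F al 0 599552 598921 :=
  block_comb c2340 b2341 (Nat.zero_le _) (Nat.le_of_ble_eq_true rfl) rfl

theorem c2342 : Block F al 0 599808 599177 :=
  block_comb c2341 b2342 (Nat.zero_le _) (Nat.le_of_ble_eq_true rfl) rfl

theorem c2343 : Block F al 0 600064 599433 :=
  block_comb c2342 b2343 (Nat.zero_le _) (Nat.le_of_ble_eq_true rfl) rfl

theorem c2344 : Block F al 0 600320 599689 :=
  block_comb c2343 b2344 (Nat.zero_le _) (Nat.le_of_ble_eq_true rfl) rfl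

theorem c2345 : Block F al 0 600576 599945 :=
  block_comb c2344 b2345 (Nat.zero_le _) (Nat.le_of_ble_eq_true rfl) rfl

theorem c2346 : Block F al 0 600832 600201 :=
  block_comb c2345 b2346 (Nat.zero_le _) (Nat.le_of_ble_eq_true rfl) rfl

theorem c2347 : Block F al 0 601088 600457 :=
  block_comb c2346 b2347 (Nat.zero_le _) (Nat.le_of_ble_eq_true rfl) rfl

theorem c2348 : Block F al 0 601344 600713 :=
  block_comb c2347 b2348 (Nat.zero_le _) (Nat.le_of_ble_eq_true rfl) rfl

theorem c2349 : Block F al 0 601600 600969 :=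
  block_comb c2348 b2349 (Nat.zero_le _) (Nat.le_of_ble_eq_true rfl) rfl

theorem c2350 : Block F al 0 601856 601225 :=
  block_comb c2349 b2350 (Nat.zero_le _) (Nat.le_of_ble_eq_true rfl) rfl

theorem c2351 : Block F al 0 602112 601481 :=
  block_comb c2350 b2351 (Nat.zero_le _) (Nat.le_of_ble_eq_true rfl) rfl

theorem c2352 : Block F al 0 602368 601737 :=
  block_comb c2351 b2352 (Nat.zero_le _) (Nat.le_of_ble_eq_true rfl) rfl

theorem c2353 : Block F al 0 602624 601993 :=
  block_comb c2352 b2353 (Nat.zero_le _) (Nat.le_of_ble_eq_true rfl) rfl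

theorem c2354 : Block F al 0 602880 602249 :=
  block_comb c2353 b2354 (Nat.zero_le _) (Nat.le_of_ble_eq_true rfl) rfl

theorem c2355 : Block F al 0 603136 602505 :=
  block_comb c2354 b2355 (Nat.zero_le _) (Nat.le_of_ble_eq_true rfl) rfl

theorem c2356 : Block F al 0 603392 602761 :=
  block_comb c2355 b2356 (Nat.zero_le _) (Nat.le_of_ble_eq_true rfl) rfl

theorem c2357 : Block F al 0 603648 603017 :=
  block_comb c2356 b2357 (Nat.zero_le _) (Nat.le_of_ble_eq_true rfl) rfl

theorem c2358 : Block F al 0 603904 603273 :=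
  block_comb c2357 b2358 (Nat.zero_le _) (Nat.le_of_ble_eq_true rfl) rfl

theorem c2359 : Block F al 0 604160 603529 :=
  block_comb c2358 b2359 (Nat.zero_le _) (Nat.le_of_ble_eq_true rfl) rfl

theorem c2360 : Block F al 0 604416 603785 :=
  block_comb c2359 b2360 (Nat.zero_le _) (Nat.le_of_ble_eq_true rfl) rfl

theorem c2361 : Block F al 0 604672 604041 :=
  block_comb c2360 b2361 (Nat.zero_le _) (Nat.le_of_ble_eq_true rfl) rfl

theorem c2362 : Block F al 0 604928 604297 :=
  block_comb c2361 b2362 (Nat.zero_le _) (Nat.le_of_ble_eq_true rfl) rfl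

theorem c2363 : Block F al 0 605184 604553 :=
  block_comb c2362 b2363 (Nat.zero_le _) (Nat.le_of_ble_eq_true rfl) rfl

theorem c2364 : Block F al 0 605440 604809 :=
  block_comb c2363 b2364 (Nat.zero_le _) (Nat.le_of_ble_eq_true rfl) rfl

theorem c2365 : Block F al 0 605696 605065 :=
  block_comb c2364 b2365 (Nat.zero_le _) (Nat.le_of_ble_eq_true rfl) rfl

theorem c2366 : Block F al 0 605952 605321 :=
  block_comb c2365 b2366 (Nat.zero_le _) (Nat.le_of_ble_eq_true rfl) rfl

theorem c2367 : Block F al 0 606208 605577 :=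
  block_comb c2366 b2367 (Nat.zero_le _) (Nat.le_of_ble_eq_true rfl) rfl

theorem c2368 : Block F al 0 606464 605833 :=
  block_comb c2367 b2368 (Nat.zero_le _) (Nat.le_of_ble_eq_true rfl) rfl

theorem c2369 : Block F al 0 606720 606089 :=
  block_comb c2368 b2369 (Nat.zero_le _) (Nat.le_of_ble_eq_true rfl) rfl

theorem c2370 : Block F al 0 606976 606345 :=
  block_comb c2369 b2370 (Nat.zero_le _) (Nat.le_of_ble_eq_true rfl) rfl

theorem c2371 : Block F al 0 607232 606601 :=
  block_comb c2370 b2371 (Nat.zero_le _) (Nat.le_of_ble_eq_true rfl) rfl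

theorem c2372 : Block F al 0 607488 606857 :=
  block_comb c2371 b2372 (Nat.zero_le _) (Nat.le_of_ble_eq_true rfl) rfl

theorem c2373 : Block F al 0 607744 607113 :=
  block_comb c2372 b2373 (Nat.zero_le _) (Nat.le_of_ble_eq_true rfl) rfl

theorem c2374 : Block F al 0 608000 607369 :=
  block_comb c2373 b2374 (Nat.zero_le _) (Nat.le_of_ble_eq_true rfl) rfl

theorem c2375 : Block F al 0 608256 607625 :=
  block_comb c2374 b2375 (Nat.zero_le _) (Nat.le_of_ble_eq_true rfl) rfl

theorem c2376 : Block F al 0 608512 607881 :=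
  block_comb c2375 b2376 (Nat.zero_le _) (Nat.le_of_ble_eq_true rfl) rfl

theorem c2377 : Block F al 0 608768 608137 :=
  block_comb c2376 b2377 (Nat.zero_le _) (Nat.le_of_ble_eq_true rfl) rfl

theorem c2378 : Block F al 0 609024 608393 :=
  block_comb c2377 b2378 (Nat.zero_le _) (Nat.le_of_ble_eq_true rfl) rfl

theorem c2379 : Block F al 0 609280 608649 :=
  block_comb c2378 b2379 (Nat.zero_le _) (Nat.le_of_ble_eq_true rfl) rfl

theorem c2380 : Block F al 0 609536 608905 :=
  block_comb c2379 b2380 (Nat.zero_le _) (Nat.le_of_ble_eq_true rfl) rfl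

theorem c2381 : Block F al 0 609792 609161 :=
  block_comb c2380 b2381 (Nat.zero_le _) (Nat.le_of_ble_eq_true rfl) rfl

theorem c2382 : Block F al 0 610048 609417 :=
  block_comb c2381 b2382 (Nat.zero_le _) (Nat.le_of_ble_eq_true rfl) rfl

theorem c2383 : Block F al 0 610304 609673 :=
  block_comb c2382 b2383 (Nat.zero_le _) (Nat.le_of_ble_eq_true rfl) rfl

theorem c2384 : Block F al 0 610560 609929 :=
  block_comb c2383 b2384 (Nat.zero_le _) (Nat.le_of_ble_eq_true rfl) rfl

theorem c2385 : Block F al 0 610816 610185 :=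
  block_comb c2384 b2385 (Nat.zero_le _) (Nat.le_of_ble_eq_true rfl) rfl

theorem c2386 : Block F al 0 611072 610441 :=
  block_comb c2385 b2386 (Nat.zero_le _) (Nat.le_of_ble_eq_true rfl) rfl

theorem c2387 : Block F al 0 611328 610697 :=
  block_comb c2386 b2387 (Nat.zero_le _) (Nat.le_of_ble_eq_true rfl) rfl

theorem c2388 : Block F al 0 611584 610953 :=
  block_comb c2387 b2388 (Nat.zero_le _) (Nat.le_of_ble_eq_true rfl) rfl

theorem c2389 : Block F al 0 611840 611209 :=
  block_comb c2388 b2389 (Nat.zero_le _) (Nat.le_of_ble_eq_true rfl) rfl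

theorem c2390 : Block F al 0 612096 611465 :=
  block_comb c2389 b2390 (Nat.zero_le _) (Nat.le_of_ble_eq_true rfl) rfl

theorem c2391 : Block F al 0 612352 611721 :=
  block_comb c2390 b2391 (Nat.zero_le _) (Nat.le_of_ble_eq_true rfl) rfl

theorem c2392 : Block F al 0 612608 611977 :=
  block_comb c2391 b2392 (Nat.zero_le _) (Nat.le_of_ble_eq_true rfl) rfl

theorem c2393 : Block F al 0 612864 612233 :=
  block_comb c2392 b2393 (Nat.zero_le _) (Nat.le_of_ble_eq_true rfl) rfl

theorem c2394 : Block F al 0 613120 612489 :=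
  block_comb c2393 b2394 (Nat.zero_le _) (Nat.le_of_ble_eq_true rfl) rfl

theorem c2395 : Block F al 0 613376 612745 :=
  block_comb c2394 b2395 (Nat.zero_le _) (Nat.le_of_ble_eq_true rfl) rfl

theorem c2396 : Block F al 0 613632 613001 :=
  block_comb c2395 b2396 (Nat.zero_le _) (Nat.le_of_ble_eq_true rfl) rfl

theorem c2397 : Block F al 0 613888 613257 :=
  block_comb c2396 b2397 (Nat.zero_le _) (Nat.le_of_ble_eq_true rfl) rfl

theorem c2398 : Block F al 0 614144 613513 :=
  block_comb c2397 b2398 (Nat.zero_le _) (Nat.le_of_ble_eq_true rfl) rfl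

theorem c2399 : Block F al 0 614400 613769 :=
  block_comb c2398 b2399 (Nat.zero_le _) (Nat.le_of_ble_eq_true rfl) rfl

theorem c2400 : Block F al 0 614656 614025 :=
  block_comb c2399 b2400 (Nat.zero_le _) (Nat.le_of_ble_eq_true rfl) rfl

theorem c2401 : Block F al 0 614912 614281 :=
  block_comb c2400 b2401 (Nat.zero_le _) (Nat.le_of_ble_eq_true rfl) rfl

theorem c2402 : Block F al 0 615168 614537 :=
  block_comb c2401 b2402 (Nat.zero_le _) (Nat.le_of_ble_eq_true rfl) rfl

theorem c2403 : Block F al 0 615424 614793 :=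
  block_comb c2402 b2403 (Nat.zero_le _) (Nat.le_of_ble_eq_true rfl) rfl

theorem c2404 : Block F al 0 615680 615049 :=
  block_comb c2403 b2404 (Nat.zero_le _) (Nat.le_of_ble_eq_true rfl) rfl

theorem c2405 : Block F al 0 615936 615305 :=
  block_comb c2404 b2405 (Nat.zero_le _) (Nat.le_of_ble_eq_true rfl) rfl

theorem c2406 : Block F al 0 616192 615561 :=
  block_comb c2405 b2406 (Nat.zero_le _) (Nat.le_of_ble_eq_true rfl) rfl

theorem c2407 : Block F al 0 616448 615817 :=
  block_comb c2406 b2407 (Nat.zero_le _) (Nat.le_of_ble_eq_true rfl) rfl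

theorem c2408 : Block F al 0 616704 616073 :=
  block_comb c2407 b2408 (Nat.zero_le _) (Nat.le_of_ble_eq_true rfl) rfl

theorem c2409 : Block F al 0 616960 616329 :=
  block_comb c2408 b2409 (Nat.zero_le _) (Nat.le_of_ble_eq_true rfl) rfl

theorem c2410 : Block F al 0 617216 616585 :=
  block_comb c2409 b2410 (Nat.zero_le _) (Nat.le_of_ble_eq_true rfl) rfl

theorem c2411 : Block F al 0 617472 616841 :=
  block_comb c2410 b2411 (Nat.zero_le _) (Nat.le_of_ble_eq_true rfl) rfl

theorem c2412 : Block F al 0 617728 617097 :=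
  block_comb c2411 b2412 (Nat.zero_le _) (Nat.le_of_ble_eq_true rfl) rfl

theorem c2413 : Block F al 0 617984 617353 :=
  block_comb c2412 b2413 (Nat.zero_le _) (Nat.le_of_ble_eq_true rfl) rfl

theorem c2414 : Block F al 0 618240 617609 :=
  block_comb c2413 b2414 (Nat.zero_le _) (Nat.le_of_ble_eq_true rfl) rfl

theorem c2415 : Block F al 0 618496 617865 :=
  block_comb c2414 b2415 (Nat.zero_le _) (Nat.le_of_ble_eq_true rfl) rfl

theorem c2416 : Block F al 0 618752 618121 :=
  block_comb c2415 b2416 (Nat.zero_le _) (Nat.le_of_ble_eq_true rfl) rfl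

theorem c2417 : Block F al 0 619008 618377 :=
  block_comb c2416 b2417 (Nat.zero_le _) (Nat.le_of_ble_eq_true rfl) rfl

theorem c2418 : Block F al 0 619264 618633 :=
  block_comb c2417 b2418 (Nat.zero_le _) (Nat.le_of_ble_eq_true rfl) rfl

theorem c2419 : Block F al 0 619520 618889 :=
  block_comb c2418 b2419 (Nat.zero_le _) (Nat.le_of_ble_eq_true rfl) rfl

theorem c2420 : Block F al 0 619776 619145 :=
  block_comb c2419 b2420 (Nat.zero_le _) (Nat.le_of_ble_eq_true rfl) rfl

theorem c2421 : Block F al 0 620032 619401 :=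
  block_comb c2420 b2421 (Nat.zero_le _) (Nat.le_of_ble_eq_true rfl) rfl

theorem c2422 : Block F al 0 620288 619657 :=
  block_comb c2421 b2422 (Nat.zero_le _) (Nat.le_of_ble_eq_true rfl) rfl

theorem c2423 : Block F al 0 620544 619913 :=
  block_comb c2422 b2423 (Nat.zero_le _) (Nat.le_of_ble_eq_true rfl) rfl

theorem c2424 : Block F al 0 620800 620169 :=
  block_comb c2423 b2424 (Nat.zero_le _) (Nat.le_of_ble_eq_true rfl) rfl

theorem c2425 : Block F al 0 621056 620425 :=
  block_comb c2424 b2425 (Nat.zero_le _) (Nat.le_of_ble_eq_true rfl) rfl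

theorem c2426 : Block F al 0 621312 620681 :=
  block_comb c2425 b2426 (Nat.zero_le _) (Nat.le_of_ble_eq_true rfl) rfl

theorem c2427 : Block F al 0 621568 620937 :=
  block_comb c2426 b2427 (Nat.zero_le _) (Nat.le_of_ble_eq_true rfl) rfl

theorem c2428 : Block F al 0 621824 621193 :=
  block_comb c2427 b2428 (Nat.zero_le _) (Nat.le_of_ble_eq_true rfl) rfl

theorem c2429 : Block F al 0 622080 621449 :=
  block_comb c2428 b2429 (Nat.zero_le _) (Nat.le_of_ble_eq_true rfl) rfl

theorem c2430 : Block F al 0 622336 621705 :=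
  block_comb c2429 b2430 (Nat.zero_le _) (Nat.le_of_ble_eq_true rfl) rfl

theorem c2431 : Block F al 0 622592 621961 :=
  block_comb c2430 b2431 (Nat.zero_le _) (Nat.le_of_ble_eq_true rfl) rfl

theorem c2432 : Block F al 0 622848 622217 :=
  block_comb c2431 b2432 (Nat.zero_le _) (Nat.le_of_ble_eq_true rfl) rfl

theorem c2433 : Block F al 0 623104 622473 :=
  block_comb c2432 b2433 (Nat.zero_le _) (Nat.le_of_ble_eq_true rfl) rfl

theorem c2434 : Block F al 0 623360 622729 :=
  block_comb c2433 b2434 (Nat.zero_le _) (Nat.le_of_ble_eq_true rfl) rfl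

theorem c2435 : Block F al 0 623616 622985 :=
  block_comb c2434 b2435 (Nat.zero_le _) (Nat.le_of_ble_eq_true rfl) rfl

theorem c2436 : Block F al 0 623872 623241 :=
  block_comb c2435 b2436 (Nat.zero_le _) (Nat.le_of_ble_eq_true rfl) rfl

theorem c2437 : Block F al 0 624128 623497 :=
  block_comb c2436 b2437 (Nat.zero_le _) (Nat.le_of_ble_eq_true rfl) rfl

theorem c2438 : Block F al 0 624384 623753 :=
  block_comb c2437 b2438 (Nat.zero_le _) (Nat.le_of_ble_eq_true rfl) rfl

theorem c2439 : Block F al 0 624640 624009 :=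
  block_comb c2438 b2439 (Nat.zero_le _) (Nat.le_of_ble_eq_true rfl) rfl

theorem c2440 : Block F al 0 624896 624265 :=
  block_comb c2439 b2440 (Nat.zero_le _) (Nat.le_of_ble_eq_true rfl) rfl

theorem c2441 : Block F al 0 625152 624521 :=
  block_comb c2440 b2441 (Nat.zero_le _) (Nat.le_of_ble_eq_true rfl) rfl

theorem c2442 : Block F al 0 625408 624777 :=
  block_comb c2441 b2442 (Nat.zero_le _) (Nat.le_of_ble_eq_true rfl) rfl

theorem c2443 : Block F al 0 625664 625033 :=
  block_comb c2442 b2443 (Nat.zero_le _) (Nat.le_of_ble_eq_true rfl) rfl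

theorem c2444 : Block F al 0 625920 625289 :=
  block_comb c2443 b2444 (Nat.zero_le _) (Nat.le_of_ble_eq_true rfl) rfl

theorem c2445 : Block F al 0 626176 625545 :=
  block_comb c2444 b2445 (Nat.zero_le _) (Nat.le_of_ble_eq_true rfl) rfl

theorem c2446 : Block F al 0 626432 625801 :=
  block_comb c2445 b2446 (Nat.zero_le _) (Nat.le_of_ble_eq_true rfl) rfl

theorem c2447 : Block F al 0 626688 626057 :=
  block_comb c2446 b2447 (Nat.zero_le _) (Nat.le_of_ble_eq_true rfl) rfl

theorem c2448 : Block F al 0 626944 626313 :=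
  block_comb c2447 b2448 (Nat.zero_le _) (Nat.le_of_ble_eq_true rfl) rfl

theorem c2449 : Block F al 0 627200 626569 :=
  block_comb c2448 b2449 (Nat.zero_le _) (Nat.le_of_ble_eq_true rfl) rfl

theorem c2450 : Block F al 0 627456 626825 :=
  block_comb c2449 b2450 (Nat.zero_le _) (Nat.le_of_ble_eq_true rfl) rfl

theorem c2451 : Block F al 0 627712 627081 :=
  block_comb c2450 b2451 (Nat.zero_le _) (Nat.le_of_ble_eq_true rfl) rfl

theorem c2452 : Block F al 0 627968 627337 :=
  block_comb c2451 b2452 (Nat.zero_le _) (Nat.le_of_ble_eq_true rfl) rfl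

theorem c2453 : Block F al 0 628224 627593 :=
  block_comb c2452 b2453 (Nat.zero_le _) (Nat.le_of_ble_eq_true rfl) rfl

theorem c2454 : Block F al 0 628480 627849 :=
  block_comb c2453 b2454 (Nat.zero_le _) (Nat.le_of_ble_eq_true rfl) rfl

theorem c2455 : Block F al 0 628736 628105 :=
  block_comb c2454 b2455 (Nat.zero_le _) (Nat.le_of_ble_eq_true rfl) rfl

theorem c2456 : Block F al 0 628992 628361 :=
  block_comb c2455 b2456 (Nat.zero_le _) (Nat.le_of_ble_eq_true rfl) rfl

theorem c2457 : Block F al 0 629248 628617 :=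
  block_comb c2456 b2457 (Nat.zero_le _) (Nat.le_of_ble_eq_true rfl) rfl

theorem c2458 : Block F al 0 629504 628873 :=
  block_comb c2457 b2458 (Nat.zero_le _) (Nat.le_of_ble_eq_true rfl) rfl

theorem c2459 : Block F al 0 629760 629129 :=
  block_comb c2458 b2459 (Nat.zero_le _) (Nat.le_of_ble_eq_true rfl) rfl

theorem c2460 : Block F al 0 630016 629385 :=
  block_comb c2459 b2460 (Nat.zero_le _) (Nat.le_of_ble_eq_true rfl) rfl

theorem c2461 : Block F al 0 630272 629641 :=
  block_comb c2460 b2461 (Nat.zero_le _) (Nat.le_of_ble_eq_true rfl) rfl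

theorem c2462 : Block F al 0 630528 629897 :=
  block_comb c2461 b2462 (Nat.zero_le _) (Nat.le_of_ble_eq_true rfl) rfl

theorem c2463 : Block F al 0 630784 630153 :=
  block_comb c2462 b2463 (Nat.zero_le _) (Nat.le_of_ble_eq_true rfl) rfl

theorem c2464 : Block F al 0 631040 630409 :=
  block_comb c2463 b2464 (Nat.zero_le _) (Nat.le_of_ble_eq_true rfl) rfl

theorem c2465 : Block F al 0 631296 630665 :=
  block_comb c2464 b2465 (Nat.zero_le _) (Nat.le_of_ble_eq_true rfl) rfl

theorem c2466 : Block F al 0 631552 630921 :=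
  block_comb c2465 b2466 (Nat.zero_le _) (Nat.le_of_ble_eq_true rfl) rfl

theorem c2467 : Block F al 0 631808 631177 :=
  block_comb c2466 b2467 (Nat.zero_le _) (Nat.le_of_ble_eq_true rfl) rfl

theorem c2468 : Block F al 0 632064 631433 :=
  block_comb c2467 b2468 (Nat.zero_le _) (Nat.le_of_ble_eq_true rfl) rfl

theorem c2469 : Block F al 0 632320 631689 :=
  block_comb c2468 b2469 (Nat.zero_le _) (Nat.le_of_ble_eq_true rfl) rfl

theorem c2470 : Block F al 0 632576 631945 :=
  block_comb c2469 b2470 (Nat.zero_le _) (Nat.le_of_ble_eq_true rfl) rfl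

theorem c2471 : Block F al 0 632832 632201 :=
  block_comb c2470 b2471 (Nat.zero_le _) (Nat.le_of_ble_eq_true rfl) rfl

theorem c2472 : Block F al 0 633088 632457 :=
  block_comb c2471 b2472 (Nat.zero_le _) (Nat.le_of_ble_eq_true rfl) rfl

theorem c2473 : Block F al 0 633344 632713 :=
  block_comb c2472 b2473 (Nat.zero_le _) (Nat.le_of_ble_eq_true rfl) rfl

theorem c2474 : Block F al 0 633600 632969 :=
  block_comb c2473 b2474 (Nat.zero_le _) (Nat.le_of_ble_eq_true rfl) rfl

theorem c2475 : Block F al 0 633856 633225 :=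
  block_comb c2474 b2475 (Nat.zero_le _) (Nat.le_of_ble_eq_true rfl) rfl

theorem c2476 : Block F al 0 634112 633481 :=
  block_comb c2475 b2476 (Nat.zero_le _) (Nat.le_of_ble_eq_true rfl) rfl

theorem c2477 : Block F al 0 634368 633737 :=
  block_comb c2476 b2477 (Nat.zero_le _) (Nat.le_of_ble_eq_true rfl) rfl

theorem c2478 : Block F al 0 634624 633993 :=
  block_comb c2477 b2478 (Nat.zero_le _) (Nat.le_of_ble_eq_true rfl) rfl

theorem c2479 : Block F al 0 634880 634249 :=
  block_comb c2478 b2479 (Nat.zero_le _) (Nat.le_of_ble_eq_true rfl) rfl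

theorem c2480 : Block F al 0 635136 634505 :=
  block_comb c2479 b2480 (Nat.zero_le _) (Nat.le_of_ble_eq_true rfl) rfl

theorem c2481 : Block F al 0 635392 634761 :=
  block_comb c2480 b2481 (Nat.zero_le _) (Nat.le_of_ble_eq_true rfl) rfl

theorem c2482 : Block F al 0 635648 635017 :=
  block_comb c2481 b2482 (Nat.zero_le _) (Nat.le_of_ble_eq_true rfl) rfl

theorem c2483 : Block F al 0 635904 635273 :=
  block_comb c2482 b2483 (Nat.zero_le _) (Nat.le_of_ble_eq_true rfl) rfl

theorem c2484 : Block F al 0 636160 635529 :=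
  block_comb c2483 b2484 (Nat.zero_le _) (Nat.le_of_ble_eq_true rfl) rfl

theorem c2485 : Block F al 0 636416 635785 :=
  block_comb c2484 b2485 (Nat.zero_le _) (Nat.le_of_ble_eq_true rfl) rfl

theorem c2486 : Block F al 0 636672 636041 :=
  block_comb c2485 b2486 (Nat.zero_le _) (Nat.le_of_ble_eq_true rfl) rfl

theorem c2487 : Block F al 0 636928 636297 :=
  block_comb c2486 b2487 (Nat.zero_le _) (Nat.le_of_ble_eq_true rfl) rfl

theorem c2488 : Block F al 0 637184 636553 :=
  block_comb c2487 b2488 (Nat.zero_le _) (Nat.le_of_ble_eq_true rfl) rfl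

theorem c2489 : Block F al 0 637440 636809 :=
  block_comb c2488 b2489 (Nat.zero_le _) (Nat.le_of_ble_eq_true rfl) rfl

theorem c2490 : Block F al 0 637696 637065 :=
  block_comb c2489 b2490 (Nat.zero_le _) (Nat.le_of_ble_eq_true rfl) rfl

theorem c2491 : Block F al 0 637952 637321 :=
  block_comb c2490 b2491 (Nat.zero_le _) (Nat.le_of_ble_eq_true rfl) rfl

theorem c2492 : Block F al 0 638208 637577 :=
  block_comb c2491 b2492 (Nat.zero_le _) (Nat.le_of_ble_eq_true rfl) rfl

theorem c2493 : Block F al 0 638464 637833 :=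
  block_comb c2492 b2493 (Nat.zero_le _) (Nat.le_of_ble_eq_true rfl) rfl

theorem c2494 : Block F al 0 638720 638089 :=
  block_comb c2493 b2494 (Nat.zero_le _) (Nat.le_of_ble_eq_true rfl) rfl

theorem c2495 : Block F al 0 638976 638345 :=
  block_comb c2494 b2495 (Nat.zero_le _) (Nat.le_of_ble_eq_true rfl) rfl

theorem c2496 : Block F al 0 639232 638601 :=
  block_comb c2495 b2496 (Nat.zero_le _) (Nat.le_of_ble_eq_true rfl) rfl

theorem c2497 : Block F al 0 639488 638857 :=
  block_comb c2496 b2497 (Nat.zero_le _) (Nat.le_of_ble_eq_true rfl) rfl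

theorem c2498 : Block F al 0 639744 639113 :=
  block_comb c2497 b2498 (Nat.zero_le _) (Nat.le_of_ble_eq_true rfl) rfl

theorem c2499 : Block F al 0 640000 639369 :=
  block_comb c2498 b2499 (Nat.zero_le _) (Nat.le_of_ble_eq_true rfl) rfl

theorem c2500 : Block F al 0 640256 639625 :=
  block_comb c2499 b2500 (Nat.zero_le _) (Nat.le_of_ble_eq_true rfl) rfl

theorem c2501 : Block F al 0 640512 639881 :=
  block_comb c2500 b2501 (Nat.zero_le _) (Nat.le_of_ble_eq_true rfl) rfl

theorem c2502 : Block F al 0 640768 640137 :=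
  block_comb c2501 b2502 (Nat.zero_le _) (Nat.le_of_ble_eq_true rfl) rfl

theorem c2503 : Block F al 0 641024 640393 :=
  block_comb c2502 b2503 (Nat.zero_le _) (Nat.le_of_ble_eq_true rfl) rfl

theorem c2504 : Block F al 0 641280 640649 :=
  block_comb c2503 b2504 (Nat.zero_le _) (Nat.le_of_ble_eq_true rfl) rfl

theorem c2505 : Block F al 0 641536 640905 :=
  block_comb c2504 b2505 (Nat.zero_le _) (Nat.le_of_ble_eq_true rfl) rfl

theorem c2506 : Block F al 0 641792 641161 :=
  block_comb c2505 b2506 (Nat.zero_le _) (Nat.le_of_ble_eq_true rfl) rfl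

theorem c2507 : Block F al 0 642048 641417 :=
  block_comb c2506 b2507 (Nat.zero_le _) (Nat.le_of_ble_eq_true rfl) rfl

theorem c2508 : Block F al 0 642304 641673 :=
  block_comb c2507 b2508 (Nat.zero_le _) (Nat.le_of_ble_eq_true rfl) rfl

theorem c2509 : Block F al 0 642560 641929 :=
  block_comb c2508 b2509 (Nat.zero_le _) (Nat.le_of_ble_eq_true rfl) rfl

theorem c2510 : Block F al 0 642816 642185 :=
  block_comb c2509 b2510 (Nat.zero_le _) (Nat.le_of_ble_eq_true rfl) rfl

theorem c2511 : Block F al 0 643072 642441 :=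
  block_comb c2510 b2511 (Nat.zero_le _) (Nat.le_of_ble_eq_true rfl) rfl

theorem c2512 : Block F al 0 643328 642697 :=
  block_comb c2511 b2512 (Nat.zero_le _) (Nat.le_of_ble_eq_true rfl) rfl

theorem c2513 : Block F al 0 643584 642953 :=
  block_comb c2512 b2513 (Nat.zero_le _) (Nat.le_of_ble_eq_true rfl) rfl

theorem c2514 : Block F al 0 643840 643209 :=
  block_comb c2513 b2514 (Nat.zero_le _) (Nat.le_of_ble_eq_true rfl) rfl

theorem c2515 : Block F al 0 644096 643465 :=
  block_comb c2514 b2515 (Nat.zero_le _) (Nat.le_of_ble_eq_true rfl) rfl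

theorem c2516 : Block F al 0 644352 643721 :=
  block_comb c2515 b2516 (Nat.zero_le _) (Nat.le_of_ble_eq_true rfl) rfl

theorem c2517 : Block F al 0 644608 643977 :=
  block_comb c2516 b2517 (Nat.zero_le _) (Nat.le_of_ble_eq_true rfl) rfl

theorem c2518 : Block F al 0 644864 644233 :=
  block_comb c2517 b2518 (Nat.zero_le _) (Nat.le_of_ble_eq_true rfl) rfl

theorem c2519 : Block F al 0 645120 644489 :=
  block_comb c2518 b2519 (Nat.zero_le _) (Nat.le_of_ble_eq_true rfl) rfl

theorem c2520 : Block F al 0 645376 644745 :=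
  block_comb c2519 b2520 (Nat.zero_le _) (Nat.le_of_ble_eq_true rfl) rfl

theorem c2521 : Block F al 0 645632 645001 :=
  block_comb c2520 b2521 (Nat.zero_le _) (Nat.le_of_ble_eq_true rfl) rfl

theorem c2522 : Block F al 0 645888 645257 :=
  block_comb c2521 b2522 (Nat.zero_le _) (Nat.le_of_ble_eq_true rfl) rfl

theorem c2523 : Block F al 0 646144 645513 :=
  block_comb c2522 b2523 (Nat.zero_le _) (Nat.le_of_ble_eq_true rfl) rfl

theorem c2524 : Block F al 0 646400 645769 :=
  block_comb c2523 b2524 (Nat.zero_le _) (Nat.le_of_ble_eq_true rfl) rfl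

theorem c2525 : Block F al 0 646656 646025 :=
  block_comb c2524 b2525 (Nat.zero_le _) (Nat.le_of_ble_eq_true rfl) rfl

theorem c2526 : Block F al 0 646912 646281 :=
  block_comb c2525 b2526 (Nat.zero_le _) (Nat.le_of_ble_eq_true rfl) rfl

theorem c2527 : Block F al 0 647168 646537 :=
  block_comb c2526 b2527 (Nat.zero_le _) (Nat.le_of_ble_eq_true rfl) rfl

theorem c2528 : Block F al 0 647424 646793 :=
  block_comb c2527 b2528 (Nat.zero_le _) (Nat.le_of_ble_eq_true rfl) rfl

theorem c2529 : Block F al 0 647680 647049 :=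
  block_comb c2528 b2529 (Nat.zero_le _) (Nat.le_of_ble_eq_true rfl) rfl

theorem c2530 : Block F al 0 647936 647305 :=
  block_comb c2529 b2530 (Nat.zero_le _) (Nat.le_of_ble_eq_true rfl) rfl

theorem c2531 : Block F al 0 648192 647561 :=
  block_comb c2530 b2531 (Nat.zero_le _) (Nat.le_of_ble_eq_true rfl) rfl

theorem c2532 : Block F al 0 648448 647817 :=
  block_comb c2531 b2532 (Nat.zero_le _) (Nat.le_of_ble_eq_true rfl) rfl

theorem c2533 : Block F al 0 648704 648073 :=
  block_comb c2532 b2533 (Nat.zero_le _) (Nat.le_of_ble_eq_true rfl) rfl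

theorem c2534 : Block F al 0 648960 648329 :=
  block_comb c2533 b2534 (Nat.zero_le _) (Nat.le_of_ble_eq_true rfl) rfl

theorem c2535 : Block F al 0 649216 648585 :=
  block_comb c2534 b2535 (Nat.zero_le _) (Nat.le_of_ble_eq_true rfl) rfl

theorem c2536 : Block F al 0 649472 648841 :=
  block_comb c2535 b2536 (Nat.zero_le _) (Nat.le_of_ble_eq_true rfl) rfl

theorem c2537 : Block F al 0 649728 649097 :=
  block_comb c2536 b2537 (Nat.zero_le _) (Nat.le_of_ble_eq_true rfl) rfl

theorem c2538 : Block F al 0 649984 649353 :=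
  block_comb c2537 b2538 (Nat.zero_le _) (Nat.le_of_ble_eq_true rfl) rfl

theorem c2539 : Block F al 0 650240 649609 :=
  block_comb c2538 b2539 (Nat.zero_le _) (Nat.le_of_ble_eq_true rfl) rfl

theorem c2540 : Block F al 0 650496 649865 :=
  block_comb c2539 b2540 (Nat.zero_le _) (Nat.le_of_ble_eq_true rfl) rfl

theorem c2541 : Block F al 0 650752 650121 :=
  block_comb c2540 b2541 (Nat.zero_le _) (Nat.le_of_ble_eq_true rfl) rfl

theorem c2542 : Block F al 0 651008 650377 :=
  block_comb c2541 b2542 (Nat.zero_le _) (Nat.le_of_ble_eq_true rfl) rfl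

theorem c2543 : Block F al 0 651264 650633 :=
  block_comb c2542 b2543 (Nat.zero_le _) (Nat.le_of_ble_eq_true rfl) rfl

theorem c2544 : Block F al 0 651520 650889 :=
  block_comb c2543 b2544 (Nat.zero_le _) (Nat.le_of_ble_eq_true rfl) rfl

theorem c2545 : Block F al 0 651776 651145 :=
  block_comb c2544 b2545 (Nat.zero_le _) (Nat.le_of_ble_eq_true rfl) rfl

theorem c2546 : Block F al 0 652032 651401 :=
  block_comb c2545 b2546 (Nat.zero_le _) (Nat.le_of_ble_eq_true rfl) rfl

theorem c2547 : Block F al 0 652288 651657 :=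
  block_comb c2546 b2547 (Nat.zero_le _) (Nat.le_of_ble_eq_true rfl) rfl

theorem c2548 : Block F al 0 652544 651913 :=
  block_comb c2547 b2548 (Nat.zero_le _) (Nat.le_of_ble_eq_true rfl) rfl

theorem c2549 : Block F al 0 652800 652169 :=
  block_comb c2548 b2549 (Nat.zero_le _) (Nat.le_of_ble_eq_true rfl) rfl

theorem c2550 : Block F al 0 653056 652425 :=
  block_comb c2549 b2550 (Nat.zero_le _) (Nat.le_of_ble_eq_true rfl) rfl

theorem c2551 : Block F al 0 653312 652681 :=
  block_comb c2550 b2551 (Nat.zero_le _) (Nat.le_of_ble_eq_true rfl) rfl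

theorem c2552 : Block F al 0 653568 652937 :=
  block_comb c2551 b2552 (Nat.zero_le _) (Nat.le_of_ble_eq_true rfl) rfl

theorem c2553 : Block F al 0 653824 653193 :=
  block_comb c2552 b2553 (Nat.zero_le _) (Nat.le_of_ble_eq_true rfl) rfl

theorem c2554 : Block F al 0 654080 653449 :=
  block_comb c2553 b2554 (Nat.zero_le _) (Nat.le_of_ble_eq_true rfl) rfl

theorem c2555 : Block F al 0 654336 653705 :=
  block_comb c2554 b2555 (Nat.zero_le _) (Nat.le_of_ble_eq_true rfl) rfl

theorem c2556 : Block F al 0 654592 653961 :=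
  block_comb c2555 b2556 (Nat.zero_le _) (Nat.le_of_ble_eq_true rfl) rfl

theorem c2557 : Block F al 0 654848 654217 :=
  block_comb c2556 b2557 (Nat.zero_le _) (Nat.le_of_ble_eq_true rfl) rfl

theorem c2558 : Block F al 0 655104 654473 :=
  block_comb c2557 b2558 (Nat.zero_le _) (Nat.le_of_ble_eq_true rfl) rfl

theorem c2559 : Block F al 0 655360 654729 :=
  block_comb c2558 b2559 (Nat.zero_le _) (Nat.le_of_ble_eq_true rfl) rfl

theorem c2560 : Block F al 0 655616 654985 :=
  block_comb c2559 b2560 (Nat.zero_le _) (Nat.le_of_ble_eq_true rfl) rfl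

theorem c2561 : Block F al 0 655872 655241 :=
  block_comb c2560 b2561 (Nat.zero_le _) (Nat.le_of_ble_eq_true rfl) rfl

theorem c2562 : Block F al 0 656128 655497 :=
  block_comb c2561 b2562 (Nat.zero_le _) (Nat.le_of_ble_eq_true rfl) rfl

theorem c2563 : Block F al 0 656384 655753 :=
  block_comb c2562 b2563 (Nat.zero_le _) (Nat.le_of_ble_eq_true rfl) rfl

theorem c2564 : Block F al 0 656640 656009 :=
  block_comb c2563 b2564 (Nat.zero_le _) (Nat.le_of_ble_eq_true rfl) rfl

theorem c2565 : Block F al 0 656896 656265 :=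
  block_comb c2564 b2565 (Nat.zero_le _) (Nat.le_of_ble_eq_true rfl) rfl

theorem c2566 : Block F al 0 657152 656521 :=
  block_comb c2565 b2566 (Nat.zero_le _) (Nat.le_of_ble_eq_true rfl) rfl

theorem c2567 : Block F al 0 657408 656777 :=
  block_comb c2566 b2567 (Nat.zero_le _) (Nat.le_of_ble_eq_true rfl) rfl

theorem c2568 : Block F al 0 657664 657033 :=
  block_comb c2567 b2568 (Nat.zero_le _) (Nat.le_of_ble_eq_true rfl) rfl

theorem c2569 : Block F al 0 657920 657289 :=
  block_comb c2568 b2569 (Nat.zero_le _) (Nat.le_of_ble_eq_true rfl) rfl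

theorem c2570 : Block F al 0 658176 657545 :=
  block_comb c2569 b2570 (Nat.zero_le _) (Nat.le_of_ble_eq_true rfl) rfl

theorem c2571 : Block F al 0 658432 657801 :=
  block_comb c2570 b2571 (Nat.zero_le _) (Nat.le_of_ble_eq_true rfl) rfl

theorem c2572 : Block F al 0 658688 658057 :=
  block_comb c2571 b2572 (Nat.zero_le _) (Nat.le_of_ble_eq_true rfl) rfl

theorem c2573 : Block F al 0 658944 658313 :=
  block_comb c2572 b2573 (Nat.zero_le _) (Nat.le_of_ble_eq_true rfl) rfl

theorem c2574 : Block F al 0 659200 658569 :=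
  block_comb c2573 b2574 (Nat.zero_le _) (Nat.le_of_ble_eq_true rfl) rfl

theorem c2575 : Block F al 0 659456 658825 :=
  block_comb c2574 b2575 (Nat.zero_le _) (Nat.le_of_ble_eq_true rfl) rfl

theorem c2576 : Block F al 0 659712 659081 :=
  block_comb c2575 b2576 (Nat.zero_le _) (Nat.le_of_ble_eq_true rfl) rfl

theorem c2577 : Block F al 0 659968 659337 :=
  block_comb c2576 b2577 (Nat.zero_le _) (Nat.le_of_ble_eq_true rfl) rfl

theorem c2578 : Block F al 0 660224 659593 :=
  block_comb c2577 b2578 (Nat.zero_le _) (Nat.le_of_ble_eq_true rfl) rfl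

theorem c2579 : Block F al 0 660480 659849 :=
  block_comb c2578 b2579 (Nat.zero_le _) (Nat.le_of_ble_eq_true rfl) rfl

theorem c2580 : Block F al 0 660736 660105 :=
  block_comb c2579 b2580 (Nat.zero_le _) (Nat.le_of_ble_eq_true rfl) rfl

theorem c2581 : Block F al 0 660992 660361 :=
  block_comb c2580 b2581 (Nat.zero_le _) (Nat.le_of_ble_eq_true rfl) rfl

theorem c2582 : Block F al 0 661248 660617 :=
  block_comb c2581 b2582 (Nat.zero_le _) (Nat.le_of_ble_eq_true rfl) rfl

theorem c2583 : Block F al 0 661504 660873 :=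
  block_comb c2582 b2583 (Nat.zero_le _) (Nat.le_of_ble_eq_true rfl) rfl

theorem c2584 : Block F al 0 661760 661129 :=
  block_comb c2583 b2584 (Nat.zero_le _) (Nat.le_of_ble_eq_true rfl) rfl

theorem c2585 : Block F al 0 662016 661385 :=
  block_comb c2584 b2585 (Nat.zero_le _) (Nat.le_of_ble_eq_true rfl) rfl

theorem c2586 : Block F al 0 662272 661641 :=
  block_comb c2585 b2586 (Nat.zero_le _) (Nat.le_of_ble_eq_true rfl) rfl

theorem c2587 : Block F al 0 662528 661897 :=
  block_comb c2586 b2587 (Nat.zero_le _) (Nat.le_of_ble_eq_true rfl) rfl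

theorem c2588 : Block F al 0 662784 662153 :=
  block_comb c2587 b2588 (Nat.zero_le _) (Nat.le_of_ble_eq_true rfl) rfl

theorem c2589 : Block F al 0 663040 662409 :=
  block_comb c2588 b2589 (Nat.zero_le _) (Nat.le_of_ble_eq_true rfl) rfl

theorem c2590 : Block F al 0 663296 662665 :=
  block_comb c2589 b2590 (Nat.zero_le _) (Nat.le_of_ble_eq_true rfl) rfl

theorem c2591 : Block F al 0 663552 662921 :=
  block_comb c2590 b2591 (Nat.zero_le _) (Nat.le_of_ble_eq_true rfl) rfl

theorem c2592 : Block F al 0 663808 663177 :=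
  block_comb c2591 b2592 (Nat.zero_le _) (Nat.le_of_ble_eq_true rfl) rfl

theorem c2593 : Block F al 0 664064 663433 :=
  block_comb c2592 b2593 (Nat.zero_le _) (Nat.le_of_ble_eq_true rfl) rfl

theorem c2594 : Block F al 0 664320 663689 :=
  block_comb c2593 b2594 (Nat.zero_le _) (Nat.le_of_ble_eq_true rfl) rfl

theorem c2595 : Block F al 0 664576 663945 :=
  block_comb c2594 b2595 (Nat.zero_le _) (Nat.le_of_ble_eq_true rfl) rfl

theorem c2596 : Block F al 0 664832 664201 :=
  block_comb c2595 b2596 (Nat.zero_le _) (Nat.le_of_ble_eq_true rfl) rfl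

theorem c2597 : Block F al 0 665088 664457 :=
  block_comb c2596 b2597 (Nat.zero_le _) (Nat.le_of_ble_eq_true rfl) rfl

theorem c2598 : Block F al 0 665344 664713 :=
  block_comb c2597 b2598 (Nat.zero_le _) (Nat.le_of_ble_eq_true rfl) rfl

theorem c2599 : Block F al 0 665600 664969 :=
  block_comb c2598 b2599 (Nat.zero_le _) (Nat.le_of_ble_eq_true rfl) rfl

theorem c2600 : Block F al 0 665856 665225 :=
  block_comb c2599 b2600 (Nat.zero_le _) (Nat.le_of_ble_eq_true rfl) rfl

theorem c2601 : Block F al 0 666112 665481 :=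
  block_comb c2600 b2601 (Nat.zero_le _) (Nat.le_of_ble_eq_true rfl) rfl

theorem c2602 : Block F al 0 666368 665737 :=
  block_comb c2601 b2602 (Nat.zero_le _) (Nat.le_of_ble_eq_true rfl) rfl

theorem c2603 : Block F al 0 666624 665993 :=
  block_comb c2602 b2603 (Nat.zero_le _) (Nat.le_of_ble_eq_true rfl) rfl

theorem c2604 : Block F al 0 666880 666249 :=
  block_comb c2603 b2604 (Nat.zero_le _) (Nat.le_of_ble_eq_true rfl) rfl

theorem c2605 : Block F al 0 667136 666505 :=
  block_comb c2604 b2605 (Nat.zero_le _) (Nat.le_of_ble_eq_true rfl) rfl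

theorem c2606 : Block F al 0 667392 666761 :=
  block_comb c2605 b2606 (Nat.zero_le _) (Nat.le_of_ble_eq_true rfl) rfl

theorem c2607 : Block F al 0 667648 667017 :=
  block_comb c2606 b2607 (Nat.zero_le _) (Nat.le_of_ble_eq_true rfl) rfl

theorem c2608 : Block F al 0 667904 667273 :=
  block_comb c2607 b2608 (Nat.zero_le _) (Nat.le_of_ble_eq_true rfl) rfl

theorem c2609 : Block F al 0 668160 667529 :=
  block_comb c2608 b2609 (Nat.zero_le _) (Nat.le_of_ble_eq_true rfl) rfl

theorem c2610 : Block F al 0 668416 667785 :=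
  block_comb c2609 b2610 (Nat.zero_le _) (Nat.le_of_ble_eq_true rfl) rfl

theorem c2611 : Block F al 0 668672 668041 :=
  block_comb c2610 b2611 (Nat.zero_le _) (Nat.le_of_ble_eq_true rfl) rfl

theorem c2612 : Block F al 0 668928 668297 :=
  block_comb c2611 b2612 (Nat.zero_le _) (Nat.le_of_ble_eq_true rfl) rfl

theorem c2613 : Block F al 0 669184 668553 :=
  block_comb c2612 b2613 (Nat.zero_le _) (Nat.le_of_ble_eq_true rfl) rfl

theorem c2614 : Block F al 0 669440 668809 :=
  block_comb c2613 b2614 (Nat.zero_le _) (Nat.le_of_ble_eq_true rfl) rfl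

theorem c2615 : Block F al 0 669696 669065 :=
  block_comb c2614 b2615 (Nat.zero_le _) (Nat.le_of_ble_eq_true rfl) rfl

theorem c2616 : Block F al 0 669952 669321 :=
  block_comb c2615 b2616 (Nat.zero_le _) (Nat.le_of_ble_eq_true rfl) rfl

theorem c2617 : Block F al 0 670208 669577 :=
  block_comb c2616 b2617 (Nat.zero_le _) (Nat.le_of_ble_eq_true rfl) rfl

theorem c2618 : Block F al 0 670464 669833 :=
  block_comb c2617 b2618 (Nat.zero_le _) (Nat.le_of_ble_eq_true rfl) rfl

theorem c2619 : Block F al 0 670720 670089 :=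
  block_comb c2618 b2619 (Nat.zero_le _) (Nat.le_of_ble_eq_true rfl) rfl

theorem c2620 : Block F al 0 670976 670345 :=
  block_comb c2619 b2620 (Nat.zero_le _) (Nat.le_of_ble_eq_true rfl) rfl

theorem c2621 : Block F al 0 671232 670601 :=
  block_comb c2620 b2621 (Nat.zero_le _) (Nat.le_of_ble_eq_true rfl) rfl

theorem c2622 : Block F al 0 671488 670857 :=
  block_comb c2621 b2622 (Nat.zero_le _) (Nat.le_of_ble_eq_true rfl) rfl

theorem c2623 : Block F al 0 671744 671113 :=
  block_comb c2622 b2623 (Nat.zero_le _) (Nat.le_of_ble_eq_true rfl) rfl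

theorem c2624 : Block F al 0 672000 671369 :=
  block_comb c2623 b2624 (Nat.zero_le _) (Nat.le_of_ble_eq_true rfl) rfl

theorem c2625 : Block F al 0 672256 671625 :=
  block_comb c2624 b2625 (Nat.zero_le _) (Nat.le_of_ble_eq_true rfl) rfl

theorem c2626 : Block F al 0 672512 671881 :=
  block_comb c2625 b2626 (Nat.zero_le _) (Nat.le_of_ble_eq_true rfl) rfl

theorem c2627 : Block F al 0 672768 672137 :=
  block_comb c2626 b2627 (Nat.zero_le _) (Nat.le_of_ble_eq_true rfl) rfl

theorem c2628 : Block F al 0 673024 672393 :=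
  block_comb c2627 b2628 (Nat.zero_le _) (Nat.le_of_ble_eq_true rfl) rfl

theorem c2629 : Block F al 0 673280 672649 :=
  block_comb c2628 b2629 (Nat.zero_le _) (Nat.le_of_ble_eq_true rfl) rfl

theorem c2630 : Block F al 0 673536 672905 :=
  block_comb c2629 b2630 (Nat.zero_le _) (Nat.le_of_ble_eq_true rfl) rfl

theorem c2631 : Block F al 0 673792 673161 :=
  block_comb c2630 b2631 (Nat.zero_le _) (Nat.le_of_ble_eq_true rfl) rfl

theorem c2632 : Block F al 0 674048 673417 :=
  block_comb c2631 b2632 (Nat.zero_le _) (Nat.le_of_ble_eq_true rfl) rfl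

theorem c2633 : Block F al 0 674304 673673 :=
  block_comb c2632 b2633 (Nat.zero_le _) (Nat.le_of_ble_eq_true rfl) rfl

theorem c2634 : Block F al 0 674560 673929 :=
  block_comb c2633 b2634 (Nat.zero_le _) (Nat.le_of_ble_eq_true rfl) rfl

theorem c2635 : Block F al 0 674816 674185 :=
  block_comb c2634 b2635 (Nat.zero_le _) (Nat.le_of_ble_eq_true rfl) rfl

theorem c2636 : Block F al 0 675072 674441 :=
  block_comb c2635 b2636 (Nat.zero_le _) (Nat.le_of_ble_eq_true rfl) rfl

theorem c2637 : Block F al 0 675328 674697 :=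
  block_comb c2636 b2637 (Nat.zero_le _) (Nat.le_of_ble_eq_true rfl) rfl

theorem c2638 : Block F al 0 675584 674953 :=
  block_comb c2637 b2638 (Nat.zero_le _) (Nat.le_of_ble_eq_true rfl) rfl

theorem c2639 : Block F al 0 675840 675209 :=
  block_comb c2638 b2639 (Nat.zero_le _) (Nat.le_of_ble_eq_true rfl) rfl

theorem c2640 : Block F al 0 676096 675465 :=
  block_comb c2639 b2640 (Nat.zero_le _) (Nat.le_of_ble_eq_true rfl) rfl

theorem c2641 : Block F al 0 676352 675721 :=
  block_comb c2640 b2641 (Nat.zero_le _) (Nat.le_of_ble_eq_true rfl) rfl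

theorem c2642 : Block F al 0 676608 675977 :=
  block_comb c2641 b2642 (Nat.zero_le _) (Nat.le_of_ble_eq_true rfl) rfl

theorem c2643 : Block F al 0 676864 676233 :=
  block_comb c2642 b2643 (Nat.zero_le _) (Nat.le_of_ble_eq_true rfl) rfl

theorem c2644 : Block F al 0 677120 676489 :=
  block_comb c2643 b2644 (Nat.zero_le _) (Nat.le_of_ble_eq_true rfl) rfl

theorem c2645 : Block F al 0 677376 676745 :=
  block_comb c2644 b2645 (Nat.zero_le _) (Nat.le_of_ble_eq_true rfl) rfl

theorem c2646 : Block F al 0 677632 677001 :=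
  block_comb c2645 b2646 (Nat.zero_le _) (Nat.le_of_ble_eq_true rfl) rfl

theorem c2647 : Block F al 0 677888 677257 :=
  block_comb c2646 b2647 (Nat.zero_le _) (Nat.le_of_ble_eq_true rfl) rfl

theorem c2648 : Block F al 0 678144 677513 :=
  block_comb c2647 b2648 (Nat.zero_le _) (Nat.le_of_ble_eq_true rfl) rfl

theorem c2649 : Block F al 0 678400 677769 :=
  block_comb c2648 b2649 (Nat.zero_le _) (Nat.le_of_ble_eq_true rfl) rfl

theorem c2650 : Block F al 0 678656 678025 :=
  block_comb c2649 b2650 (Nat.zero_le _) (Nat.le_of_ble_eq_true rfl) rfl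

theorem c2651 : Block F al 0 678912 678281 :=
  block_comb c2650 b2651 (Nat.zero_le _) (Nat.le_of_ble_eq_true rfl) rfl

theorem c2652 : Block F al 0 679168 678537 :=
  block_comb c2651 b2652 (Nat.zero_le _) (Nat.le_of_ble_eq_true rfl) rfl

theorem c2653 : Block F al 0 679424 678793 :=
  block_comb c2652 b2653 (Nat.zero_le _) (Nat.le_of_ble_eq_true rfl) rfl

theorem c2654 : Block F al 0 679680 679049 :=
  block_comb c2653 b2654 (Nat.zero_le _) (Nat.le_of_ble_eq_true rfl) rfl

theorem c2655 : Block F al 0 679936 679305 :=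
  block_comb c2654 b2655 (Nat.zero_le _) (Nat.le_of_ble_eq_true rfl) rfl

theorem c2656 : Block F al 0 680192 679561 :=
  block_comb c2655 b2656 (Nat.zero_le _) (Nat.le_of_ble_eq_true rfl) rfl

theorem c2657 : Block F al 0 680448 679817 :=
  block_comb c2656 b2657 (Nat.zero_le _) (Nat.le_of_ble_eq_true rfl) rfl

theorem c2658 : Block F al 0 680704 680073 :=
  block_comb c2657 b2658 (Nat.zero_le _) (Nat.le_of_ble_eq_true rfl) rfl

theorem c2659 : Block F al 0 680960 680329 :=
  block_comb c2658 b2659 (Nat.zero_le _) (Nat.le_of_ble_eq_true rfl) rfl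

theorem c2660 : Block F al 0 681216 680585 :=
  block_comb c2659 b2660 (Nat.zero_le _) (Nat.le_of_ble_eq_true rfl) rfl

theorem c2661 : Block F al 0 681472 680841 :=
  block_comb c2660 b2661 (Nat.zero_le _) (Nat.le_of_ble_eq_true rfl) rfl

theorem c2662 : Block F al 0 681728 681097 :=
  block_comb c2661 b2662 (Nat.zero_le _) (Nat.le_of_ble_eq_true rfl) rfl

theorem c2663 : Block F al 0 681984 681353 :=
  block_comb c2662 b2663 (Nat.zero_le _) (Nat.le_of_ble_eq_true rfl) rfl

theorem c2664 : Block F al 0 682240 681609 :=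
  block_comb c2663 b2664 (Nat.zero_le _) (Nat.le_of_ble_eq_true rfl) rfl

theorem c2665 : Block F al 0 682496 681865 :=
  block_comb c2664 b2665 (Nat.zero_le _) (Nat.le_of_ble_eq_true rfl) rfl

theorem c2666 : Block F al 0 682752 682121 :=
  block_comb c2665 b2666 (Nat.zero_le _) (Nat.le_of_ble_eq_true rfl) rfl

theorem c2667 : Block F al 0 683008 682377 :=
  block_comb c2666 b2667 (Nat.zero_le _) (Nat.le_of_ble_eq_true rfl) rfl

theorem c2668 : Block F al 0 683264 682633 :=
  block_comb c2667 b2668 (Nat.zero_le _) (Nat.le_of_ble_eq_true rfl) rfl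

theorem c2669 : Block F al 0 683520 682889 :=
  block_comb c2668 b2669 (Nat.zero_le _) (Nat.le_of_ble_eq_true rfl) rfl

theorem c2670 : Block F al 0 683776 683145 :=
  block_comb c2669 b2670 (Nat.zero_le _) (Nat.le_of_ble_eq_true rfl) rfl

theorem c2671 : Block F al 0 684032 683401 :=
  block_comb c2670 b2671 (Nat.zero_le _) (Nat.le_of_ble_eq_true rfl) rfl

theorem c2672 : Block F al 0 684288 683657 :=
  block_comb c2671 b2672 (Nat.zero_le _) (Nat.le_of_ble_eq_true rfl) rfl

theorem c2673 : Block F al 0 684544 683913 :=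
  block_comb c2672 b2673 (Nat.zero_le _) (Nat.le_of_ble_eq_true rfl) rfl

theorem c2674 : Block F al 0 684800 684169 :=
  block_comb c2673 b2674 (Nat.zero_le _) (Nat.le_of_ble_eq_true rfl) rfl

theorem c2675 : Block F al 0 685056 684425 :=
  block_comb c2674 b2675 (Nat.zero_le _) (Nat.le_of_ble_eq_true rfl) rfl

theorem c2676 : Block F al 0 685312 684681 :=
  block_comb c2675 b2676 (Nat.zero_le _) (Nat.le_of_ble_eq_true rfl) rfl

theorem c2677 : Block F al 0 685568 684937 :=
  block_comb c2676 b2677 (Nat.zero_le _) (Nat.le_of_ble_eq_true rfl) rfl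

theorem c2678 : Block F al 0 685824 685193 :=
  block_comb c2677 b2678 (Nat.zero_le _) (Nat.le_of_ble_eq_true rfl) rfl

theorem c2679 : Block F al 0 686080 685449 :=
  block_comb c2678 b2679 (Nat.zero_le _) (Nat.le_of_ble_eq_true rfl) rfl

theorem c2680 : Block F al 0 686336 685705 :=
  block_comb c2679 b2680 (Nat.zero_le _) (Nat.le_of_ble_eq_true rfl) rfl

theorem c2681 : Block F al 0 686592 685961 :=
  block_comb c2680 b2681 (Nat.zero_le _) (Nat.le_of_ble_eq_true rfl) rfl

theorem c2682 : Block F al 0 686848 686217 :=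
  block_comb c2681 b2682 (Nat.zero_le _) (Nat.le_of_ble_eq_true rfl) rfl

theorem c2683 : Block F al 0 687104 686473 :=
  block_comb c2682 b2683 (Nat.zero_le _) (Nat.le_of_ble_eq_true rfl) rfl

theorem c2684 : Block F al 0 687360 686729 :=
  block_comb c2683 b2684 (Nat.zero_le _) (Nat.le_of_ble_eq_true rfl) rfl

theorem c2685 : Block F al 0 687616 686985 :=
  block_comb c2684 b2685 (Nat.zero_le _) (Nat.le_of_ble_eq_true rfl) rfl

theorem c2686 : Block F al 0 687872 687241 :=
  block_comb c2685 b2686 (Nat.zero_le _) (Nat.le_of_ble_eq_true rfl) rfl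

theorem c2687 : Block F al 0 688128 687497 :=
  block_comb c2686 b2687 (Nat.zero_le _) (Nat.le_of_ble_eq_true rfl) rfl

theorem c2688 : Block F al 0 688384 687753 :=
  block_comb c2687 b2688 (Nat.zero_le _) (Nat.le_of_ble_eq_true rfl) rfl

theorem c2689 : Block F al 0 688640 688009 :=
  block_comb c2688 b2689 (Nat.zero_le _) (Nat.le_of_ble_eq_true rfl) rfl

theorem c2690 : Block F al 0 688896 688265 :=
  block_comb c2689 b2690 (Nat.zero_le _) (Nat.le_of_ble_eq_true rfl) rfl

theorem c2691 : Block F al 0 689152 688521 :=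
  block_comb c2690 b2691 (Nat.zero_le _) (Nat.le_of_ble_eq_true rfl) rfl

theorem c2692 : Block F al 0 689408 688777 :=
  block_comb c2691 b2692 (Nat.zero_le _) (Nat.le_of_ble_eq_true rfl) rfl

theorem c2693 : Block F al 0 689664 689033 :=
  block_comb c2692 b2693 (Nat.zero_le _) (Nat.le_of_ble_eq_true rfl) rfl

theorem c2694 : Block F al 0 689920 689289 :=
  block_comb c2693 b2694 (Nat.zero_le _) (Nat.le_of_ble_eq_true rfl) rfl

theorem c2695 : Block F al 0 690176 689545 :=
  block_comb c2694 b2695 (Nat.zero_le _) (Nat.le_of_ble_eq_true rfl) rfl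

theorem c2696 : Block F al 0 690432 689801 :=
  block_comb c2695 b2696 (Nat.zero_le _) (Nat.le_of_ble_eq_true rfl) rfl

theorem c2697 : Block F al 0 690688 690057 :=
  block_comb c2696 b2697 (Nat.zero_le _) (Nat.le_of_ble_eq_true rfl) rfl

theorem c2698 : Block F al 0 690944 690313 :=
  block_comb c2697 b2698 (Nat.zero_le _) (Nat.le_of_ble_eq_true rfl) rfl

theorem c2699 : Block F al 0 691200 690569 :=
  block_comb c2698 b2699 (Nat.zero_le _) (Nat.le_of_ble_eq_true rfl) rfl

theorem c2700 : Block F al 0 691456 690825 :=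
  block_comb c2699 b2700 (Nat.zero_le _) (Nat.le_of_ble_eq_true rfl) rfl

theorem c2701 : Block F al 0 691712 691081 :=
  block_comb c2700 b2701 (Nat.zero_le _) (Nat.le_of_ble_eq_true rfl) rfl

theorem c2702 : Block F al 0 691968 691337 :=
  block_comb c2701 b2702 (Nat.zero_le _) (Nat.le_of_ble_eq_true rfl) rfl

theorem c2703 : Block F al 0 692224 691593 :=
  block_comb c2702 b2703 (Nat.zero_le _) (Nat.le_of_ble_eq_true rfl) rfl

theorem c2704 : Block F al 0 692480 691849 :=
  block_comb c2703 b2704 (Nat.zero_le _) (Nat.le_of_ble_eq_true rfl) rfl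

theorem c2705 : Block F al 0 692736 692105 :=
  block_comb c2704 b2705 (Nat.zero_le _) (Nat.le_of_ble_eq_true rfl) rfl

theorem c2706 : Block F al 0 692992 692361 :=
  block_comb c2705 b2706 (Nat.zero_le _) (Nat.le_of_ble_eq_true rfl) rfl

theorem c2707 : Block F al 0 693248 692617 :=
  block_comb c2706 b2707 (Nat.zero_le _) (Nat.le_of_ble_eq_true rfl) rfl

theorem c2708 : Block F al 0 693504 692873 :=
  block_comb c2707 b2708 (Nat.zero_le _) (Nat.le_of_ble_eq_true rfl) rfl

theorem c2709 : Block F al 0 693760 693129 :=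
  block_comb c2708 b2709 (Nat.zero_le _) (Nat.le_of_ble_eq_true rfl) rfl

theorem c2710 : Block F al 0 694016 693385 :=
  block_comb c2709 b2710 (Nat.zero_le _) (Nat.le_of_ble_eq_true rfl) rfl

theorem c2711 : Block F al 0 694272 693641 :=
  block_comb c2710 b2711 (Nat.zero_le _) (Nat.le_of_ble_eq_true rfl) rfl

theorem c2712 : Block F al 0 694528 693897 :=
  block_comb c2711 b2712 (Nat.zero_le _) (Nat.le_of_ble_eq_true rfl) rfl

theorem c2713 : Block F al 0 694784 694153 :=
  block_comb c2712 b2713 (Nat.zero_le _) (Nat.le_of_ble_eq_true rfl) rfl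

theorem c2714 : Block F al 0 695040 694409 :=
  block_comb c2713 b2714 (Nat.zero_le _) (Nat.le_of_ble_eq_true rfl) rfl

theorem c2715 : Block F al 0 695296 694665 :=
  block_comb c2714 b2715 (Nat.zero_le _) (Nat.le_of_ble_eq_true rfl) rfl

theorem c2716 : Block F al 0 695552 694921 :=
  block_comb c2715 b2716 (Nat.zero_le _) (Nat.le_of_ble_eq_true rfl) rfl

theorem c2717 : Block F al 0 695808 695177 :=
  block_comb c2716 b2717 (Nat.zero_le _) (Nat.le_of_ble_eq_true rfl) rfl

theorem c2718 : Block F al 0 696064 695433 :=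
  block_comb c2717 b2718 (Nat.zero_le _) (Nat.le_of_ble_eq_true rfl) rfl

theorem c2719 : Block F al 0 696320 695689 :=
  block_comb c2718 b2719 (Nat.zero_le _) (Nat.le_of_ble_eq_true rfl) rfl

theorem c2720 : Block F al 0 696576 695945 :=
  block_comb c2719 b2720 (Nat.zero_le _) (Nat.le_of_ble_eq_true rfl) rfl

theorem c2721 : Block F al 0 696832 696201 :=
  block_comb c2720 b2721 (Nat.zero_le _) (Nat.le_of_ble_eq_true rfl) rfl

theorem c2722 : Block F al 0 697088 696457 :=
  block_comb c2721 b2722 (Nat.zero_le _) (Nat.le_of_ble_eq_true rfl) rfl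

theorem c2723 : Block F al 0 697344 696713 :=
  block_comb c2722 b2723 (Nat.zero_le _) (Nat.le_of_ble_eq_true rfl) rfl

theorem c2724 : Block F al 0 697600 696969 :=
  block_comb c2723 b2724 (Nat.zero_le _) (Nat.le_of_ble_eq_true rfl) rfl

theorem c2725 : Block F al 0 697856 697225 :=
  block_comb c2724 b2725 (Nat.zero_le _) (Nat.le_of_ble_eq_true rfl) rfl

theorem c2726 : Block F al 0 698112 697481 :=
  block_comb c2725 b2726 (Nat.zero_le _) (Nat.le_of_ble_eq_true rfl) rfl

theorem c2727 : Block F al 0 698368 697737 :=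
  block_comb c2726 b2727 (Nat.zero_le _) (Nat.le_of_ble_eq_true rfl) rfl

theorem c2728 : Block F al 0 698624 697993 :=
  block_comb c2727 b2728 (Nat.zero_le _) (Nat.le_of_ble_eq_true rfl) rfl

theorem c2729 : Block F al 0 698880 698249 :=
  block_comb c2728 b2729 (Nat.zero_le _) (Nat.le_of_ble_eq_true rfl) rfl

theorem c2730 : Block F al 0 699136 698505 :=
  block_comb c2729 b2730 (Nat.zero_le _) (Nat.le_of_ble_eq_true rfl) rfl

theorem c2731 : Block F al 0 699392 698761 :=
  block_comb c2730 b2731 (Nat.zero_le _) (Nat.le_of_ble_eq_true rfl) rfl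

theorem c2732 : Block F al 0 699648 699017 :=
  block_comb c2731 b2732 (Nat.zero_le _) (Nat.le_of_ble_eq_true rfl) rfl

theorem c2733 : Block F al 0 699904 699273 :=
  block_comb c2732 b2733 (Nat.zero_le _) (Nat.le_of_ble_eq_true rfl) rfl

theorem c2734 : Block F al 0 700160 699529 :=
  block_comb c2733 b2734 (Nat.zero_le _) (Nat.le_of_ble_eq_true rfl) rfl

theorem c2735 : Block F al 0 700416 699785 :=
  block_comb c2734 b2735 (Nat.zero_le _) (Nat.le_of_ble_eq_true rfl) rfl

theorem c2736 : Block F al 0 700672 700041 :=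
  block_comb c2735 b2736 (Nat.zero_le _) (Nat.le_of_ble_eq_true rfl) rfl

theorem c2737 : Block F al 0 700928 700297 :=
  block_comb c2736 b2737 (Nat.zero_le _) (Nat.le_of_ble_eq_true rfl) rfl

theorem c2738 : Block F al 0 701184 700553 :=
  block_comb c2737 b2738 (Nat.zero_le _) (Nat.le_of_ble_eq_true rfl) rfl

theorem c2739 : Block F al 0 701440 700809 :=
  block_comb c2738 b2739 (Nat.zero_le _) (Nat.le_of_ble_eq_true rfl) rfl

theorem c2740 : Block F al 0 701696 701065 :=
  block_comb c2739 b2740 (Nat.zero_le _) (Nat.le_of_ble_eq_true rfl) rfl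

theorem c2741 : Block F al 0 701952 701321 :=
  block_comb c2740 b2741 (Nat.zero_le _) (Nat.le_of_ble_eq_true rfl) rfl

theorem c2742 : Block F al 0 702208 701577 :=
  block_comb c2741 b2742 (Nat.zero_le _) (Nat.le_of_ble_eq_true rfl) rfl

theorem c2743 : Block F al 0 702464 701833 :=
  block_comb c2742 b2743 (Nat.zero_le _) (Nat.le_of_ble_eq_true rfl) rfl

theorem c2744 : Block F al 0 702720 702089 :=
  block_comb c2743 b2744 (Nat.zero_le _) (Nat.le_of_ble_eq_true rfl) rfl

theorem c2745 : Block F al 0 702976 702345 :=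
  block_comb c2744 b2745 (Nat.zero_le _) (Nat.le_of_ble_eq_true rfl) rfl

theorem c2746 : Block F al 0 703232 702601 :=
  block_comb c2745 b2746 (Nat.zero_le _) (Nat.le_of_ble_eq_true rfl) rfl

theorem c2747 : Block F al 0 703488 702857 :=
  block_comb c2746 b2747 (Nat.zero_le _) (Nat.le_of_ble_eq_true rfl) rfl

theorem c2748 : Block F al 0 703744 703113 :=
  block_comb c2747 b2748 (Nat.zero_le _) (Nat.le_of_ble_eq_true rfl) rfl

theorem c2749 : Block F al 0 704000 703369 :=
  block_comb c2748 b2749 (Nat.zero_le _) (Nat.le_of_ble_eq_true rfl) rfl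

theorem c2750 : Block F al 0 704256 703625 :=
  block_comb c2749 b2750 (Nat.zero_le _) (Nat.le_of_ble_eq_true rfl) rfl

theorem c2751 : Block F al 0 704512 703881 :=
  block_comb c2750 b2751 (Nat.zero_le _) (Nat.le_of_ble_eq_true rfl) rfl

theorem c2752 : Block F al 0 704768 704137 :=
  block_comb c2751 b2752 (Nat.zero_le _) (Nat.le_of_ble_eq_true rfl) rfl

theorem c2753 : Block F al 0 705024 704393 :=
  block_comb c2752 b2753 (Nat.zero_le _) (Nat.le_of_ble_eq_true rfl) rfl

theorem c2754 : Block F al 0 705280 704649 :=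
  block_comb c2753 b2754 (Nat.zero_le _) (Nat.le_of_ble_eq_true rfl) rfl

theorem c2755 : Block F al 0 705536 704905 :=
  block_comb c2754 b2755 (Nat.zero_le _) (Nat.le_of_ble_eq_true rfl) rfl

theorem c2756 : Block F al 0 705792 705161 :=
  block_comb c2755 b2756 (Nat.zero_le _) (Nat.le_of_ble_eq_true rfl) rfl

theorem c2757 : Block F al 0 706048 705417 :=
  block_comb c2756 b2757 (Nat.zero_le _) (Nat.le_of_ble_eq_true rfl) rfl

theorem c2758 : Block F al 0 706304 705673 :=
  block_comb c2757 b2758 (Nat.zero_le _) (Nat.le_of_ble_eq_true rfl) rfl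

theorem c2759 : Block F al 0 706560 705929 :=
  block_comb c2758 b2759 (Nat.zero_le _) (Nat.le_of_ble_eq_true rfl) rfl

theorem c2760 : Block F al 0 706816 706185 :=
  block_comb c2759 b2760 (Nat.zero_le _) (Nat.le_of_ble_eq_true rfl) rfl

theorem c2761 : Block F al 0 707072 706441 :=
  block_comb c2760 b2761 (Nat.zero_le _) (Nat.le_of_ble_eq_true rfl) rfl

theorem c2762 : Block F al 0 707328 706697 :=
  block_comb c2761 b2762 (Nat.zero_le _) (Nat.le_of_ble_eq_true rfl) rfl

theorem c2763 : Block F al 0 707584 706953 :=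
  block_comb c2762 b2763 (Nat.zero_le _) (Nat.le_of_ble_eq_true rfl) rfl

theorem c2764 : Block F al 0 707840 707209 :=
  block_comb c2763 b2764 (Nat.zero_le _) (Nat.le_of_ble_eq_true rfl) rfl

theorem c2765 : Block F al 0 708096 707465 :=
  block_comb c2764 b2765 (Nat.zero_le _) (Nat.le_of_ble_eq_true rfl) rfl

theorem c2766 : Block F al 0 708352 707721 :=
  block_comb c2765 b2766 (Nat.zero_le _) (Nat.le_of_ble_eq_true rfl) rfl

theorem c2767 : Block F al 0 708608 707977 :=
  block_comb c2766 b2767 (Nat.zero_le _) (Nat.le_of_ble_eq_true rfl) rfl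

theorem c2768 : Block F al 0 708864 708233 :=
  block_comb c2767 b2768 (Nat.zero_le _) (Nat.le_of_ble_eq_true rfl) rfl

theorem c2769 : Block F al 0 709120 708489 :=
  block_comb c2768 b2769 (Nat.zero_le _) (Nat.le_of_ble_eq_true rfl) rfl

theorem c2770 : Block F al 0 709376 708745 :=
  block_comb c2769 b2770 (Nat.zero_le _) (Nat.le_of_ble_eq_true rfl) rfl

theorem c2771 : Block F al 0 709632 709001 :=
  block_comb c2770 b2771 (Nat.zero_le _) (Nat.le_of_ble_eq_true rfl) rfl

theorem c2772 : Block F al 0 709888 709257 :=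
  block_comb c2771 b2772 (Nat.zero_le _) (Nat.le_of_ble_eq_true rfl) rfl

theorem c2773 : Block F al 0 710144 709513 :=
  block_comb c2772 b2773 (Nat.zero_le _) (Nat.le_of_ble_eq_true rfl) rfl

theorem c2774 : Block F al 0 710400 709769 :=
  block_comb c2773 b2774 (Nat.zero_le _) (Nat.le_of_ble_eq_true rfl) rfl

theorem c2775 : Block F al 0 710656 710025 :=
  block_comb c2774 b2775 (Nat.zero_le _) (Nat.le_of_ble_eq_true rfl) rfl

theorem c2776 : Block F al 0 710912 710281 :=
  block_comb c2775 b2776 (Nat.zero_le _) (Nat.le_of_ble_eq_true rfl) rfl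

theorem c2777 : Block F al 0 711168 710537 :=
  block_comb c2776 b2777 (Nat.zero_le _) (Nat.le_of_ble_eq_true rfl) rfl

theorem c2778 : Block F al 0 711424 710793 :=
  block_comb c2777 b2778 (Nat.zero_le _) (Nat.le_of_ble_eq_true rfl) rfl

theorem c2779 : Block F al 0 711680 711049 :=
  block_comb c2778 b2779 (Nat.zero_le _) (Nat.le_of_ble_eq_true rfl) rfl

theorem c2780 : Block F al 0 711936 711305 :=
  block_comb c2779 b2780 (Nat.zero_le _) (Nat.le_of_ble_eq_true rfl) rfl

theorem c2781 : Block F al 0 712192 711561 :=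
  block_comb c2780 b2781 (Nat.zero_le _) (Nat.le_of_ble_eq_true rfl) rfl

theorem c2782 : Block F al 0 712448 711817 :=
  block_comb c2781 b2782 (Nat.zero_le _) (Nat.le_of_ble_eq_true rfl) rfl

theorem c2783 : Block F al 0 712704 712073 :=
  block_comb c2782 b2783 (Nat.zero_le _) (Nat.le_of_ble_eq_true rfl) rfl

theorem c2784 : Block F al 0 712960 712329 :=
  block_comb c2783 b2784 (Nat.zero_le _) (Nat.le_of_ble_eq_true rfl) rfl

theorem c2785 : Block F al 0 713216 712585 :=
  block_comb c2784 b2785 (Nat.zero_le _) (Nat.le_of_ble_eq_true rfl) rfl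

theorem c2786 : Block F al 0 713472 712841 :=
  block_comb c2785 b2786 (Nat.zero_le _) (Nat.le_of_ble_eq_true rfl) rfl

theorem c2787 : Block F al 0 713728 713097 :=
  block_comb c2786 b2787 (Nat.zero_le _) (Nat.le_of_ble_eq_true rfl) rfl

theorem c2788 : Block F al 0 713984 713353 :=
  block_comb c2787 b2788 (Nat.zero_le _) (Nat.le_of_ble_eq_true rfl) rfl

theorem c2789 : Block F al 0 714240 713609 :=
  block_comb c2788 b2789 (Nat.zero_le _) (Nat.le_of_ble_eq_true rfl) rfl

theorem c2790 : Block F al 0 714496 713865 :=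
  block_comb c2789 b2790 (Nat.zero_le _) (Nat.le_of_ble_eq_true rfl) rfl

theorem c2791 : Block F al 0 714752 714121 :=
  block_comb c2790 b2791 (Nat.zero_le _) (Nat.le_of_ble_eq_true rfl) rfl

theorem c2792 : Block F al 0 715008 714377 :=
  block_comb c2791 b2792 (Nat.zero_le _) (Nat.le_of_ble_eq_true rfl) rfl

theorem c2793 : Block F al 0 715264 714633 :=
  block_comb c2792 b2793 (Nat.zero_le _) (Nat.le_of_ble_eq_true rfl) rfl

theorem c2794 : Block F al 0 715520 714889 :=
  block_comb c2793 b2794 (Nat.zero_le _) (Nat.le_of_ble_eq_true rfl) rfl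

theorem c2795 : Block F al 0 715776 715145 :=
  block_comb c2794 b2795 (Nat.zero_le _) (Nat.le_of_ble_eq_true rfl) rfl

theorem c2796 : Block F al 0 716032 715401 :=
  block_comb c2795 b2796 (Nat.zero_le _) (Nat.le_of_ble_eq_true rfl) rfl

theorem c2797 : Block F al 0 716288 715657 :=
  block_comb c2796 b2797 (Nat.zero_le _) (Nat.le_of_ble_eq_true rfl) rfl

theorem c2798 : Block F al 0 716544 715913 :=
  block_comb c2797 b2798 (Nat.zero_le _) (Nat.le_of_ble_eq_true rfl) rfl

theorem c2799 : Block F al 0 716800 716169 :=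
  block_comb c2798 b2799 (Nat.zero_le _) (Nat.le_of_ble_eq_true rfl) rfl

theorem c2800 : Block F al 0 717056 716425 :=
  block_comb c2799 b2800 (Nat.zero_le _) (Nat.le_of_ble_eq_true rfl) rfl

theorem c2801 : Block F al 0 717312 716681 :=
  block_comb c2800 b2801 (Nat.zero_le _) (Nat.le_of_ble_eq_true rfl) rfl

theorem c2802 : Block F al 0 717568 716937 :=
  block_comb c2801 b2802 (Nat.zero_le _) (Nat.le_of_ble_eq_true rfl) rfl

theorem c2803 : Block F al 0 717824 717193 :=
  block_comb c2802 b2803 (Nat.zero_le _) (Nat.le_of_ble_eq_true rfl) rfl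

theorem c2804 : Block F al 0 718080 717449 :=
  block_comb c2803 b2804 (Nat.zero_le _) (Nat.le_of_ble_eq_true rfl) rfl

theorem c2805 : Block F al 0 718336 717705 :=
  block_comb c2804 b2805 (Nat.zero_le _) (Nat.le_of_ble_eq_true rfl) rfl

theorem c2806 : Block F al 0 718592 717961 :=
  block_comb c2805 b2806 (Nat.zero_le _) (Nat.le_of_ble_eq_true rfl) rfl

theorem c2807 : Block F al 0 718848 718217 :=
  block_comb c2806 b2807 (Nat.zero_le _) (Nat.le_of_ble_eq_true rfl) rfl

theorem c2808 : Block F al 0 719104 718473 :=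
  block_comb c2807 b2808 (Nat.zero_le _) (Nat.le_of_ble_eq_true rfl) rfl

theorem c2809 : Block F al 0 719360 718729 :=
  block_comb c2808 b2809 (Nat.zero_le _) (Nat.le_of_ble_eq_true rfl) rfl

theorem c2810 : Block F al 0 719616 718985 :=
  block_comb c2809 b2810 (Nat.zero_le _) (Nat.le_of_ble_eq_true rfl) rfl

theorem c2811 : Block F al 0 719872 719241 :=
  block_comb c2810 b2811 (Nat.zero_le _) (Nat.le_of_ble_eq_true rfl) rfl

theorem c2812 : Block F al 0 720128 719497 :=
  block_comb c2811 b2812 (Nat.zero_le _) (Nat.le_of_ble_eq_true rfl) rfl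

theorem c2813 : Block F al 0 720384 719753 :=
  block_comb c2812 b2813 (Nat.zero_le _) (Nat.le_of_ble_eq_true rfl) rfl

theorem c2814 : Block F al 0 720640 720009 :=
  block_comb c2813 b2814 (Nat.zero_le _) (Nat.le_of_ble_eq_true rfl) rfl

theorem c2815 : Block F al 0 720896 720265 :=
  block_comb c2814 b2815 (Nat.zero_le _) (Nat.le_of_ble_eq_true rfl) rfl

theorem c2816 : Block F al 0 721152 720521 :=
  block_comb c2815 b2816 (Nat.zero_le _) (Nat.le_of_ble_eq_true rfl) rfl

theorem c2817 : Block F al 0 721408 720777 :=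
  block_comb c2816 b2817 (Nat.zero_le _) (Nat.le_of_ble_eq_true rfl) rfl

theorem c2818 : Block F al 0 721664 721033 :=
  block_comb c2817 b2818 (Nat.zero_le _) (Nat.le_of_ble_eq_true rfl) rfl

theorem c2819 : Block F al 0 721920 721289 :=
  block_comb c2818 b2819 (Nat.zero_le _) (Nat.le_of_ble_eq_true rfl) rfl

theorem c2820 : Block F al 0 722176 721545 :=
  block_comb c2819 b2820 (Nat.zero_le _) (Nat.le_of_ble_eq_true rfl) rfl

theorem c2821 : Block F al 0 722432 721801 :=
  block_comb c2820 b2821 (Nat.zero_le _) (Nat.le_of_ble_eq_true rfl) rfl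

theorem c2822 : Block F al 0 722688 722057 :=
  block_comb c2821 b2822 (Nat.zero_le _) (Nat.le_of_ble_eq_true rfl) rfl

theorem c2823 : Block F al 0 722944 722313 :=
  block_comb c2822 b2823 (Nat.zero_le _) (Nat.le_of_ble_eq_true rfl) rfl

theorem c2824 : Block F al 0 723200 722569 :=
  block_comb c2823 b2824 (Nat.zero_le _) (Nat.le_of_ble_eq_true rfl) rfl

theorem c2825 : Block F al 0 723456 722825 :=
  block_comb c2824 b2825 (Nat.zero_le _) (Nat.le_of_ble_eq_true rfl) rfl

theorem c2826 : Block F al 0 723712 723081 :=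
  block_comb c2825 b2826 (Nat.zero_le _) (Nat.le_of_ble_eq_true rfl) rfl

theorem c2827 : Block F al 0 723968 723337 :=
  block_comb c2826 b2827 (Nat.zero_le _) (Nat.le_of_ble_eq_true rfl) rfl

theorem c2828 : Block F al 0 724224 723593 :=
  block_comb c2827 b2828 (Nat.zero_le _) (Nat.le_of_ble_eq_true rfl) rfl

theorem c2829 : Block F al 0 724480 723849 :=
  block_comb c2828 b2829 (Nat.zero_le _) (Nat.le_of_ble_eq_true rfl) rfl

theorem c2830 : Block F al 0 724736 724105 :=
  block_comb c2829 b2830 (Nat.zero_le _) (Nat.le_of_ble_eq_true rfl) rfl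

theorem c2831 : Block F al 0 724992 724361 :=
  block_comb c2830 b2831 (Nat.zero_le _) (Nat.le_of_ble_eq_true rfl) rfl

theorem c2832 : Block F al 0 725248 724617 :=
  block_comb c2831 b2832 (Nat.zero_le _) (Nat.le_of_ble_eq_true rfl) rfl

theorem c2833 : Block F al 0 725504 724873 :=
  block_comb c2832 b2833 (Nat.zero_le _) (Nat.le_of_ble_eq_true rfl) rfl

theorem c2834 : Block F al 0 725760 725129 :=
  block_comb c2833 b2834 (Nat.zero_le _) (Nat.le_of_ble_eq_true rfl) rfl

theorem c2835 : Block F al 0 726016 725385 :=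
  block_comb c2834 b2835 (Nat.zero_le _) (Nat.le_of_ble_eq_true rfl) rfl

theorem c2836 : Block F al 0 726272 725641 :=
  block_comb c2835 b2836 (Nat.zero_le _) (Nat.le_of_ble_eq_true rfl) rfl

theorem c2837 : Block F al 0 726528 725897 :=
  block_comb c2836 b2837 (Nat.zero_le _) (Nat.le_of_ble_eq_true rfl) rfl

theorem c2838 : Block F al 0 726784 726153 :=
  block_comb c2837 b2838 (Nat.zero_le _) (Nat.le_of_ble_eq_true rfl) rfl

theorem c2839 : Block F al 0 727040 726409 :=
  block_comb c2838 b2839 (Nat.zero_le _) (Nat.le_of_ble_eq_true rfl) rfl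

theorem c2840 : Block F al 0 727296 726665 :=
  block_comb c2839 b2840 (Nat.zero_le _) (Nat.le_of_ble_eq_true rfl) rfl

theorem c2841 : Block F al 0 727552 726921 :=
  block_comb c2840 b2841 (Nat.zero_le _) (Nat.le_of_ble_eq_true rfl) rfl

theorem c2842 : Block F al 0 727808 727177 :=
  block_comb c2841 b2842 (Nat.zero_le _) (Nat.le_of_ble_eq_true rfl) rfl

theorem c2843 : Block F al 0 728064 727433 :=
  block_comb c2842 b2843 (Nat.zero_le _) (Nat.le_of_ble_eq_true rfl) rfl

theorem c2844 : Block F al 0 728320 727689 :=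
  block_comb c2843 b2844 (Nat.zero_le _) (Nat.le_of_ble_eq_true rfl) rfl

theorem c2845 : Block F al 0 728576 727945 :=
  block_comb c2844 b2845 (Nat.zero_le _) (Nat.le_of_ble_eq_true rfl) rfl

theorem c2846 : Block F al 0 728832 728201 :=
  block_comb c2845 b2846 (Nat.zero_le _) (Nat.le_of_ble_eq_true rfl) rfl

theorem c2847 : Block F al 0 729088 728457 :=
  block_comb c2846 b2847 (Nat.zero_le _) (Nat.le_of_ble_eq_true rfl) rfl

theorem c2848 : Block F al 0 729344 728713 :=
  block_comb c2847 b2848 (Nat.zero_le _) (Nat.le_of_ble_eq_true rfl) rfl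

theorem c2849 : Block F al 0 729600 728969 :=
  block_comb c2848 b2849 (Nat.zero_le _) (Nat.le_of_ble_eq_true rfl) rfl

theorem c2850 : Block F al 0 729856 729225 :=
  block_comb c2849 b2850 (Nat.zero_le _) (Nat.le_of_ble_eq_true rfl) rfl

theorem c2851 : Block F al 0 730112 729481 :=
  block_comb c2850 b2851 (Nat.zero_le _) (Nat.le_of_ble_eq_true rfl) rfl

theorem c2852 : Block F al 0 730368 729737 :=
  block_comb c2851 b2852 (Nat.zero_le _) (Nat.le_of_ble_eq_true rfl) rfl

theorem c2853 : Block F al 0 730624 729993 :=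
  block_comb c2852 b2853 (Nat.zero_le _) (Nat.le_of_ble_eq_true rfl) rfl

theorem c2854 : Block F al 0 730880 730249 :=
  block_comb c2853 b2854 (Nat.zero_le _) (Nat.le_of_ble_eq_true rfl) rfl

theorem c2855 : Block F al 0 731136 730505 :=
  block_comb c2854 b2855 (Nat.zero_le _) (Nat.le_of_ble_eq_true rfl) rfl

theorem c2856 : Block F al 0 731392 730761 :=
  block_comb c2855 b2856 (Nat.zero_le _) (Nat.le_of_ble_eq_true rfl) rfl

theorem c2857 : Block F al 0 731648 731017 :=
  block_comb c2856 b2857 (Nat.zero_le _) (Nat.le_of_ble_eq_true rfl) rfl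

theorem c2858 : Block F al 0 731904 731273 :=
  block_comb c2857 b2858 (Nat.zero_le _) (Nat.le_of_ble_eq_true rfl) rfl

theorem c2859 : Block F al 0 732160 731529 :=
  block_comb c2858 b2859 (Nat.zero_le _) (Nat.le_of_ble_eq_true rfl) rfl

theorem c2860 : Block F al 0 732416 731785 :=
  block_comb c2859 b2860 (Nat.zero_le _) (Nat.le_of_ble_eq_true rfl) rfl

theorem c2861 : Block F al 0 732672 732041 :=
  block_comb c2860 b2861 (Nat.zero_le _) (Nat.le_of_ble_eq_true rfl) rfl

theorem c2862 : Block F al 0 732928 732297 :=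
  block_comb c2861 b2862 (Nat.zero_le _) (Nat.le_of_ble_eq_true rfl) rfl

theorem c2863 : Block F al 0 733184 732553 :=
  block_comb c2862 b2863 (Nat.zero_le _) (Nat.le_of_ble_eq_true rfl) rfl

theorem c2864 : Block F al 0 733440 732809 :=
  block_comb c2863 b2864 (Nat.zero_le _) (Nat.le_of_ble_eq_true rfl) rfl

theorem c2865 : Block F al 0 733696 733065 :=
  block_comb c2864 b2865 (Nat.zero_le _) (Nat.le_of_ble_eq_true rfl) rfl

theorem c2866 : Block F al 0 733952 733321 :=
  block_comb c2865 b2866 (Nat.zero_le _) (Nat.le_of_ble_eq_true rfl) rfl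

theorem c2867 : Block F al 0 734208 733577 :=
  block_comb c2866 b2867 (Nat.zero_le _) (Nat.le_of_ble_eq_true rfl) rfl

theorem c2868 : Block F al 0 734464 733833 :=
  block_comb c2867 b2868 (Nat.zero_le _) (Nat.le_of_ble_eq_true rfl) rfl

theorem c2869 : Block F al 0 734720 734089 :=
  block_comb c2868 b2869 (Nat.zero_le _) (Nat.le_of_ble_eq_true rfl) rfl

theorem c2870 : Block F al 0 734976 734345 :=
  block_comb c2869 b2870 (Nat.zero_le _) (Nat.le_of_ble_eq_true rfl) rfl

theorem c2871 : Block F al 0 735232 734601 :=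
  block_comb c2870 b2871 (Nat.zero_le _) (Nat.le_of_ble_eq_true rfl) rfl

theorem c2872 : Block F al 0 735488 734857 :=
  block_comb c2871 b2872 (Nat.zero_le _) (Nat.le_of_ble_eq_true rfl) rfl

theorem c2873 : Block F al 0 735744 735113 :=
  block_comb c2872 b2873 (Nat.zero_le _) (Nat.le_of_ble_eq_true rfl) rfl

theorem c2874 : Block F al 0 736000 735369 :=
  block_comb c2873 b2874 (Nat.zero_le _) (Nat.le_of_ble_eq_true rfl) rfl

theorem c2875 : Block F al 0 736256 735625 :=
  block_comb c2874 b2875 (Nat.zero_le _) (Nat.le_of_ble_eq_true rfl) rfl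

theorem c2876 : Block F al 0 736512 735881 :=
  block_comb c2875 b2876 (Nat.zero_le _) (Nat.le_of_ble_eq_true rfl) rfl

theorem c2877 : Block F al 0 736768 736137 :=
  block_comb c2876 b2877 (Nat.zero_le _) (Nat.le_of_ble_eq_true rfl) rfl

theorem c2878 : Block F al 0 737024 736393 :=
  block_comb c2877 b2878 (Nat.zero_le _) (Nat.le_of_ble_eq_true rfl) rfl

theorem c2879 : Block F al 0 737280 736649 :=
  block_comb c2878 b2879 (Nat.zero_le _) (Nat.le_of_ble_eq_true rfl) rfl

theorem c2880 : Block F al 0 737536 736905 :=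
  block_comb c2879 b2880 (Nat.zero_le _) (Nat.le_of_ble_eq_true rfl) rfl

theorem c2881 : Block F al 0 737792 737161 :=
  block_comb c2880 b2881 (Nat.zero_le _) (Nat.le_of_ble_eq_true rfl) rfl

theorem c2882 : Block F al 0 738048 737417 :=
  block_comb c2881 b2882 (Nat.zero_le _) (Nat.le_of_ble_eq_true rfl) rfl

theorem c2883 : Block F al 0 738304 737673 :=
  block_comb c2882 b2883 (Nat.zero_le _) (Nat.le_of_ble_eq_true rfl) rfl

theorem c2884 : Block F al 0 738560 737929 :=
  block_comb c2883 b2884 (Nat.zero_le _) (Nat.le_of_ble_eq_true rfl) rfl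

theorem c2885 : Block F al 0 738816 738185 :=
  block_comb c2884 b2885 (Nat.zero_le _) (Nat.le_of_ble_eq_true rfl) rfl

theorem c2886 : Block F al 0 739072 738441 :=
  block_comb c2885 b2886 (Nat.zero_le _) (Nat.le_of_ble_eq_true rfl) rfl

theorem c2887 : Block F al 0 739328 738697 :=
  block_comb c2886 b2887 (Nat.zero_le _) (Nat.le_of_ble_eq_true rfl) rfl

theorem c2888 : Block F al 0 739584 738953 :=
  block_comb c2887 b2888 (Nat.zero_le _) (Nat.le_of_ble_eq_true rfl) rfl

theorem c2889 : Block F al 0 739840 739209 :=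
  block_comb c2888 b2889 (Nat.zero_le _) (Nat.le_of_ble_eq_true rfl) rfl

theorem c2890 : Block F al 0 740096 739465 :=
  block_comb c2889 b2890 (Nat.zero_le _) (Nat.le_of_ble_eq_true rfl) rfl

theorem c2891 : Block F al 0 740352 739721 :=
  block_comb c2890 b2891 (Nat.zero_le _) (Nat.le_of_ble_eq_true rfl) rfl

theorem c2892 : Block F al 0 740608 739977 :=
  block_comb c2891 b2892 (Nat.zero_le _) (Nat.le_of_ble_eq_true rfl) rfl

theorem c2893 : Block F al 0 740864 740233 :=
  block_comb c2892 b2893 (Nat.zero_le _) (Nat.le_of_ble_eq_true rfl) rfl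

theorem c2894 : Block F al 0 741120 740489 :=
  block_comb c2893 b2894 (Nat.zero_le _) (Nat.le_of_ble_eq_true rfl) rfl

theorem c2895 : Block F al 0 741376 740745 :=
  block_comb c2894 b2895 (Nat.zero_le _) (Nat.le_of_ble_eq_true rfl) rfl

theorem c2896 : Block F al 0 741632 741001 :=
  block_comb c2895 b2896 (Nat.zero_le _) (Nat.le_of_ble_eq_true rfl) rfl

theorem c2897 : Block F al 0 741888 741257 :=
  block_comb c2896 b2897 (Nat.zero_le _) (Nat.le_of_ble_eq_true rfl) rfl

theorem c2898 : Block F al 0 742144 741513 :=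
  block_comb c2897 b2898 (Nat.zero_le _) (Nat.le_of_ble_eq_true rfl) rfl

theorem c2899 : Block F al 0 742400 741769 :=
  block_comb c2898 b2899 (Nat.zero_le _) (Nat.le_of_ble_eq_true rfl) rfl

theorem c2900 : Block F al 0 742656 742025 :=
  block_comb c2899 b2900 (Nat.zero_le _) (Nat.le_of_ble_eq_true rfl) rfl

theorem c2901 : Block F al 0 742912 742281 :=
  block_comb c2900 b2901 (Nat.zero_le _) (Nat.le_of_ble_eq_true rfl) rfl

theorem c2902 : Block F al 0 743168 742537 :=
  block_comb c2901 b2902 (Nat.zero_le _) (Nat.le_of_ble_eq_true rfl) rfl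

theorem c2903 : Block F al 0 743424 742793 :=
  block_comb c2902 b2903 (Nat.zero_le _) (Nat.le_of_ble_eq_true rfl) rfl

theorem c2904 : Block F al 0 743680 743049 :=
  block_comb c2903 b2904 (Nat.zero_le _) (Nat.le_of_ble_eq_true rfl) rfl

theorem c2905 : Block F al 0 743936 743305 :=
  block_comb c2904 b2905 (Nat.zero_le _) (Nat.le_of_ble_eq_true rfl) rfl

theorem c2906 : Block F al 0 744192 743561 :=
  block_comb c2905 b2906 (Nat.zero_le _) (Nat.le_of_ble_eq_true rfl) rfl

theorem c2907 : Block F al 0 744448 743817 :=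
  block_comb c2906 b2907 (Nat.zero_le _) (Nat.le_of_ble_eq_true rfl) rfl

theorem c2908 : Block F al 0 744704 744073 :=
  block_comb c2907 b2908 (Nat.zero_le _) (Nat.le_of_ble_eq_true rfl) rfl

theorem c2909 : Block F al 0 744960 744329 :=
  block_comb c2908 b2909 (Nat.zero_le _) (Nat.le_of_ble_eq_true rfl) rfl

theorem c2910 : Block F al 0 745216 744585 :=
  block_comb c2909 b2910 (Nat.zero_le _) (Nat.le_of_ble_eq_true rfl) rfl

theorem c2911 : Block F al 0 745472 744841 :=
  block_comb c2910 b2911 (Nat.zero_le _) (Nat.le_of_ble_eq_true rfl) rfl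

theorem c2912 : Block F al 0 745728 745097 :=
  block_comb c2911 b2912 (Nat.zero_le _) (Nat.le_of_ble_eq_true rfl) rfl

theorem c2913 : Block F al 0 745984 745353 :=
  block_comb c2912 b2913 (Nat.zero_le _) (Nat.le_of_ble_eq_true rfl) rfl

theorem c2914 : Block F al 0 746240 745609 :=
  block_comb c2913 b2914 (Nat.zero_le _) (Nat.le_of_ble_eq_true rfl) rfl

theorem c2915 : Block F al 0 746496 745865 :=
  block_comb c2914 b2915 (Nat.zero_le _) (Nat.le_of_ble_eq_true rfl) rfl

theorem c2916 : Block F al 0 746752 746121 :=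
  block_comb c2915 b2916 (Nat.zero_le _) (Nat.le_of_ble_eq_true rfl) rfl

theorem c2917 : Block F al 0 747008 746377 :=
  block_comb c2916 b2917 (Nat.zero_le _) (Nat.le_of_ble_eq_true rfl) rfl

theorem c2918 : Block F al 0 747264 746633 :=
  block_comb c2917 b2918 (Nat.zero_le _) (Nat.le_of_ble_eq_true rfl) rfl

theorem c2919 : Block F al 0 747520 746889 :=
  block_comb c2918 b2919 (Nat.zero_le _) (Nat.le_of_ble_eq_true rfl) rfl

theorem c2920 : Block F al 0 747776 747145 :=
  block_comb c2919 b2920 (Nat.zero_le _) (Nat.le_of_ble_eq_true rfl) rfl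

theorem c2921 : Block F al 0 748032 747401 :=
  block_comb c2920 b2921 (Nat.zero_le _) (Nat.le_of_ble_eq_true rfl) rfl

theorem c2922 : Block F al 0 748288 747657 :=
  block_comb c2921 b2922 (Nat.zero_le _) (Nat.le_of_ble_eq_true rfl) rfl

theorem c2923 : Block F al 0 748544 747913 :=
  block_comb c2922 b2923 (Nat.zero_le _) (Nat.le_of_ble_eq_true rfl) rfl

theorem c2924 : Block F al 0 748800 748169 :=
  block_comb c2923 b2924 (Nat.zero_le _) (Nat.le_of_ble_eq_true rfl) rfl

theorem c2925 : Block F al 0 749056 748425 :=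
  block_comb c2924 b2925 (Nat.zero_le _) (Nat.le_of_ble_eq_true rfl) rfl

theorem c2926 : Block F al 0 749312 748681 :=
  block_comb c2925 b2926 (Nat.zero_le _) (Nat.le_of_ble_eq_true rfl) rfl

theorem c2927 : Block F al 0 749568 748937 :=
  block_comb c2926 b2927 (Nat.zero_le _) (Nat.le_of_ble_eq_true rfl) rfl

theorem c2928 : Block F al 0 749824 749193 :=
  block_comb c2927 b2928 (Nat.zero_le _) (Nat.le_of_ble_eq_true rfl) rfl

theorem c2929 : Block F al 0 750080 749449 :=
  block_comb c2928 b2929 (Nat.zero_le _) (Nat.le_of_ble_eq_true rfl) rfl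

theorem c2930 : Block F al 0 750336 749705 :=
  block_comb c2929 b2930 (Nat.zero_le _) (Nat.le_of_ble_eq_true rfl) rfl

theorem c2931 : Block F al 0 750592 749961 :=
  block_comb c2930 b2931 (Nat.zero_le _) (Nat.le_of_ble_eq_true rfl) rfl

theorem c2932 : Block F al 0 750848 750217 :=
  block_comb c2931 b2932 (Nat.zero_le _) (Nat.le_of_ble_eq_true rfl) rfl

theorem c2933 : Block F al 0 751104 750473 :=
  block_comb c2932 b2933 (Nat.zero_le _) (Nat.le_of_ble_eq_true rfl) rfl

theorem c2934 : Block F al 0 751360 750729 :=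
  block_comb c2933 b2934 (Nat.zero_le _) (Nat.le_of_ble_eq_true rfl) rfl

theorem c2935 : Block F al 0 751616 750985 :=
  block_comb c2934 b2935 (Nat.zero_le _) (Nat.le_of_ble_eq_true rfl) rfl

theorem c2936 : Block F al 0 751872 751241 :=
  block_comb c2935 b2936 (Nat.zero_le _) (Nat.le_of_ble_eq_true rfl) rfl

theorem c2937 : Block F al 0 752128 751497 :=
  block_comb c2936 b2937 (Nat.zero_le _) (Nat.le_of_ble_eq_true rfl) rfl

theorem c2938 : Block F al 0 752384 751753 :=
  block_comb c2937 b2938 (Nat.zero_le _) (Nat.le_of_ble_eq_true rfl) rfl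

theorem c2939 : Block F al 0 752640 752009 :=
  block_comb c2938 b2939 (Nat.zero_le _) (Nat.le_of_ble_eq_true rfl) rfl

theorem c2940 : Block F al 0 752896 752265 :=
  block_comb c2939 b2940 (Nat.zero_le _) (Nat.le_of_ble_eq_true rfl) rfl

theorem c2941 : Block F al 0 753152 752521 :=
  block_comb c2940 b2941 (Nat.zero_le _) (Nat.le_of_ble_eq_true rfl) rfl

theorem c2942 : Block F al 0 753408 752777 :=
  block_comb c2941 b2942 (Nat.zero_le _) (Nat.le_of_ble_eq_true rfl) rfl

theorem c2943 : Block F al 0 753664 753033 :=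
  block_comb c2942 b2943 (Nat.zero_le _) (Nat.le_of_ble_eq_true rfl) rfl

theorem c2944 : Block F al 0 753920 753289 :=
  block_comb c2943 b2944 (Nat.zero_le _) (Nat.le_of_ble_eq_true rfl) rfl

theorem c2945 : Block F al 0 754176 753545 :=
  block_comb c2944 b2945 (Nat.zero_le _) (Nat.le_of_ble_eq_true rfl) rfl

theorem c2946 : Block F al 0 754432 753801 :=
  block_comb c2945 b2946 (Nat.zero_le _) (Nat.le_of_ble_eq_true rfl) rfl

theorem c2947 : Block F al 0 754688 754057 :=
  block_comb c2946 b2947 (Nat.zero_le _) (Nat.le_of_ble_eq_true rfl) rfl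

theorem c2948 : Block F al 0 754944 754313 :=
  block_comb c2947 b2948 (Nat.zero_le _) (Nat.le_of_ble_eq_true rfl) rfl

theorem c2949 : Block F al 0 755200 754569 :=
  block_comb c2948 b2949 (Nat.zero_le _) (Nat.le_of_ble_eq_true rfl) rfl

theorem c2950 : Block F al 0 755456 754825 :=
  block_comb c2949 b2950 (Nat.zero_le _) (Nat.le_of_ble_eq_true rfl) rfl

theorem c2951 : Block F al 0 755712 755081 :=
  block_comb c2950 b2951 (Nat.zero_le _) (Nat.le_of_ble_eq_true rfl) rfl

theorem c2952 : Block F al 0 755968 755337 :=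
  block_comb c2951 b2952 (Nat.zero_le _) (Nat.le_of_ble_eq_true rfl) rfl

theorem c2953 : Block F al 0 756224 755593 :=
  block_comb c2952 b2953 (Nat.zero_le _) (Nat.le_of_ble_eq_true rfl) rfl

theorem c2954 : Block F al 0 756480 755849 :=
  block_comb c2953 b2954 (Nat.zero_le _) (Nat.le_of_ble_eq_true rfl) rfl

theorem c2955 : Block F al 0 756736 756105 :=
  block_comb c2954 b2955 (Nat.zero_le _) (Nat.le_of_ble_eq_true rfl) rfl

theorem c2956 : Block F al 0 756992 756361 :=
  block_comb c2955 b2956 (Nat.zero_le _) (Nat.le_of_ble_eq_true rfl) rfl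

theorem c2957 : Block F al 0 757248 756617 :=
  block_comb c2956 b2957 (Nat.zero_le _) (Nat.le_of_ble_eq_true rfl) rfl

theorem c2958 : Block F al 0 757504 756873 :=
  block_comb c2957 b2958 (Nat.zero_le _) (Nat.le_of_ble_eq_true rfl) rfl

theorem c2959 : Block F al 0 757760 757129 :=
  block_comb c2958 b2959 (Nat.zero_le _) (Nat.le_of_ble_eq_true rfl) rfl

theorem c2960 : Block F al 0 758016 757385 :=
  block_comb c2959 b2960 (Nat.zero_le _) (Nat.le_of_ble_eq_true rfl) rfl

theorem c2961 : Block F al 0 758272 757641 :=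
  block_comb c2960 b2961 (Nat.zero_le _) (Nat.le_of_ble_eq_true rfl) rfl

theorem c2962 : Block F al 0 758528 757897 :=
  block_comb c2961 b2962 (Nat.zero_le _) (Nat.le_of_ble_eq_true rfl) rfl

theorem c2963 : Block F al 0 758784 758153 :=
  block_comb c2962 b2963 (Nat.zero_le _) (Nat.le_of_ble_eq_true rfl) rfl

theorem c2964 : Block F al 0 759040 758409 :=
  block_comb c2963 b2964 (Nat.zero_le _) (Nat.le_of_ble_eq_true rfl) rfl

theorem c2965 : Block F al 0 759296 758665 :=
  block_comb c2964 b2965 (Nat.zero_le _) (Nat.le_of_ble_eq_true rfl) rfl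

theorem c2966 : Block F al 0 759552 758921 :=
  block_comb c2965 b2966 (Nat.zero_le _) (Nat.le_of_ble_eq_true rfl) rfl

theorem c2967 : Block F al 0 759808 759177 :=
  block_comb c2966 b2967 (Nat.zero_le _) (Nat.le_of_ble_eq_true rfl) rfl

theorem c2968 : Block F al 0 760064 759433 :=
  block_comb c2967 b2968 (Nat.zero_le _) (Nat.le_of_ble_eq_true rfl) rfl

theorem c2969 : Block F al 0 760320 759689 :=
  block_comb c2968 b2969 (Nat.zero_le _) (Nat.le_of_ble_eq_true rfl) rfl

theorem c2970 : Block F al 0 760576 759945 :=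
  block_comb c2969 b2970 (Nat.zero_le _) (Nat.le_of_ble_eq_true rfl) rfl

theorem c2971 : Block F al 0 760832 760201 :=
  block_comb c2970 b2971 (Nat.zero_le _) (Nat.le_of_ble_eq_true rfl) rfl

theorem c2972 : Block F al 0 761088 760457 :=
  block_comb c2971 b2972 (Nat.zero_le _) (Nat.le_of_ble_eq_true rfl) rfl

theorem c2973 : Block F al 0 761344 760713 :=
  block_comb c2972 b2973 (Nat.zero_le _) (Nat.le_of_ble_eq_true rfl) rfl

theorem c2974 : Block F al 0 761600 760969 :=
  block_comb c2973 b2974 (Nat.zero_le _) (Nat.le_of_ble_eq_true rfl) rfl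

theorem c2975 : Block F al 0 761856 761225 :=
  block_comb c2974 b2975 (Nat.zero_le _) (Nat.le_of_ble_eq_true rfl) rfl

theorem c2976 : Block F al 0 762112 761481 :=
  block_comb c2975 b2976 (Nat.zero_le _) (Nat.le_of_ble_eq_true rfl) rfl

theorem c2977 : Block F al 0 762368 761737 :=
  block_comb c2976 b2977 (Nat.zero_le _) (Nat.le_of_ble_eq_true rfl) rfl

theorem c2978 : Block F al 0 762624 761993 :=
  block_comb c2977 b2978 (Nat.zero_le _) (Nat.le_of_ble_eq_true rfl) rfl

theorem c2979 : Block F al 0 762880 762249 :=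
  block_comb c2978 b2979 (Nat.zero_le _) (Nat.le_of_ble_eq_true rfl) rfl

theorem c2980 : Block F al 0 763136 762505 :=
  block_comb c2979 b2980 (Nat.zero_le _) (Nat.le_of_ble_eq_true rfl) rfl

theorem c2981 : Block F al 0 763392 762761 :=
  block_comb c2980 b2981 (Nat.zero_le _) (Nat.le_of_ble_eq_true rfl) rfl

theorem c2982 : Block F al 0 763648 763017 :=
  block_comb c2981 b2982 (Nat.zero_le _) (Nat.le_of_ble_eq_true rfl) rfl

theorem c2983 : Block F al 0 763904 763273 :=
  block_comb c2982 b2983 (Nat.zero_le _) (Nat.le_of_ble_eq_true rfl) rfl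

theorem c2984 : Block F al 0 764160 763529 :=
  block_comb c2983 b2984 (Nat.zero_le _) (Nat.le_of_ble_eq_true rfl) rfl

theorem c2985 : Block F al 0 764416 763785 :=
  block_comb c2984 b2985 (Nat.zero_le _) (Nat.le_of_ble_eq_true rfl) rfl

theorem c2986 : Block F al 0 764672 764041 :=
  block_comb c2985 b2986 (Nat.zero_le _) (Nat.le_of_ble_eq_true rfl) rfl

theorem c2987 : Block F al 0 764928 764297 :=
  block_comb c2986 b2987 (Nat.zero_le _) (Nat.le_of_ble_eq_true rfl) rfl

theorem c2988 : Block F al 0 765184 764553 :=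
  block_comb c2987 b2988 (Nat.zero_le _) (Nat.le_of_ble_eq_true rfl) rfl

theorem c2989 : Block F al 0 765440 764809 :=
  block_comb c2988 b2989 (Nat.zero_le _) (Nat.le_of_ble_eq_true rfl) rfl

theorem c2990 : Block F al 0 765696 765065 :=
  block_comb c2989 b2990 (Nat.zero_le _) (Nat.le_of_ble_eq_true rfl) rfl

theorem c2991 : Block F al 0 765952 765321 :=
  block_comb c2990 b2991 (Nat.zero_le _) (Nat.le_of_ble_eq_true rfl) rfl

theorem c2992 : Block F al 0 766208 765577 :=
  block_comb c2991 b2992 (Nat.zero_le _) (Nat.le_of_ble_eq_true rfl) rfl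

theorem c2993 : Block F al 0 766464 765833 :=
  block_comb c2992 b2993 (Nat.zero_le _) (Nat.le_of_ble_eq_true rfl) rfl

theorem c2994 : Block F al 0 766720 766089 :=
  block_comb c2993 b2994 (Nat.zero_le _) (Nat.le_of_ble_eq_true rfl) rfl

theorem c2995 : Block F al 0 766976 766345 :=
  block_comb c2994 b2995 (Nat.zero_le _) (Nat.le_of_ble_eq_true rfl) rfl

theorem c2996 : Block F al 0 767232 766601 :=
  block_comb c2995 b2996 (Nat.zero_le _) (Nat.le_of_ble_eq_true rfl) rfl

theorem c2997 : Block F al 0 767488 766857 :=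
  block_comb c2996 b2997 (Nat.zero_le _) (Nat.le_of_ble_eq_true rfl) rfl

theorem c2998 : Block F al 0 767744 767113 :=
  block_comb c2997 b2998 (Nat.zero_le _) (Nat.le_of_ble_eq_true rfl) rfl

theorem c2999 : Block F al 0 768000 767369 :=
  block_comb c2998 b2999 (Nat.zero_le _) (Nat.le_of_ble_eq_true rfl) rfl

theorem c3000 : Block F al 0 768256 767625 :=
  block_comb c2999 b3000 (Nat.zero_le _) (Nat.le_of_ble_eq_true rfl) rfl

theorem c3001 : Block F al 0 768512 767881 :=
  block_comb c3000 b3001 (Nat.zero_le _) (Nat.le_of_ble_eq_true rfl) rfl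

theorem c3002 : Block F al 0 768768 768137 :=
  block_comb c3001 b3002 (Nat.zero_le _) (Nat.le_of_ble_eq_true rfl) rfl

theorem c3003 : Block F al 0 769024 768393 :=
  block_comb c3002 b3003 (Nat.zero_le _) (Nat.le_of_ble_eq_true rfl) rfl

theorem c3004 : Block F al 0 769280 768649 :=
  block_comb c3003 b3004 (Nat.zero_le _) (Nat.le_of_ble_eq_true rfl) rfl

theorem c3005 : Block F al 0 769536 768905 :=
  block_comb c3004 b3005 (Nat.zero_le _) (Nat.le_of_ble_eq_true rfl) rfl

theorem c3006 : Block F al 0 769792 769161 :=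
  block_comb c3005 b3006 (Nat.zero_le _) (Nat.le_of_ble_eq_true rfl) rfl

theorem c3007 : Block F al 0 770048 769417 :=
  block_comb c3006 b3007 (Nat.zero_le _) (Nat.le_of_ble_eq_true rfl) rfl

theorem c3008 : Block F al 0 770304 769673 :=
  block_comb c3007 b3008 (Nat.zero_le _) (Nat.le_of_ble_eq_true rfl) rfl

theorem c3009 : Block F al 0 770560 769929 :=
  block_comb c3008 b3009 (Nat.zero_le _) (Nat.le_of_ble_eq_true rfl) rfl

theorem c3010 : Block F al 0 770816 770185 :=
  block_comb c3009 b3010 (Nat.zero_le _) (Nat.le_of_ble_eq_true rfl) rfl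

theorem c3011 : Block F al 0 771072 770441 :=
  block_comb c3010 b3011 (Nat.zero_le _) (Nat.le_of_ble_eq_true rfl) rfl

theorem c3012 : Block F al 0 771328 770697 :=
  block_comb c3011 b3012 (Nat.zero_le _) (Nat.le_of_ble_eq_true rfl) rfl

theorem c3013 : Block F al 0 771584 770953 :=
  block_comb c3012 b3013 (Nat.zero_le _) (Nat.le_of_ble_eq_true rfl) rfl

theorem c3014 : Block F al 0 771840 771209 :=
  block_comb c3013 b3014 (Nat.zero_le _) (Nat.le_of_ble_eq_true rfl) rfl

theorem c3015 : Block F al 0 772096 771465 :=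
  block_comb c3014 b3015 (Nat.zero_le _) (Nat.le_of_ble_eq_true rfl) rfl

theorem c3016 : Block F al 0 772352 771721 :=
  block_comb c3015 b3016 (Nat.zero_le _) (Nat.le_of_ble_eq_true rfl) rfl

theorem c3017 : Block F al 0 772608 771977 :=
  block_comb c3016 b3017 (Nat.zero_le _) (Nat.le_of_ble_eq_true rfl) rfl

theorem c3018 : Block F al 0 772864 772233 :=
  block_comb c3017 b3018 (Nat.zero_le _) (Nat.le_of_ble_eq_true rfl) rfl

theorem c3019 : Block F al 0 773120 772489 :=
  block_comb c3018 b3019 (Nat.zero_le _) (Nat.le_of_ble_eq_true rfl) rfl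

theorem c3020 : Block F al 0 773376 772745 :=
  block_comb c3019 b3020 (Nat.zero_le _) (Nat.le_of_ble_eq_true rfl) rfl

theorem c3021 : Block F al 0 773632 773001 :=
  block_comb c3020 b3021 (Nat.zero_le _) (Nat.le_of_ble_eq_true rfl) rfl

theorem c3022 : Block F al 0 773888 773257 :=
  block_comb c3021 b3022 (Nat.zero_le _) (Nat.le_of_ble_eq_true rfl) rfl

theorem c3023 : Block F al 0 774144 773513 :=
  block_comb c3022 b3023 (Nat.zero_le _) (Nat.le_of_ble_eq_true rfl) rfl

theorem c3024 : Block F al 0 774400 773769 :=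
  block_comb c3023 b3024 (Nat.zero_le _) (Nat.le_of_ble_eq_true rfl) rfl

theorem c3025 : Block F al 0 774656 774025 :=
  block_comb c3024 b3025 (Nat.zero_le _) (Nat.le_of_ble_eq_true rfl) rfl

theorem c3026 : Block F al 0 774912 774281 :=
  block_comb c3025 b3026 (Nat.zero_le _) (Nat.le_of_ble_eq_true rfl) rfl

theorem c3027 : Block F al 0 775168 774537 :=
  block_comb c3026 b3027 (Nat.zero_le _) (Nat.le_of_ble_eq_true rfl) rfl

theorem c3028 : Block F al 0 775424 774793 :=
  block_comb c3027 b3028 (Nat.zero_le _) (Nat.le_of_ble_eq_true rfl) rfl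

theorem c3029 : Block F al 0 775680 775049 :=
  block_comb c3028 b3029 (Nat.zero_le _) (Nat.le_of_ble_eq_true rfl) rfl

theorem c3030 : Block F al 0 775936 775305 :=
  block_comb c3029 b3030 (Nat.zero_le _) (Nat.le_of_ble_eq_true rfl) rfl

theorem c3031 : Block F al 0 776192 775561 :=
  block_comb c3030 b3031 (Nat.zero_le _) (Nat.le_of_ble_eq_true rfl) rfl

theorem c3032 : Block F al 0 776448 775817 :=
  block_comb c3031 b3032 (Nat.zero_le _) (Nat.le_of_ble_eq_true rfl) rfl

theorem c3033 : Block F al 0 776704 776073 :=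
  block_comb c3032 b3033 (Nat.zero_le _) (Nat.le_of_ble_eq_true rfl) rfl

theorem c3034 : Block F al 0 776960 776329 :=
  block_comb c3033 b3034 (Nat.zero_le _) (Nat.le_of_ble_eq_true rfl) rfl

theorem c3035 : Block F al 0 777216 776585 :=
  block_comb c3034 b3035 (Nat.zero_le _) (Nat.le_of_ble_eq_true rfl) rfl

theorem c3036 : Block F al 0 777472 776841 :=
  block_comb c3035 b3036 (Nat.zero_le _) (Nat.le_of_ble_eq_true rfl) rfl

theorem c3037 : Block F al 0 777728 777097 :=
  block_comb c3036 b3037 (Nat.zero_le _) (Nat.le_of_ble_eq_true rfl) rfl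

theorem c3038 : Block F al 0 777984 777353 :=
  block_comb c3037 b3038 (Nat.zero_le _) (Nat.le_of_ble_eq_true rfl) rfl

theorem c3039 : Block F al 0 778240 777609 :=
  block_comb c3038 b3039 (Nat.zero_le _) (Nat.le_of_ble_eq_true rfl) rfl

theorem c3040 : Block F al 0 778496 777865 :=
  block_comb c3039 b3040 (Nat.zero_le _) (Nat.le_of_ble_eq_true rfl) rfl

theorem c3041 : Block F al 0 778752 778121 :=
  block_comb c3040 b3041 (Nat.zero_le _) (Nat.le_of_ble_eq_true rfl) rfl

theorem c3042 : Block F al 0 779008 778377 :=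
  block_comb c3041 b3042 (Nat.zero_le _) (Nat.le_of_ble_eq_true rfl) rfl

theorem c3043 : Block F al 0 779264 778633 :=
  block_comb c3042 b3043 (Nat.zero_le _) (Nat.le_of_ble_eq_true rfl) rfl

theorem c3044 : Block F al 0 779520 778889 :=
  block_comb c3043 b3044 (Nat.zero_le _) (Nat.le_of_ble_eq_true rfl) rfl

theorem c3045 : Block F al 0 779776 779145 :=
  block_comb c3044 b3045 (Nat.zero_le _) (Nat.le_of_ble_eq_true rfl) rfl

theorem c3046 : Block F al 0 780032 779401 :=
  block_comb c3045 b3046 (Nat.zero_le _) (Nat.le_of_ble_eq_true rfl) rfl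

theorem c3047 : Block F al 0 780288 779657 :=
  block_comb c3046 b3047 (Nat.zero_le _) (Nat.le_of_ble_eq_true rfl) rfl

theorem c3048 : Block F al 0 780544 779913 :=
  block_comb c3047 b3048 (Nat.zero_le _) (Nat.le_of_ble_eq_true rfl) rfl

theorem c3049 : Block F al 0 780800 780169 :=
  block_comb c3048 b3049 (Nat.zero_le _) (Nat.le_of_ble_eq_true rfl) rfl

theorem c3050 : Block F al 0 781056 780425 :=
  block_comb c3049 b3050 (Nat.zero_le _) (Nat.le_of_ble_eq_true rfl) rfl

theorem c3051 : Block F al 0 781312 780681 :=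
  block_comb c3050 b3051 (Nat.zero_le _) (Nat.le_of_ble_eq_true rfl) rfl

theorem c3052 : Block F al 0 781568 780937 :=
  block_comb c3051 b3052 (Nat.zero_le _) (Nat.le_of_ble_eq_true rfl) rfl

theorem c3053 : Block F al 0 781824 781193 :=
  block_comb c3052 b3053 (Nat.zero_le _) (Nat.le_of_ble_eq_true rfl) rfl

theorem c3054 : Block F al 0 782080 781449 :=
  block_comb c3053 b3054 (Nat.zero_le _) (Nat.le_of_ble_eq_true rfl) rfl

theorem c3055 : Block F al 0 782336 781705 :=
  block_comb c3054 b3055 (Nat.zero_le _) (Nat.le_of_ble_eq_true rfl) rfl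

theorem c3056 : Block F al 0 782592 781961 :=
  block_comb c3055 b3056 (Nat.zero_le _) (Nat.le_of_ble_eq_true rfl) rfl

theorem c3057 : Block F al 0 782848 782217 :=
  block_comb c3056 b3057 (Nat.zero_le _) (Nat.le_of_ble_eq_true rfl) rfl

theorem c3058 : Block F al 0 783104 782473 :=
  block_comb c3057 b3058 (Nat.zero_le _) (Nat.le_of_ble_eq_true rfl) rfl

theorem c3059 : Block F al 0 783360 782729 :=
  block_comb c3058 b3059 (Nat.zero_le _) (Nat.le_of_ble_eq_true rfl) rfl

theorem c3060 : Block F al 0 783616 782985 :=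
  block_comb c3059 b3060 (Nat.zero_le _) (Nat.le_of_ble_eq_true rfl) rfl

theorem c3061 : Block F al 0 783872 783241 :=
  block_comb c3060 b3061 (Nat.zero_le _) (Nat.le_of_ble_eq_true rfl) rfl

theorem c3062 : Block F al 0 784128 783497 :=
  block_comb c3061 b3062 (Nat.zero_le _) (Nat.le_of_ble_eq_true rfl) rfl

theorem c3063 : Block F al 0 784384 783753 :=
  block_comb c3062 b3063 (Nat.zero_le _) (Nat.le_of_ble_eq_true rfl) rfl

theorem c3064 : Block F al 0 784640 784009 :=
  block_comb c3063 b3064 (Nat.zero_le _) (Nat.le_of_ble_eq_true rfl) rfl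

theorem c3065 : Block F al 0 784896 784265 :=
  block_comb c3064 b3065 (Nat.zero_le _) (Nat.le_of_ble_eq_true rfl) rfl

theorem c3066 : Block F al 0 785152 784521 :=
  block_comb c3065 b3066 (Nat.zero_le _) (Nat.le_of_ble_eq_true rfl) rfl

theorem c3067 : Block F al 0 785408 784777 :=
  block_comb c3066 b3067 (Nat.zero_le _) (Nat.le_of_ble_eq_true rfl) rfl

theorem c3068 : Block F al 0 785664 785033 :=
  block_comb c3067 b3068 (Nat.zero_le _) (Nat.le_of_ble_eq_true rfl) rfl

theorem c3069 : Block F al 0 785920 785289 :=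
  block_comb c3068 b3069 (Nat.zero_le _) (Nat.le_of_ble_eq_true rfl) rfl

theorem c3070 : Block F al 0 786176 785545 :=
  block_comb c3069 b3070 (Nat.zero_le _) (Nat.le_of_ble_eq_true rfl) rfl

theorem c3071 : Block F al 0 786432 785801 :=
  block_comb c3070 b3071 (Nat.zero_le _) (Nat.le_of_ble_eq_true rfl) rfl

theorem c3072 : Block F al 0 786688 786057 :=
  block_comb c3071 b3072 (Nat.zero_le _) (Nat.le_of_ble_eq_true rfl) rfl

theorem c3073 : Block F al 0 786944 786313 :=
  block_comb c3072 b3073 (Nat.zero_le _) (Nat.le_of_ble_eq_true rfl) rfl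

theorem c3074 : Block F al 0 787200 786569 :=
  block_comb c3073 b3074 (Nat.zero_le _) (Nat.le_of_ble_eq_true rfl) rfl

theorem c3075 : Block F al 0 787456 786825 :=
  block_comb c3074 b3075 (Nat.zero_le _) (Nat.le_of_ble_eq_true rfl) rfl

theorem c3076 : Block F al 0 787712 787081 :=
  block_comb c3075 b3076 (Nat.zero_le _) (Nat.le_of_ble_eq_true rfl) rfl

theorem c3077 : Block F al 0 787968 787337 :=
  block_comb c3076 b3077 (Nat.zero_le _) (Nat.le_of_ble_eq_true rfl) rfl

theorem c3078 : Block F al 0 788224 787593 :=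
  block_comb c3077 b3078 (Nat.zero_le _) (Nat.le_of_ble_eq_true rfl) rfl

theorem c3079 : Block F al 0 788480 787849 :=
  block_comb c3078 b3079 (Nat.zero_le _) (Nat.le_of_ble_eq_true rfl) rfl

theorem c3080 : Block F al 0 788736 788105 :=
  block_comb c3079 b3080 (Nat.zero_le _) (Nat.le_of_ble_eq_true rfl) rfl

theorem c3081 : Block F al 0 788992 788361 :=
  block_comb c3080 b3081 (Nat.zero_le _) (Nat.le_of_ble_eq_true rfl) rfl

theorem c3082 : Block F al 0 789248 788617 :=
  block_comb c3081 b3082 (Nat.zero_le _) (Nat.le_of_ble_eq_true rfl) rfl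

theorem c3083 : Block F al 0 789504 788873 :=
  block_comb c3082 b3083 (Nat.zero_le _) (Nat.le_of_ble_eq_true rfl) rfl

theorem c3084 : Block F al 0 789760 789129 :=
  block_comb c3083 b3084 (Nat.zero_le _) (Nat.le_of_ble_eq_true rfl) rfl

theorem c3085 : Block F al 0 790016 789385 :=
  block_comb c3084 b3085 (Nat.zero_le _) (Nat.le_of_ble_eq_true rfl) rfl

theorem c3086 : Block F al 0 790272 789641 :=
  block_comb c3085 b3086 (Nat.zero_le _) (Nat.le_of_ble_eq_true rfl) rfl

theorem c3087 : Block F al 0 790528 789897 :=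
  block_comb c3086 b3087 (Nat.zero_le _) (Nat.le_of_ble_eq_true rfl) rfl

theorem c3088 : Block F al 0 790784 790153 :=
  block_comb c3087 b3088 (Nat.zero_le _) (Nat.le_of_ble_eq_true rfl) rfl

theorem c3089 : Block F al 0 791040 790409 :=
  block_comb c3088 b3089 (Nat.zero_le _) (Nat.le_of_ble_eq_true rfl) rfl

theorem c3090 : Block F al 0 791296 790665 :=
  block_comb c3089 b3090 (Nat.zero_le _) (Nat.le_of_ble_eq_true rfl) rfl

theorem c3091 : Block F al 0 791552 790921 :=
  block_comb c3090 b3091 (Nat.zero_le _) (Nat.le_of_ble_eq_true rfl) rfl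

theorem c3092 : Block F al 0 791808 791177 :=
  block_comb c3091 b3092 (Nat.zero_le _) (Nat.le_of_ble_eq_true rfl) rfl

theorem c3093 : Block F al 0 792064 791433 :=
  block_comb c3092 b3093 (Nat.zero_le _) (Nat.le_of_ble_eq_true rfl) rfl

theorem c3094 : Block F al 0 792320 791689 :=
  block_comb c3093 b3094 (Nat.zero_le _) (Nat.le_of_ble_eq_true rfl) rfl

theorem c3095 : Block F al 0 792576 791945 :=
  block_comb c3094 b3095 (Nat.zero_le _) (Nat.le_of_ble_eq_true rfl) rfl

theorem c3096 : Block F al 0 792832 792201 :=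
  block_comb c3095 b3096 (Nat.zero_le _) (Nat.le_of_ble_eq_true rfl) rfl

theorem c3097 : Block F al 0 793088 792457 :=
  block_comb c3096 b3097 (Nat.zero_le _) (Nat.le_of_ble_eq_true rfl) rfl

theorem c3098 : Block F al 0 793344 792713 :=
  block_comb c3097 b3098 (Nat.zero_le _) (Nat.le_of_ble_eq_true rfl) rfl

theorem c3099 : Block F al 0 793600 792969 :=
  block_comb c3098 b3099 (Nat.zero_le _) (Nat.le_of_ble_eq_true rfl) rfl

theorem c3100 : Block F al 0 793856 793225 :=
  block_comb c3099 b3100 (Nat.zero_le _) (Nat.le_of_ble_eq_true rfl) rfl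

theorem c3101 : Block F al 0 794112 793481 :=
  block_comb c3100 b3101 (Nat.zero_le _) (Nat.le_of_ble_eq_true rfl) rfl

theorem c3102 : Block F al 0 794368 793737 :=
  block_comb c3101 b3102 (Nat.zero_le _) (Nat.le_of_ble_eq_true rfl) rfl

theorem c3103 : Block F al 0 794624 793993 :=
  block_comb c3102 b3103 (Nat.zero_le _) (Nat.le_of_ble_eq_true rfl) rfl

theorem c3104 : Block F al 0 794880 794249 :=
  block_comb c3103 b3104 (Nat.zero_le _) (Nat.le_of_ble_eq_true rfl) rfl

theorem c3105 : Block F al 0 795136 794505 :=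
  block_comb c3104 b3105 (Nat.zero_le _) (Nat.le_of_ble_eq_true rfl) rfl

theorem c3106 : Block F al 0 795392 794761 :=
  block_comb c3105 b3106 (Nat.zero_le _) (Nat.le_of_ble_eq_true rfl) rfl

theorem c3107 : Block F al 0 795648 795017 :=
  block_comb c3106 b3107 (Nat.zero_le _) (Nat.le_of_ble_eq_true rfl) rfl

theorem c3108 : Block F al 0 795904 795273 :=
  block_comb c3107 b3108 (Nat.zero_le _) (Nat.le_of_ble_eq_true rfl) rfl

theorem c3109 : Block F al 0 796160 795529 :=
  block_comb c3108 b3109 (Nat.zero_le _) (Nat.le_of_ble_eq_true rfl) rfl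

theorem c3110 : Block F al 0 796416 795785 :=
  block_comb c3109 b3110 (Nat.zero_le _) (Nat.le_of_ble_eq_true rfl) rfl

theorem c3111 : Block F al 0 796672 796041 :=
  block_comb c3110 b3111 (Nat.zero_le _) (Nat.le_of_ble_eq_true rfl) rfl

theorem c3112 : Block F al 0 796928 796297 :=
  block_comb c3111 b3112 (Nat.zero_le _) (Nat.le_of_ble_eq_true rfl) rfl

theorem c3113 : Block F al 0 797184 796553 :=
  block_comb c3112 b3113 (Nat.zero_le _) (Nat.le_of_ble_eq_true rfl) rfl

theorem c3114 : Block F al 0 797440 796809 :=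
  block_comb c3113 b3114 (Nat.zero_le _) (Nat.le_of_ble_eq_true rfl) rfl

theorem c3115 : Block F al 0 797696 797065 :=
  block_comb c3114 b3115 (Nat.zero_le _) (Nat.le_of_ble_eq_true rfl) rfl

theorem c3116 : Block F al 0 797952 797321 :=
  block_comb c3115 b3116 (Nat.zero_le _) (Nat.le_of_ble_eq_true rfl) rfl

theorem c3117 : Block F al 0 798208 797577 :=
  block_comb c3116 b3117 (Nat.zero_le _) (Nat.le_of_ble_eq_true rfl) rfl

theorem c3118 : Block F al 0 798464 797833 :=
  block_comb c3117 b3118 (Nat.zero_le _) (Nat.le_of_ble_eq_true rfl) rfl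

theorem c3119 : Block F al 0 798720 798089 :=
  block_comb c3118 b3119 (Nat.zero_le _) (Nat.le_of_ble_eq_true rfl) rfl

theorem c3120 : Block F al 0 798976 798345 :=
  block_comb c3119 b3120 (Nat.zero_le _) (Nat.le_of_ble_eq_true rfl) rfl

theorem c3121 : Block F al 0 799232 798601 :=
  block_comb c3120 b3121 (Nat.zero_le _) (Nat.le_of_ble_eq_true rfl) rfl

theorem c3122 : Block F al 0 799488 798857 :=
  block_comb c3121 b3122 (Nat.zero_le _) (Nat.le_of_ble_eq_true rfl) rfl

theorem c3123 : Block F al 0 799744 799113 :=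
  block_comb c3122 b3123 (Nat.zero_le _) (Nat.le_of_ble_eq_true rfl) rfl

theorem c3124 : Block F al 0 800000 799369 :=
  block_comb c3123 b3124 (Nat.zero_le _) (Nat.le_of_ble_eq_true rfl) rfl

theorem c3125 : Block F al 0 800256 799625 :=
  block_comb c3124 b3125 (Nat.zero_le _) (Nat.le_of_ble_eq_true rfl) rfl

theorem c3126 : Block F al 0 800512 799881 :=
  block_comb c3125 b3126 (Nat.zero_le _) (Nat.le_of_ble_eq_true rfl) rfl

theorem c3127 : Block F al 0 800768 800137 :=
  block_comb c3126 b3127 (Nat.zero_le _) (Nat.le_of_ble_eq_true rfl) rfl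

theorem c3128 : Block F al 0 801024 800393 :=
  block_comb c3127 b3128 (Nat.zero_le _) (Nat.le_of_ble_eq_true rfl) rfl

theorem c3129 : Block F al 0 801280 800649 :=
  block_comb c3128 b3129 (Nat.zero_le _) (Nat.le_of_ble_eq_true rfl) rfl

theorem c3130 : Block F al 0 801536 800905 :=
  block_comb c3129 b3130 (Nat.zero_le _) (Nat.le_of_ble_eq_true rfl) rfl

theorem c3131 : Block F al 0 801792 801161 :=
  block_comb c3130 b3131 (Nat.zero_le _) (Nat.le_of_ble_eq_true rfl) rfl

theorem c3132 : Block F al 0 802048 801417 :=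
  block_comb c3131 b3132 (Nat.zero_le _) (Nat.le_of_ble_eq_true rfl) rfl

theorem c3133 : Block F al 0 802304 801673 :=
  block_comb c3132 b3133 (Nat.zero_le _) (Nat.le_of_ble_eq_true rfl) rfl

theorem c3134 : Block F al 0 802560 801929 :=
  block_comb c3133 b3134 (Nat.zero_le _) (Nat.le_of_ble_eq_true rfl) rfl

theorem c3135 : Block F al 0 802816 802185 :=
  block_comb c3134 b3135 (Nat.zero_le _) (Nat.le_of_ble_eq_true rfl) rfl

theorem c3136 : Block F al 0 803072 802441 :=
  block_comb c3135 b3136 (Nat.zero_le _) (Nat.le_of_ble_eq_true rfl) rfl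

theorem c3137 : Block F al 0 803328 802697 :=
  block_comb c3136 b3137 (Nat.zero_le _) (Nat.le_of_ble_eq_true rfl) rfl

theorem c3138 : Block F al 0 803584 802953 :=
  block_comb c3137 b3138 (Nat.zero_le _) (Nat.le_of_ble_eq_true rfl) rfl

theorem c3139 : Block F al 0 803840 803209 :=
  block_comb c3138 b3139 (Nat.zero_le _) (Nat.le_of_ble_eq_true rfl) rfl

theorem c3140 : Block F al 0 804096 803465 :=
  block_comb c3139 b3140 (Nat.zero_le _) (Nat.le_of_ble_eq_true rfl) rfl

theorem c3141 : Block F al 0 804352 803721 :=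
  block_comb c3140 b3141 (Nat.zero_le _) (Nat.le_of_ble_eq_true rfl) rfl

theorem c3142 : Block F al 0 804608 803977 :=
  block_comb c3141 b3142 (Nat.zero_le _) (Nat.le_of_ble_eq_true rfl) rfl

theorem c3143 : Block F al 0 804864 804233 :=
  block_comb c3142 b3143 (Nat.zero_le _) (Nat.le_of_ble_eq_true rfl) rfl

theorem c3144 : Block F al 0 805120 804489 :=
  block_comb c3143 b3144 (Nat.zero_le _) (Nat.le_of_ble_eq_true rfl) rfl

theorem c3145 : Block F al 0 805376 804745 :=
  block_comb c3144 b3145 (Nat.zero_le _) (Nat.le_of_ble_eq_true rfl) rfl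

theorem c3146 : Block F al 0 805632 805001 :=
  block_comb c3145 b3146 (Nat.zero_le _) (Nat.le_of_ble_eq_true rfl) rfl

theorem c3147 : Block F al 0 805888 805257 :=
  block_comb c3146 b3147 (Nat.zero_le _) (Nat.le_of_ble_eq_true rfl) rfl

theorem c3148 : Block F al 0 806144 805513 :=
  block_comb c3147 b3148 (Nat.zero_le _) (Nat.le_of_ble_eq_true rfl) rfl

theorem c3149 : Block F al 0 806400 805769 :=
  block_comb c3148 b3149 (Nat.zero_le _) (Nat.le_of_ble_eq_true rfl) rfl

theorem c3150 : Block F al 0 806656 806025 :=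
  block_comb c3149 b3150 (Nat.zero_le _) (Nat.le_of_ble_eq_true rfl) rfl

theorem c3151 : Block F al 0 806912 806281 :=
  block_comb c3150 b3151 (Nat.zero_le _) (Nat.le_of_ble_eq_true rfl) rfl

theorem c3152 : Block F al 0 807168 806537 :=
  block_comb c3151 b3152 (Nat.zero_le _) (Nat.le_of_ble_eq_true rfl) rfl

theorem c3153 : Block F al 0 807424 806793 :=
  block_comb c3152 b3153 (Nat.zero_le _) (Nat.le_of_ble_eq_true rfl) rfl

theorem c3154 : Block F al 0 807680 807049 :=
  block_comb c3153 b3154 (Nat.zero_le _) (Nat.le_of_ble_eq_true rfl) rfl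

theorem c3155 : Block F al 0 807936 807305 :=
  block_comb c3154 b3155 (Nat.zero_le _) (Nat.le_of_ble_eq_true rfl) rfl

theorem c3156 : Block F al 0 808192 807561 :=
  block_comb c3155 b3156 (Nat.zero_le _) (Nat.le_of_ble_eq_true rfl) rfl

theorem c3157 : Block F al 0 808448 807817 :=
  block_comb c3156 b3157 (Nat.zero_le _) (Nat.le_of_ble_eq_true rfl) rfl

theorem c3158 : Block F al 0 808704 808073 :=
  block_comb c3157 b3158 (Nat.zero_le _) (Nat.le_of_ble_eq_true rfl) rfl

theorem c3159 : Block F al 0 808960 808329 :=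
  block_comb c3158 b3159 (Nat.zero_le _) (Nat.le_of_ble_eq_true rfl) rfl

theorem c3160 : Block F al 0 809216 808585 :=
  block_comb c3159 b3160 (Nat.zero_le _) (Nat.le_of_ble_eq_true rfl) rfl

theorem c3161 : Block F al 0 809472 808841 :=
  block_comb c3160 b3161 (Nat.zero_le _) (Nat.le_of_ble_eq_true rfl) rfl

theorem c3162 : Block F al 0 809728 809097 :=
  block_comb c3161 b3162 (Nat.zero_le _) (Nat.le_of_ble_eq_true rfl) rfl

theorem c3163 : Block F al 0 809984 809353 :=
  block_comb c3162 b3163 (Nat.zero_le _) (Nat.le_of_ble_eq_true rfl) rfl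

theorem c3164 : Block F al 0 810240 809609 :=
  block_comb c3163 b3164 (Nat.zero_le _) (Nat.le_of_ble_eq_true rfl) rfl

theorem c3165 : Block F al 0 810496 809865 :=
  block_comb c3164 b3165 (Nat.zero_le _) (Nat.le_of_ble_eq_true rfl) rfl

theorem c3166 : Block F al 0 810752 810121 :=
  block_comb c3165 b3166 (Nat.zero_le _) (Nat.le_of_ble_eq_true rfl) rfl

theorem c3167 : Block F al 0 811008 810377 :=
  block_comb c3166 b3167 (Nat.zero_le _) (Nat.le_of_ble_eq_true rfl) rfl

theorem c3168 : Block F al 0 811264 810633 :=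
  block_comb c3167 b3168 (Nat.zero_le _) (Nat.le_of_ble_eq_true rfl) rfl

theorem c3169 : Block F al 0 811520 810889 :=
  block_comb c3168 b3169 (Nat.zero_le _) (Nat.le_of_ble_eq_true rfl) rfl

theorem c3170 : Block F al 0 811776 811145 :=
  block_comb c3169 b3170 (Nat.zero_le _) (Nat.le_of_ble_eq_true rfl) rfl

theorem c3171 : Block F al 0 812032 811401 :=
  block_comb c3170 b3171 (Nat.zero_le _) (Nat.le_of_ble_eq_true rfl) rfl

theorem c3172 : Block F al 0 812288 811657 :=
  block_comb c3171 b3172 (Nat.zero_le _) (Nat.le_of_ble_eq_true rfl) rfl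

theorem c3173 : Block F al 0 812544 811913 :=
  block_comb c3172 b3173 (Nat.zero_le _) (Nat.le_of_ble_eq_true rfl) rfl

theorem c3174 : Block F al 0 812800 812169 :=
  block_comb c3173 b3174 (Nat.zero_le _) (Nat.le_of_ble_eq_true rfl) rfl

theorem c3175 : Block F al 0 813056 812425 :=
  block_comb c3174 b3175 (Nat.zero_le _) (Nat.le_of_ble_eq_true rfl) rfl

theorem c3176 : Block F al 0 813312 812681 :=
  block_comb c3175 b3176 (Nat.zero_le _) (Nat.le_of_ble_eq_true rfl) rfl

theorem c3177 : Block F al 0 813568 812937 :=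
  block_comb c3176 b3177 (Nat.zero_le _) (Nat.le_of_ble_eq_true rfl) rfl

theorem c3178 : Block F al 0 813824 813193 :=
  block_comb c3177 b3178 (Nat.zero_le _) (Nat.le_of_ble_eq_true rfl) rfl

theorem c3179 : Block F al 0 814080 813449 :=
  block_comb c3178 b3179 (Nat.zero_le _) (Nat.le_of_ble_eq_true rfl) rfl

theorem c3180 : Block F al 0 814336 813705 :=
  block_comb c3179 b3180 (Nat.zero_le _) (Nat.le_of_ble_eq_true rfl) rfl

theorem c3181 : Block F al 0 814592 813961 :=
  block_comb c3180 b3181 (Nat.zero_le _) (Nat.le_of_ble_eq_true rfl) rfl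

theorem c3182 : Block F al 0 814848 814217 :=
  block_comb c3181 b3182 (Nat.zero_le _) (Nat.le_of_ble_eq_true rfl) rfl

theorem c3183 : Block F al 0 815104 814473 :=
  block_comb c3182 b3183 (Nat.zero_le _) (Nat.le_of_ble_eq_true rfl) rfl

theorem c3184 : Block F al 0 815360 814729 :=
  block_comb c3183 b3184 (Nat.zero_le _) (Nat.le_of_ble_eq_true rfl) rfl

theorem c3185 : Block F al 0 815616 814985 :=
  block_comb c3184 b3185 (Nat.zero_le _) (Nat.le_of_ble_eq_true rfl) rfl

theorem c3186 : Block F al 0 815872 815241 :=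
  block_comb c3185 b3186 (Nat.zero_le _) (Nat.le_of_ble_eq_true rfl) rfl

theorem c3187 : Block F al 0 816128 815497 :=
  block_comb c3186 b3187 (Nat.zero_le _) (Nat.le_of_ble_eq_true rfl) rfl

theorem c3188 : Block F al 0 816384 815753 :=
  block_comb c3187 b3188 (Nat.zero_le _) (Nat.le_of_ble_eq_true rfl) rfl

theorem c3189 : Block F al 0 816640 816009 :=
  block_comb c3188 b3189 (Nat.zero_le _) (Nat.le_of_ble_eq_true rfl) rfl

theorem c3190 : Block F al 0 816896 816265 :=
  block_comb c3189 b3190 (Nat.zero_le _) (Nat.le_of_ble_eq_true rfl) rfl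

theorem c3191 : Block F al 0 817152 816521 :=
  block_comb c3190 b3191 (Nat.zero_le _) (Nat.le_of_ble_eq_true rfl) rfl

theorem c3192 : Block F al 0 817408 816777 :=
  block_comb c3191 b3192 (Nat.zero_le _) (Nat.le_of_ble_eq_true rfl) rfl

theorem c3193 : Block F al 0 817664 817033 :=
  block_comb c3192 b3193 (Nat.zero_le _) (Nat.le_of_ble_eq_true rfl) rfl

theorem c3194 : Block F al 0 817920 817289 :=
  block_comb c3193 b3194 (Nat.zero_le _) (Nat.le_of_ble_eq_true rfl) rfl

theorem c3195 : Block F al 0 818176 817545 :=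
  block_comb c3194 b3195 (Nat.zero_le _) (Nat.le_of_ble_eq_true rfl) rfl

theorem c3196 : Block F al 0 818432 817801 :=
  block_comb c3195 b3196 (Nat.zero_le _) (Nat.le_of_ble_eq_true rfl) rfl

theorem c3197 : Block F al 0 818688 818057 :=
  block_comb c3196 b3197 (Nat.zero_le _) (Nat.le_of_ble_eq_true rfl) rfl

theorem c3198 : Block F al 0 818944 818313 :=
  block_comb c3197 b3198 (Nat.zero_le _) (Nat.le_of_ble_eq_true rfl) rfl

theorem c3199 : Block F al 0 819200 818569 :=
  block_comb c3198 b3199 (Nat.zero_le _) (Nat.le_of_ble_eq_true rfl) rfl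

theorem c3200 : Block F al 0 819456 818825 :=
  block_comb c3199 b3200 (Nat.zero_le _) (Nat.le_of_ble_eq_true rfl) rfl

theorem c3201 : Block F al 0 819712 819081 :=
  block_comb c3200 b3201 (Nat.zero_le _) (Nat.le_of_ble_eq_true rfl) rfl

theorem c3202 : Block F al 0 819968 819337 :=
  block_comb c3201 b3202 (Nat.zero_le _) (Nat.le_of_ble_eq_true rfl) rfl

theorem c3203 : Block F al 0 820224 819593 :=
  block_comb c3202 b3203 (Nat.zero_le _) (Nat.le_of_ble_eq_true rfl) rfl

theorem c3204 : Block F al 0 820480 819849 :=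
  block_comb c3203 b3204 (Nat.zero_le _) (Nat.le_of_ble_eq_true rfl) rfl

theorem c3205 : Block F al 0 820736 820105 :=
  block_comb c3204 b3205 (Nat.zero_le _) (Nat.le_of_ble_eq_true rfl) rfl

theorem c3206 : Block F al 0 820992 820361 :=
  block_comb c3205 b3206 (Nat.zero_le _) (Nat.le_of_ble_eq_true rfl) rfl

theorem c3207 : Block F al 0 821248 820617 :=
  block_comb c3206 b3207 (Nat.zero_le _) (Nat.le_of_ble_eq_true rfl) rfl

theorem c3208 : Block F al 0 821504 820873 :=
  block_comb c3207 b3208 (Nat.zero_le _) (Nat.le_of_ble_eq_true rfl) rfl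

theorem c3209 : Block F al 0 821760 821129 :=
  block_comb c3208 b3209 (Nat.zero_le _) (Nat.le_of_ble_eq_true rfl) rfl

theorem c3210 : Block F al 0 822016 821385 :=
  block_comb c3209 b3210 (Nat.zero_le _) (Nat.le_of_ble_eq_true rfl) rfl

theorem c3211 : Block F al 0 822272 821641 :=
  block_comb c3210 b3211 (Nat.zero_le _) (Nat.le_of_ble_eq_true rfl) rfl

theorem c3212 : Block F al 0 822528 821897 :=
  block_comb c3211 b3212 (Nat.zero_le _) (Nat.le_of_ble_eq_true rfl) rfl

theorem c3213 : Block F al 0 822784 822153 :=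
  block_comb c3212 b3213 (Nat.zero_le _) (Nat.le_of_ble_eq_true rfl) rfl

theorem c3214 : Block F al 0 823040 822409 :=
  block_comb c3213 b3214 (Nat.zero_le _) (Nat.le_of_ble_eq_true rfl) rfl

theorem c3215 : Block F al 0 823296 822665 :=
  block_comb c3214 b3215 (Nat.zero_le _) (Nat.le_of_ble_eq_true rfl) rfl

theorem c3216 : Block F al 0 823552 822921 :=
  block_comb c3215 b3216 (Nat.zero_le _) (Nat.le_of_ble_eq_true rfl) rfl

theorem c3217 : Block F al 0 823808 823177 :=
  block_comb c3216 b3217 (Nat.zero_le _) (Nat.le_of_ble_eq_true rfl) rfl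

theorem c3218 : Block F al 0 824064 823433 :=
  block_comb c3217 b3218 (Nat.zero_le _) (Nat.le_of_ble_eq_true rfl) rfl

theorem c3219 : Block F al 0 824320 823689 :=
  block_comb c3218 b3219 (Nat.zero_le _) (Nat.le_of_ble_eq_true rfl) rfl

theorem c3220 : Block F al 0 824576 823945 :=
  block_comb c3219 b3220 (Nat.zero_le _) (Nat.le_of_ble_eq_true rfl) rfl

theorem c3221 : Block F al 0 824832 824201 :=
  block_comb c3220 b3221 (Nat.zero_le _) (Nat.le_of_ble_eq_true rfl) rfl

theorem c3222 : Block F al 0 825088 824457 :=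
  block_comb c3221 b3222 (Nat.zero_le _) (Nat.le_of_ble_eq_true rfl) rfl

theorem c3223 : Block F al 0 825344 824713 :=
  block_comb c3222 b3223 (Nat.zero_le _) (Nat.le_of_ble_eq_true rfl) rfl

theorem c3224 : Block F al 0 825600 824969 :=
  block_comb c3223 b3224 (Nat.zero_le _) (Nat.le_of_ble_eq_true rfl) rfl

theorem c3225 : Block F al 0 825856 825225 :=
  block_comb c3224 b3225 (Nat.zero_le _) (Nat.le_of_ble_eq_true rfl) rfl

theorem c3226 : Block F al 0 826112 825481 :=
  block_comb c3225 b3226 (Nat.zero_le _) (Nat.le_of_ble_eq_true rfl) rfl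

theorem c3227 : Block F al 0 826368 825737 :=
  block_comb c3226 b3227 (Nat.zero_le _) (Nat.le_of_ble_eq_true rfl) rfl

theorem c3228 : Block F al 0 826624 825993 :=
  block_comb c3227 b3228 (Nat.zero_le _) (Nat.le_of_ble_eq_true rfl) rfl

theorem c3229 : Block F al 0 826880 826249 :=
  block_comb c3228 b3229 (Nat.zero_le _) (Nat.le_of_ble_eq_true rfl) rfl

theorem c3230 : Block F al 0 827136 826505 :=
  block_comb c3229 b3230 (Nat.zero_le _) (Nat.le_of_ble_eq_true rfl) rfl

theorem c3231 : Block F al 0 827392 826761 :=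
  block_comb c3230 b3231 (Nat.zero_le _) (Nat.le_of_ble_eq_true rfl) rfl

theorem c3232 : Block F al 0 827648 827017 :=
  block_comb c3231 b3232 (Nat.zero_le _) (Nat.le_of_ble_eq_true rfl) rfl

theorem c3233 : Block F al 0 827904 827273 :=
  block_comb c3232 b3233 (Nat.zero_le _) (Nat.le_of_ble_eq_true rfl) rfl

theorem c3234 : Block F al 0 828160 827529 :=
  block_comb c3233 b3234 (Nat.zero_le _) (Nat.le_of_ble_eq_true rfl) rfl

theorem c3235 : Block F al 0 828416 827785 :=
  block_comb c3234 b3235 (Nat.zero_le _) (Nat.le_of_ble_eq_true rfl) rfl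

theorem c3236 : Block F al 0 828672 828041 :=
  block_comb c3235 b3236 (Nat.zero_le _) (Nat.le_of_ble_eq_true rfl) rfl

theorem c3237 : Block F al 0 828928 828297 :=
  block_comb c3236 b3237 (Nat.zero_le _) (Nat.le_of_ble_eq_true rfl) rfl

theorem c3238 : Block F al 0 829184 828553 :=
  block_comb c3237 b3238 (Nat.zero_le _) (Nat.le_of_ble_eq_true rfl) rfl

theorem c3239 : Block F al 0 829440 828809 :=
  block_comb c3238 b3239 (Nat.zero_le _) (Nat.le_of_ble_eq_true rfl) rfl

theorem c3240 : Block F al 0 829696 829065 :=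
  block_comb c3239 b3240 (Nat.zero_le _) (Nat.le_of_ble_eq_true rfl) rfl

theorem c3241 : Block F al 0 829952 829321 :=
  block_comb c3240 b3241 (Nat.zero_le _) (Nat.le_of_ble_eq_true rfl) rfl

theorem c3242 : Block F al 0 830208 829577 :=
  block_comb c3241 b3242 (Nat.zero_le _) (Nat.le_of_ble_eq_true rfl) rfl

theorem c3243 : Block F al 0 830464 829833 :=
  block_comb c3242 b3243 (Nat.zero_le _) (Nat.le_of_ble_eq_true rfl) rfl

theorem c3244 : Block F al 0 830720 830089 :=
  block_comb c3243 b3244 (Nat.zero_le _) (Nat.le_of_ble_eq_true rfl) rfl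

theorem c3245 : Block F al 0 830976 830345 :=
  block_comb c3244 b3245 (Nat.zero_le _) (Nat.le_of_ble_eq_true rfl) rfl

theorem c3246 : Block F al 0 831232 830601 :=
  block_comb c3245 b3246 (Nat.zero_le _) (Nat.le_of_ble_eq_true rfl) rfl

theorem c3247 : Block F al 0 831488 830857 :=
  block_comb c3246 b3247 (Nat.zero_le _) (Nat.le_of_ble_eq_true rfl) rfl

theorem c3248 : Block F al 0 831744 831113 :=
  block_comb c3247 b3248 (Nat.zero_le _) (Nat.le_of_ble_eq_true rfl) rfl

theorem c3249 : Block F al 0 832000 831369 :=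
  block_comb c3248 b3249 (Nat.zero_le _) (Nat.le_of_ble_eq_true rfl) rfl

theorem c3250 : Block F al 0 832256 831625 :=
  block_comb c3249 b3250 (Nat.zero_le _) (Nat.le_of_ble_eq_true rfl) rfl

theorem c3251 : Block F al 0 832512 831881 :=
  block_comb c3250 b3251 (Nat.zero_le _) (Nat.le_of_ble_eq_true rfl) rfl

theorem c3252 : Block F al 0 832768 832137 :=
  block_comb c3251 b3252 (Nat.zero_le _) (Nat.le_of_ble_eq_true rfl) rfl

theorem c3253 : Block F al 0 833024 832393 :=
  block_comb c3252 b3253 (Nat.zero_le _) (Nat.le_of_ble_eq_true rfl) rfl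

theorem c3254 : Block F al 0 833280 832649 :=
  block_comb c3253 b3254 (Nat.zero_le _) (Nat.le_of_ble_eq_true rfl) rfl

theorem c3255 : Block F al 0 833536 832905 :=
  block_comb c3254 b3255 (Nat.zero_le _) (Nat.le_of_ble_eq_true rfl) rfl

theorem c3256 : Block F al 0 833792 833161 :=
  block_comb c3255 b3256 (Nat.zero_le _) (Nat.le_of_ble_eq_true rfl) rfl

theorem c3257 : Block F al 0 834048 833417 :=
  block_comb c3256 b3257 (Nat.zero_le _) (Nat.le_of_ble_eq_true rfl) rfl

theorem c3258 : Block F al 0 834304 833673 :=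
  block_comb c3257 b3258 (Nat.zero_le _) (Nat.le_of_ble_eq_true rfl) rfl

theorem c3259 : Block F al 0 834560 833929 :=
  block_comb c3258 b3259 (Nat.zero_le _) (Nat.le_of_ble_eq_true rfl) rfl

theorem c3260 : Block F al 0 834816 834185 :=
  block_comb c3259 b3260 (Nat.zero_le _) (Nat.le_of_ble_eq_true rfl) rfl

theorem c3261 : Block F al 0 835072 834441 :=
  block_comb c3260 b3261 (Nat.zero_le _) (Nat.le_of_ble_eq_true rfl) rfl

theorem c3262 : Block F al 0 835328 834697 :=
  block_comb c3261 b3262 (Nat.zero_le _) (Nat.le_of_ble_eq_true rfl) rfl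

theorem c3263 : Block F al 0 835584 834953 :=
  block_comb c3262 b3263 (Nat.zero_le _) (Nat.le_of_ble_eq_true rfl) rfl

theorem c3264 : Block F al 0 835840 835209 :=
  block_comb c3263 b3264 (Nat.zero_le _) (Nat.le_of_ble_eq_true rfl) rfl

theorem c3265 : Block F al 0 836096 835465 :=
  block_comb c3264 b3265 (Nat.zero_le _) (Nat.le_of_ble_eq_true rfl) rfl

theorem c3266 : Block F al 0 836352 835721 :=
  block_comb c3265 b3266 (Nat.zero_le _) (Nat.le_of_ble_eq_true rfl) rfl

theorem c3267 : Block F al 0 836608 835977 :=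
  block_comb c3266 b3267 (Nat.zero_le _) (Nat.le_of_ble_eq_true rfl) rfl

theorem c3268 : Block F al 0 836864 836233 :=
  block_comb c3267 b3268 (Nat.zero_le _) (Nat.le_of_ble_eq_true rfl) rfl

theorem c3269 : Block F al 0 837120 836489 :=
  block_comb c3268 b3269 (Nat.zero_le _) (Nat.le_of_ble_eq_true rfl) rfl

theorem c3270 : Block F al 0 837376 836745 :=
  block_comb c3269 b3270 (Nat.zero_le _) (Nat.le_of_ble_eq_true rfl) rfl

theorem c3271 : Block F al 0 837632 837001 :=
  block_comb c3270 b3271 (Nat.zero_le _) (Nat.le_of_ble_eq_true rfl) rfl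

theorem c3272 : Block F al 0 837888 837257 :=
  block_comb c3271 b3272 (Nat.zero_le _) (Nat.le_of_ble_eq_true rfl) rfl

theorem c3273 : Block F al 0 838144 837513 :=
  block_comb c3272 b3273 (Nat.zero_le _) (Nat.le_of_ble_eq_true rfl) rfl

theorem c3274 : Block F al 0 838400 837769 :=
  block_comb c3273 b3274 (Nat.zero_le _) (Nat.le_of_ble_eq_true rfl) rfl

theorem c3275 : Block F al 0 838656 838025 :=
  block_comb c3274 b3275 (Nat.zero_le _) (Nat.le_of_ble_eq_true rfl) rfl

theorem c3276 : Block F al 0 838912 838281 :=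
  block_comb c3275 b3276 (Nat.zero_le _) (Nat.le_of_ble_eq_true rfl) rfl

theorem c3277 : Block F al 0 839168 838537 :=
  block_comb c3276 b3277 (Nat.zero_le _) (Nat.le_of_ble_eq_true rfl) rfl

theorem c3278 : Block F al 0 839424 838793 :=
  block_comb c3277 b3278 (Nat.zero_le _) (Nat.le_of_ble_eq_true rfl) rfl

theorem c3279 : Block F al 0 839680 839049 :=
  block_comb c3278 b3279 (Nat.zero_le _) (Nat.le_of_ble_eq_true rfl) rfl

theorem c3280 : Block F al 0 839936 839305 :=
  block_comb c3279 b3280 (Nat.zero_le _) (Nat.le_of_ble_eq_true rfl) rfl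

theorem c3281 : Block F al 0 840192 839561 :=
  block_comb c3280 b3281 (Nat.zero_le _) (Nat.le_of_ble_eq_true rfl) rfl

theorem c3282 : Block F al 0 840448 839817 :=
  block_comb c3281 b3282 (Nat.zero_le _) (Nat.le_of_ble_eq_true rfl) rfl

theorem c3283 : Block F al 0 840704 840073 :=
  block_comb c3282 b3283 (Nat.zero_le _) (Nat.le_of_ble_eq_true rfl) rfl

theorem c3284 : Block F al 0 840960 840329 :=
  block_comb c3283 b3284 (Nat.zero_le _) (Nat.le_of_ble_eq_true rfl) rfl

theorem c3285 : Block F al 0 841216 840585 :=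
  block_comb c3284 b3285 (Nat.zero_le _) (Nat.le_of_ble_eq_true rfl) rfl

theorem c3286 : Block F al 0 841472 840841 :=
  block_comb c3285 b3286 (Nat.zero_le _) (Nat.le_of_ble_eq_true rfl) rfl

theorem c3287 : Block F al 0 841728 841097 :=
  block_comb c3286 b3287 (Nat.zero_le _) (Nat.le_of_ble_eq_true rfl) rfl

theorem c3288 : Block F al 0 841984 841353 :=
  block_comb c3287 b3288 (Nat.zero_le _) (Nat.le_of_ble_eq_true rfl) rfl

theorem c3289 : Block F al 0 842240 841609 :=
  block_comb c3288 b3289 (Nat.zero_le _) (Nat.le_of_ble_eq_true rfl) rfl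

theorem c3290 : Block F al 0 842496 841865 :=
  block_comb c3289 b3290 (Nat.zero_le _) (Nat.le_of_ble_eq_true rfl) rfl

theorem c3291 : Block F al 0 842752 842121 :=
  block_comb c3290 b3291 (Nat.zero_le _) (Nat.le_of_ble_eq_true rfl) rfl

theorem c3292 : Block F al 0 843008 842377 :=
  block_comb c3291 b3292 (Nat.zero_le _) (Nat.le_of_ble_eq_true rfl) rfl

theorem c3293 : Block F al 0 843264 842633 :=
  block_comb c3292 b3293 (Nat.zero_le _) (Nat.le_of_ble_eq_true rfl) rfl

theorem c3294 : Block F al 0 843520 842889 :=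
  block_comb c3293 b3294 (Nat.zero_le _) (Nat.le_of_ble_eq_true rfl) rfl

theorem c3295 : Block F al 0 843776 843145 :=
  block_comb c3294 b3295 (Nat.zero_le _) (Nat.le_of_ble_eq_true rfl) rfl

theorem c3296 : Block F al 0 844032 843401 :=
  block_comb c3295 b3296 (Nat.zero_le _) (Nat.le_of_ble_eq_true rfl) rfl

theorem c3297 : Block F al 0 844288 843657 :=
  block_comb c3296 b3297 (Nat.zero_le _) (Nat.le_of_ble_eq_true rfl) rfl

theorem c3298 : Block F al 0 844544 843913 :=
  block_comb c3297 b3298 (Nat.zero_le _) (Nat.le_of_ble_eq_true rfl) rfl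

theorem c3299 : Block F al 0 844800 844169 :=
  block_comb c3298 b3299 (Nat.zero_le _) (Nat.le_of_ble_eq_true rfl) rfl

theorem c3300 : Block F al 0 845056 844425 :=
  block_comb c3299 b3300 (Nat.zero_le _) (Nat.le_of_ble_eq_true rfl) rfl

theorem c3301 : Block F al 0 845312 844681 :=
  block_comb c3300 b3301 (Nat.zero_le _) (Nat.le_of_ble_eq_true rfl) rfl

theorem c3302 : Block F al 0 845568 844937 :=
  block_comb c3301 b3302 (Nat.zero_le _) (Nat.le_of_ble_eq_true rfl) rfl

theorem c3303 : Block F al 0 845824 845193 :=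
  block_comb c3302 b3303 (Nat.zero_le _) (Nat.le_of_ble_eq_true rfl) rfl

theorem c3304 : Block F al 0 846080 845449 :=
  block_comb c3303 b3304 (Nat.zero_le _) (Nat.le_of_ble_eq_true rfl) rfl

theorem c3305 : Block F al 0 846336 845705 :=
  block_comb c3304 b3305 (Nat.zero_le _) (Nat.le_of_ble_eq_true rfl) rfl

theorem c3306 : Block F al 0 846592 845961 :=
  block_comb c3305 b3306 (Nat.zero_le _) (Nat.le_of_ble_eq_true rfl) rfl

theorem c3307 : Block F al 0 846848 846217 :=
  block_comb c3306 b3307 (Nat.zero_le _) (Nat.le_of_ble_eq_true rfl) rfl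

theorem c3308 : Block F al 0 847104 846473 :=
  block_comb c3307 b3308 (Nat.zero_le _) (Nat.le_of_ble_eq_true rfl) rfl

theorem c3309 : Block F al 0 847360 846729 :=
  block_comb c3308 b3309 (Nat.zero_le _) (Nat.le_of_ble_eq_true rfl) rfl

theorem c3310 : Block F al 0 847616 846985 :=
  block_comb c3309 b3310 (Nat.zero_le _) (Nat.le_of_ble_eq_true rfl) rfl

theorem c3311 : Block F al 0 847872 847241 :=
  block_comb c3310 b3311 (Nat.zero_le _) (Nat.le_of_ble_eq_true rfl) rfl

theorem c3312 : Block F al 0 848128 847497 :=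
  block_comb c3311 b3312 (Nat.zero_le _) (Nat.le_of_ble_eq_true rfl) rfl

theorem c3313 : Block F al 0 848384 847753 :=
  block_comb c3312 b3313 (Nat.zero_le _) (Nat.le_of_ble_eq_true rfl) rfl

theorem c3314 : Block F al 0 848640 848009 :=
  block_comb c3313 b3314 (Nat.zero_le _) (Nat.le_of_ble_eq_true rfl) rfl

theorem c3315 : Block F al 0 848896 848265 :=
  block_comb c3314 b3315 (Nat.zero_le _) (Nat.le_of_ble_eq_true rfl) rfl

theorem c3316 : Block F al 0 849152 848521 :=
  block_comb c3315 b3316 (Nat.zero_le _) (Nat.le_of_ble_eq_true rfl) rfl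

theorem c3317 : Block F al 0 849408 848777 :=
  block_comb c3316 b3317 (Nat.zero_le _) (Nat.le_of_ble_eq_true rfl) rfl

theorem c3318 : Block F al 0 849664 849033 :=
  block_comb c3317 b3318 (Nat.zero_le _) (Nat.le_of_ble_eq_true rfl) rfl

theorem c3319 : Block F al 0 849920 849289 :=
  block_comb c3318 b3319 (Nat.zero_le _) (Nat.le_of_ble_eq_true rfl) rfl

theorem c3320 : Block F al 0 850176 849545 :=
  block_comb c3319 b3320 (Nat.zero_le _) (Nat.le_of_ble_eq_true rfl) rfl

theorem c3321 : Block F al 0 850432 849801 :=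
  block_comb c3320 b3321 (Nat.zero_le _) (Nat.le_of_ble_eq_true rfl) rfl

theorem c3322 : Block F al 0 850688 850057 :=
  block_comb c3321 b3322 (Nat.zero_le _) (Nat.le_of_ble_eq_true rfl) rfl

theorem c3323 : Block F al 0 850944 850313 :=
  block_comb c3322 b3323 (Nat.zero_le _) (Nat.le_of_ble_eq_true rfl) rfl

theorem c3324 : Block F al 0 851200 850569 :=
  block_comb c3323 b3324 (Nat.zero_le _) (Nat.le_of_ble_eq_true rfl) rfl

theorem c3325 : Block F al 0 851456 850825 :=
  block_comb c3324 b3325 (Nat.zero_le _) (Nat.le_of_ble_eq_true rfl) rfl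

theorem c3326 : Block F al 0 851712 851081 :=
  block_comb c3325 b3326 (Nat.zero_le _) (Nat.le_of_ble_eq_true rfl) rfl

theorem c3327 : Block F al 0 851968 851337 :=
  block_comb c3326 b3327 (Nat.zero_le _) (Nat.le_of_ble_eq_true rfl) rfl

theorem c3328 : Block F al 0 852224 851593 :=
  block_comb c3327 b3328 (Nat.zero_le _) (Nat.le_of_ble_eq_true rfl) rfl

theorem c3329 : Block F al 0 852480 851849 :=
  block_comb c3328 b3329 (Nat.zero_le _) (Nat.le_of_ble_eq_true rfl) rfl

theorem c3330 : Block F al 0 852736 852105 :=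
  block_comb c3329 b3330 (Nat.zero_le _) (Nat.le_of_ble_eq_true rfl) rfl

theorem c3331 : Block F al 0 852992 852361 :=
  block_comb c3330 b3331 (Nat.zero_le _) (Nat.le_of_ble_eq_true rfl) rfl

theorem c3332 : Block F al 0 853248 852617 :=
  block_comb c3331 b3332 (Nat.zero_le _) (Nat.le_of_ble_eq_true rfl) rfl

theorem c3333 : Block F al 0 853504 852873 :=
  block_comb c3332 b3333 (Nat.zero_le _) (Nat.le_of_ble_eq_true rfl) rfl

theorem c3334 : Block F al 0 853760 853129 :=
  block_comb c3333 b3334 (Nat.zero_le _) (Nat.le_of_ble_eq_true rfl) rfl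

theorem c3335 : Block F al 0 854016 853385 :=
  block_comb c3334 b3335 (Nat.zero_le _) (Nat.le_of_ble_eq_true rfl) rfl

theorem c3336 : Block F al 0 854272 853641 :=
  block_comb c3335 b3336 (Nat.zero_le _) (Nat.le_of_ble_eq_true rfl) rfl

theorem c3337 : Block F al 0 854528 853897 :=
  block_comb c3336 b3337 (Nat.zero_le _) (Nat.le_of_ble_eq_true rfl) rfl

theorem c3338 : Block F al 0 854784 854153 :=
  block_comb c3337 b3338 (Nat.zero_le _) (Nat.le_of_ble_eq_true rfl) rfl

theorem c3339 : Block F al 0 855040 854409 :=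
  block_comb c3338 b3339 (Nat.zero_le _) (Nat.le_of_ble_eq_true rfl) rfl

theorem c3340 : Block F al 0 855296 854665 :=
  block_comb c3339 b3340 (Nat.zero_le _) (Nat.le_of_ble_eq_true rfl) rfl

theorem c3341 : Block F al 0 855552 854921 :=
  block_comb c3340 b3341 (Nat.zero_le _) (Nat.le_of_ble_eq_true rfl) rfl

theorem c3342 : Block F al 0 855808 855177 :=
  block_comb c3341 b3342 (Nat.zero_le _) (Nat.le_of_ble_eq_true rfl) rfl

theorem c3343 : Block F al 0 856064 855433 :=
  block_comb c3342 b3343 (Nat.zero_le _) (Nat.le_of_ble_eq_true rfl) rfl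

theorem c3344 : Block F al 0 856320 855689 :=
  block_comb c3343 b3344 (Nat.zero_le _) (Nat.le_of_ble_eq_true rfl) rfl

theorem c3345 : Block F al 0 856576 855945 :=
  block_comb c3344 b3345 (Nat.zero_le _) (Nat.le_of_ble_eq_true rfl) rfl

theorem c3346 : Block F al 0 856832 856201 :=
  block_comb c3345 b3346 (Nat.zero_le _) (Nat.le_of_ble_eq_true rfl) rfl

theorem c3347 : Block F al 0 857088 856457 :=
  block_comb c3346 b3347 (Nat.zero_le _) (Nat.le_of_ble_eq_true rfl) rfl

theorem c3348 : Block F al 0 857344 856713 :=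
  block_comb c3347 b3348 (Nat.zero_le _) (Nat.le_of_ble_eq_true rfl) rfl

theorem c3349 : Block F al 0 857600 856969 :=
  block_comb c3348 b3349 (Nat.zero_le _) (Nat.le_of_ble_eq_true rfl) rfl

theorem c3350 : Block F al 0 857856 857225 :=
  block_comb c3349 b3350 (Nat.zero_le _) (Nat.le_of_ble_eq_true rfl) rfl

theorem c3351 : Block F al 0 858112 857481 :=
  block_comb c3350 b3351 (Nat.zero_le _) (Nat.le_of_ble_eq_true rfl) rfl

theorem c3352 : Block F al 0 858368 857737 :=
  block_comb c3351 b3352 (Nat.zero_le _) (Nat.le_of_ble_eq_true rfl) rfl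

theorem c3353 : Block F al 0 858624 857993 :=
  block_comb c3352 b3353 (Nat.zero_le _) (Nat.le_of_ble_eq_true rfl) rfl

theorem c3354 : Block F al 0 858880 858249 :=
  block_comb c3353 b3354 (Nat.zero_le _) (Nat.le_of_ble_eq_true rfl) rfl

theorem c3355 : Block F al 0 859136 858505 :=
  block_comb c3354 b3355 (Nat.zero_le _) (Nat.le_of_ble_eq_true rfl) rfl

theorem c3356 : Block F al 0 859392 858761 :=
  block_comb c3355 b3356 (Nat.zero_le _) (Nat.le_of_ble_eq_true rfl) rfl

theorem c3357 : Block F al 0 859648 859017 :=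
  block_comb c3356 b3357 (Nat.zero_le _) (Nat.le_of_ble_eq_true rfl) rfl

theorem c3358 : Block F al 0 859904 859273 :=
  block_comb c3357 b3358 (Nat.zero_le _) (Nat.le_of_ble_eq_true rfl) rfl

theorem c3359 : Block F al 0 860160 859529 :=
  block_comb c3358 b3359 (Nat.zero_le _) (Nat.le_of_ble_eq_true rfl) rfl

theorem c3360 : Block F al 0 860416 859785 :=
  block_comb c3359 b3360 (Nat.zero_le _) (Nat.le_of_ble_eq_true rfl) rfl

theorem c3361 : Block F al 0 860672 860041 :=
  block_comb c3360 b3361 (Nat.zero_le _) (Nat.le_of_ble_eq_true rfl) rfl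

theorem c3362 : Block F al 0 860928 860297 :=
  block_comb c3361 b3362 (Nat.zero_le _) (Nat.le_of_ble_eq_true rfl) rfl

theorem c3363 : Block F al 0 861184 860553 :=
  block_comb c3362 b3363 (Nat.zero_le _) (Nat.le_of_ble_eq_true rfl) rfl

theorem c3364 : Block F al 0 861440 860809 :=
  block_comb c3363 b3364 (Nat.zero_le _) (Nat.le_of_ble_eq_true rfl) rfl

theorem c3365 : Block F al 0 861696 861065 :=
  block_comb c3364 b3365 (Nat.zero_le _) (Nat.le_of_ble_eq_true rfl) rfl

theorem c3366 : Block F al 0 861952 861321 :=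
  block_comb c3365 b3366 (Nat.zero_le _) (Nat.le_of_ble_eq_true rfl) rfl

theorem c3367 : Block F al 0 862208 861577 :=
  block_comb c3366 b3367 (Nat.zero_le _) (Nat.le_of_ble_eq_true rfl) rfl

theorem c3368 : Block F al 0 862464 861833 :=
  block_comb c3367 b3368 (Nat.zero_le _) (Nat.le_of_ble_eq_true rfl) rfl

theorem c3369 : Block F al 0 862720 862089 :=
  block_comb c3368 b3369 (Nat.zero_le _) (Nat.le_of_ble_eq_true rfl) rfl

theorem c3370 : Block F al 0 862976 862345 :=
  block_comb c3369 b3370 (Nat.zero_le _) (Nat.le_of_ble_eq_true rfl) rfl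

theorem c3371 : Block F al 0 863232 862601 :=
  block_comb c3370 b3371 (Nat.zero_le _) (Nat.le_of_ble_eq_true rfl) rfl

theorem c3372 : Block F al 0 863488 862857 :=
  block_comb c3371 b3372 (Nat.zero_le _) (Nat.le_of_ble_eq_true rfl) rfl

theorem c3373 : Block F al 0 863744 863113 :=
  block_comb c3372 b3373 (Nat.zero_le _) (Nat.le_of_ble_eq_true rfl) rfl

theorem c3374 : Block F al 0 864000 863369 :=
  block_comb c3373 b3374 (Nat.zero_le _) (Nat.le_of_ble_eq_true rfl) rfl

theorem c3375 : Block F al 0 864256 863625 :=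
  block_comb c3374 b3375 (Nat.zero_le _) (Nat.le_of_ble_eq_true rfl) rfl

theorem c3376 : Block F al 0 864512 863881 :=
  block_comb c3375 b3376 (Nat.zero_le _) (Nat.le_of_ble_eq_true rfl) rfl

theorem c3377 : Block F al 0 864768 864137 :=
  block_comb c3376 b3377 (Nat.zero_le _) (Nat.le_of_ble_eq_true rfl) rfl

theorem c3378 : Block F al 0 865024 864393 :=
  block_comb c3377 b3378 (Nat.zero_le _) (Nat.le_of_ble_eq_true rfl) rfl

theorem c3379 : Block F al 0 865280 864649 :=
  block_comb c3378 b3379 (Nat.zero_le _) (Nat.le_of_ble_eq_true rfl) rfl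

theorem c3380 : Block F al 0 865536 864905 :=
  block_comb c3379 b3380 (Nat.zero_le _) (Nat.le_of_ble_eq_true rfl) rfl

theorem c3381 : Block F al 0 865792 865161 :=
  block_comb c3380 b3381 (Nat.zero_le _) (Nat.le_of_ble_eq_true rfl) rfl

theorem c3382 : Block F al 0 866048 865417 :=
  block_comb c3381 b3382 (Nat.zero_le _) (Nat.le_of_ble_eq_true rfl) rfl

theorem c3383 : Block F al 0 866304 865673 :=
  block_comb c3382 b3383 (Nat.zero_le _) (Nat.le_of_ble_eq_true rfl) rfl

theorem c3384 : Block F al 0 866560 865929 :=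
  block_comb c3383 b3384 (Nat.zero_le _) (Nat.le_of_ble_eq_true rfl) rfl

theorem c3385 : Block F al 0 866816 866185 :=
  block_comb c3384 b3385 (Nat.zero_le _) (Nat.le_of_ble_eq_true rfl) rfl

theorem c3386 : Block F al 0 867072 866441 :=
  block_comb c3385 b3386 (Nat.zero_le _) (Nat.le_of_ble_eq_true rfl) rfl

theorem c3387 : Block F al 0 867328 866697 :=
  block_comb c3386 b3387 (Nat.zero_le _) (Nat.le_of_ble_eq_true rfl) rfl

theorem c3388 : Block F al 0 867584 866953 :=
  block_comb c3387 b3388 (Nat.zero_le _) (Nat.le_of_ble_eq_true rfl) rfl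

theorem c3389 : Block F al 0 867840 867209 :=
  block_comb c3388 b3389 (Nat.zero_le _) (Nat.le_of_ble_eq_true rfl) rfl

theorem c3390 : Block F al 0 868096 867465 :=
  block_comb c3389 b3390 (Nat.zero_le _) (Nat.le_of_ble_eq_true rfl) rfl

theorem c3391 : Block F al 0 868352 867721 :=
  block_comb c3390 b3391 (Nat.zero_le _) (Nat.le_of_ble_eq_true rfl) rfl

theorem c3392 : Block F al 0 868608 867977 :=
  block_comb c3391 b3392 (Nat.zero_le _) (Nat.le_of_ble_eq_true rfl) rfl

theorem c3393 : Block F al 0 868864 868233 :=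
  block_comb c3392 b3393 (Nat.zero_le _) (Nat.le_of_ble_eq_true rfl) rfl

theorem c3394 : Block F al 0 869120 868489 :=
  block_comb c3393 b3394 (Nat.zero_le _) (Nat.le_of_ble_eq_true rfl) rfl

theorem c3395 : Block F al 0 869376 868745 :=
  block_comb c3394 b3395 (Nat.zero_le _) (Nat.le_of_ble_eq_true rfl) rfl

theorem c3396 : Block F al 0 869632 869001 :=
  block_comb c3395 b3396 (Nat.zero_le _) (Nat.le_of_ble_eq_true rfl) rfl

theorem c3397 : Block F al 0 869888 869257 :=
  block_comb c3396 b3397 (Nat.zero_le _) (Nat.le_of_ble_eq_true rfl) rfl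

theorem c3398 : Block F al 0 870144 869513 :=
  block_comb c3397 b3398 (Nat.zero_le _) (Nat.le_of_ble_eq_true rfl) rfl

theorem c3399 : Block F al 0 870400 869769 :=
  block_comb c3398 b3399 (Nat.zero_le _) (Nat.le_of_ble_eq_true rfl) rfl

theorem c3400 : Block F al 0 870656 870025 :=
  block_comb c3399 b3400 (Nat.zero_le _) (Nat.le_of_ble_eq_true rfl) rfl

theorem c3401 : Block F al 0 870912 870281 :=
  block_comb c3400 b3401 (Nat.zero_le _) (Nat.le_of_ble_eq_true rfl) rfl

theorem c3402 : Block F al 0 871168 870537 :=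
  block_comb c3401 b3402 (Nat.zero_le _) (Nat.le_of_ble_eq_true rfl) rfl

theorem c3403 : Block F al 0 871424 870793 :=
  block_comb c3402 b3403 (Nat.zero_le _) (Nat.le_of_ble_eq_true rfl) rfl

theorem c3404 : Block F al 0 871680 871049 :=
  block_comb c3403 b3404 (Nat.zero_le _) (Nat.le_of_ble_eq_true rfl) rfl

theorem c3405 : Block F al 0 871936 871305 :=
  block_comb c3404 b3405 (Nat.zero_le _) (Nat.le_of_ble_eq_true rfl) rfl

theorem c3406 : Block F al 0 872192 871561 :=
  block_comb c3405 b3406 (Nat.zero_le _) (Nat.le_of_ble_eq_true rfl) rfl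

theorem c3407 : Block F al 0 872448 871817 :=
  block_comb c3406 b3407 (Nat.zero_le _) (Nat.le_of_ble_eq_true rfl) rfl

theorem c3408 : Block F al 0 872704 872073 :=
  block_comb c3407 b3408 (Nat.zero_le _) (Nat.le_of_ble_eq_true rfl) rfl

theorem c3409 : Block F al 0 872960 872329 :=
  block_comb c3408 b3409 (Nat.zero_le _) (Nat.le_of_ble_eq_true rfl) rfl

theorem c3410 : Block F al 0 873216 872585 :=
  block_comb c3409 b3410 (Nat.zero_le _) (Nat.le_of_ble_eq_true rfl) rfl

theorem c3411 : Block F al 0 873472 872841 :=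
  block_comb c3410 b3411 (Nat.zero_le _) (Nat.le_of_ble_eq_true rfl) rfl

theorem c3412 : Block F al 0 873728 873097 :=
  block_comb c3411 b3412 (Nat.zero_le _) (Nat.le_of_ble_eq_true rfl) rfl

theorem c3413 : Block F al 0 873984 873353 :=
  block_comb c3412 b3413 (Nat.zero_le _) (Nat.le_of_ble_eq_true rfl) rfl

theorem c3414 : Block F al 0 874240 873609 :=
  block_comb c3413 b3414 (Nat.zero_le _) (Nat.le_of_ble_eq_true rfl) rfl

theorem c3415 : Block F al 0 874496 873865 :=
  block_comb c3414 b3415 (Nat.zero_le _) (Nat.le_of_ble_eq_true rfl) rfl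

theorem c3416 : Block F al 0 874752 874121 :=
  block_comb c3415 b3416 (Nat.zero_le _) (Nat.le_of_ble_eq_true rfl) rfl

theorem c3417 : Block F al 0 875008 874377 :=
  block_comb c3416 b3417 (Nat.zero_le _) (Nat.le_of_ble_eq_true rfl) rfl

theorem c3418 : Block F al 0 875264 874633 :=
  block_comb c3417 b3418 (Nat.zero_le _) (Nat.le_of_ble_eq_true rfl) rfl

theorem c3419 : Block F al 0 875520 874889 :=
  block_comb c3418 b3419 (Nat.zero_le _) (Nat.le_of_ble_eq_true rfl) rfl

theorem c3420 : Block F al 0 875776 875145 :=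
  block_comb c3419 b3420 (Nat.zero_le _) (Nat.le_of_ble_eq_true rfl) rfl

theorem c3421 : Block F al 0 876032 875401 :=
  block_comb c3420 b3421 (Nat.zero_le _) (Nat.le_of_ble_eq_true rfl) rfl

theorem c3422 : Block F al 0 876288 875657 :=
  block_comb c3421 b3422 (Nat.zero_le _) (Nat.le_of_ble_eq_true rfl) rfl

theorem c3423 : Block F al 0 876544 875913 :=
  block_comb c3422 b3423 (Nat.zero_le _) (Nat.le_of_ble_eq_true rfl) rfl

theorem c3424 : Block F al 0 876800 876169 :=
  block_comb c3423 b3424 (Nat.zero_le _) (Nat.le_of_ble_eq_true rfl) rfl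

theorem c3425 : Block F al 0 877056 876425 :=
  block_comb c3424 b3425 (Nat.zero_le _) (Nat.le_of_ble_eq_true rfl) rfl

theorem c3426 : Block F al 0 877312 876681 :=
  block_comb c3425 b3426 (Nat.zero_le _) (Nat.le_of_ble_eq_true rfl) rfl

theorem c3427 : Block F al 0 877568 876937 :=
  block_comb c3426 b3427 (Nat.zero_le _) (Nat.le_of_ble_eq_true rfl) rfl

theorem c3428 : Block F al 0 877824 877193 :=
  block_comb c3427 b3428 (Nat.zero_le _) (Nat.le_of_ble_eq_true rfl) rfl

theorem c3429 : Block F al 0 878080 877449 :=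
  block_comb c3428 b3429 (Nat.zero_le _) (Nat.le_of_ble_eq_true rfl) rfl

theorem c3430 : Block F al 0 878336 877705 :=
  block_comb c3429 b3430 (Nat.zero_le _) (Nat.le_of_ble_eq_true rfl) rfl

theorem c3431 : Block F al 0 878592 877961 :=
  block_comb c3430 b3431 (Nat.zero_le _) (Nat.le_of_ble_eq_true rfl) rfl

theorem c3432 : Block F al 0 878848 878217 :=
  block_comb c3431 b3432 (Nat.zero_le _) (Nat.le_of_ble_eq_true rfl) rfl

theorem c3433 : Block F al 0 879104 878473 :=
  block_comb c3432 b3433 (Nat.zero_le _) (Nat.le_of_ble_eq_true rfl) rfl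

theorem c3434 : Block F al 0 879360 878729 :=
  block_comb c3433 b3434 (Nat.zero_le _) (Nat.le_of_ble_eq_true rfl) rfl

theorem c3435 : Block F al 0 879616 878985 :=
  block_comb c3434 b3435 (Nat.zero_le _) (Nat.le_of_ble_eq_true rfl) rfl

theorem c3436 : Block F al 0 879872 879241 :=
  block_comb c3435 b3436 (Nat.zero_le _) (Nat.le_of_ble_eq_true rfl) rfl

theorem c3437 : Block F al 0 880128 879497 :=
  block_comb c3436 b3437 (Nat.zero_le _) (Nat.le_of_ble_eq_true rfl) rfl

theorem c3438 : Block F al 0 880384 879753 :=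
  block_comb c3437 b3438 (Nat.zero_le _) (Nat.le_of_ble_eq_true rfl) rfl

theorem c3439 : Block F al 0 880640 880009 :=
  block_comb c3438 b3439 (Nat.zero_le _) (Nat.le_of_ble_eq_true rfl) rfl

theorem c3440 : Block F al 0 880896 880265 :=
  block_comb c3439 b3440 (Nat.zero_le _) (Nat.le_of_ble_eq_true rfl) rfl

theorem c3441 : Block F al 0 881152 880521 :=
  block_comb c3440 b3441 (Nat.zero_le _) (Nat.le_of_ble_eq_true rfl) rfl

theorem c3442 : Block F al 0 881408 880777 :=
  block_comb c3441 b3442 (Nat.zero_le _) (Nat.le_of_ble_eq_true rfl) rfl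

theorem c3443 : Block F al 0 881664 881033 :=
  block_comb c3442 b3443 (Nat.zero_le _) (Nat.le_of_ble_eq_true rfl) rfl

theorem c3444 : Block F al 0 881920 881289 :=
  block_comb c3443 b3444 (Nat.zero_le _) (Nat.le_of_ble_eq_true rfl) rfl

theorem c3445 : Block F al 0 882176 881545 :=
  block_comb c3444 b3445 (Nat.zero_le _) (Nat.le_of_ble_eq_true rfl) rfl

theorem c3446 : Block F al 0 882432 881801 :=
  block_comb c3445 b3446 (Nat.zero_le _) (Nat.le_of_ble_eq_true rfl) rfl

theorem c3447 : Block F al 0 882688 882057 :=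
  block_comb c3446 b3447 (Nat.zero_le _) (Nat.le_of_ble_eq_true rfl) rfl

theorem c3448 : Block F al 0 882944 882313 :=
  block_comb c3447 b3448 (Nat.zero_le _) (Nat.le_of_ble_eq_true rfl) rfl

theorem c3449 : Block F al 0 883200 882569 :=
  block_comb c3448 b3449 (Nat.zero_le _) (Nat.le_of_ble_eq_true rfl) rfl

theorem c3450 : Block F al 0 883456 882825 :=
  block_comb c3449 b3450 (Nat.zero_le _) (Nat.le_of_ble_eq_true rfl) rfl

theorem c3451 : Block F al 0 883712 883081 :=
  block_comb c3450 b3451 (Nat.zero_le _) (Nat.le_of_ble_eq_true rfl) rfl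

theorem c3452 : Block F al 0 883968 883337 :=
  block_comb c3451 b3452 (Nat.zero_le _) (Nat.le_of_ble_eq_true rfl) rfl

theorem c3453 : Block F al 0 884224 883593 :=
  block_comb c3452 b3453 (Nat.zero_le _) (Nat.le_of_ble_eq_true rfl) rfl

theorem c3454 : Block F al 0 884480 883849 :=
  block_comb c3453 b3454 (Nat.zero_le _) (Nat.le_of_ble_eq_true rfl) rfl

theorem c3455 : Block F al 0 884736 884105 :=
  block_comb c3454 b3455 (Nat.zero_le _) (Nat.le_of_ble_eq_true rfl) rfl

theorem c3456 : Block F al 0 884992 884361 :=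
  block_comb c3455 b3456 (Nat.zero_le _) (Nat.le_of_ble_eq_true rfl) rfl

theorem c3457 : Block F al 0 885248 884617 :=
  block_comb c3456 b3457 (Nat.zero_le _) (Nat.le_of_ble_eq_true rfl) rfl

theorem c3458 : Block F al 0 885504 884873 :=
  block_comb c3457 b3458 (Nat.zero_le _) (Nat.le_of_ble_eq_true rfl) rfl

theorem c3459 : Block F al 0 885760 885129 :=
  block_comb c3458 b3459 (Nat.zero_le _) (Nat.le_of_ble_eq_true rfl) rfl

theorem c3460 : Block F al 0 886016 885385 :=
  block_comb c3459 b3460 (Nat.zero_le _) (Nat.le_of_ble_eq_true rfl) rfl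

theorem c3461 : Block F al 0 886272 885641 :=
  block_comb c3460 b3461 (Nat.zero_le _) (Nat.le_of_ble_eq_true rfl) rfl

theorem c3462 : Block F al 0 886528 885897 :=
  block_comb c3461 b3462 (Nat.zero_le _) (Nat.le_of_ble_eq_true rfl) rfl

theorem c3463 : Block F al 0 886784 886153 :=
  block_comb c3462 b3463 (Nat.zero_le _) (Nat.le_of_ble_eq_true rfl) rfl

theorem c3464 : Block F al 0 887040 886409 :=
  block_comb c3463 b3464 (Nat.zero_le _) (Nat.le_of_ble_eq_true rfl) rfl

theorem c3465 : Block F al 0 887296 886665 :=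
  block_comb c3464 b3465 (Nat.zero_le _) (Nat.le_of_ble_eq_true rfl) rfl

theorem c3466 : Block F al 0 887552 886921 :=
  block_comb c3465 b3466 (Nat.zero_le _) (Nat.le_of_ble_eq_true rfl) rfl

theorem c3467 : Block F al 0 887808 887177 :=
  block_comb c3466 b3467 (Nat.zero_le _) (Nat.le_of_ble_eq_true rfl) rfl

theorem c3468 : Block F al 0 888064 887433 :=
  block_comb c3467 b3468 (Nat.zero_le _) (Nat.le_of_ble_eq_true rfl) rfl

theorem c3469 : Block F al 0 888320 887689 :=
  block_comb c3468 b3469 (Nat.zero_le _) (Nat.le_of_ble_eq_true rfl) rfl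

theorem c3470 : Block F al 0 888576 887945 :=
  block_comb c3469 b3470 (Nat.zero_le _) (Nat.le_of_ble_eq_true rfl) rfl

theorem c3471 : Block F al 0 888832 888201 :=
  block_comb c3470 b3471 (Nat.zero_le _) (Nat.le_of_ble_eq_true rfl) rfl

theorem c3472 : Block F al 0 889088 888457 :=
  block_comb c3471 b3472 (Nat.zero_le _) (Nat.le_of_ble_eq_true rfl) rfl

theorem c3473 : Block F al 0 889344 888713 :=
  block_comb c3472 b3473 (Nat.zero_le _) (Nat.le_of_ble_eq_true rfl) rfl

theorem c3474 : Block F al 0 889600 888969 :=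
  block_comb c3473 b3474 (Nat.zero_le _) (Nat.le_of_ble_eq_true rfl) rfl

theorem c3475 : Block F al 0 889856 889225 :=
  block_comb c3474 b3475 (Nat.zero_le _) (Nat.le_of_ble_eq_true rfl) rfl

theorem c3476 : Block F al 0 890112 889481 :=
  block_comb c3475 b3476 (Nat.zero_le _) (Nat.le_of_ble_eq_true rfl) rfl

theorem c3477 : Block F al 0 890368 889737 :=
  block_comb c3476 b3477 (Nat.zero_le _) (Nat.le_of_ble_eq_true rfl) rfl

theorem c3478 : Block F al 0 890624 889993 :=
  block_comb c3477 b3478 (Nat.zero_le _) (Nat.le_of_ble_eq_true rfl) rfl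

theorem c3479 : Block F al 0 890880 890249 :=
  block_comb c3478 b3479 (Nat.zero_le _) (Nat.le_of_ble_eq_true rfl) rfl

theorem c3480 : Block F al 0 891136 890505 :=
  block_comb c3479 b3480 (Nat.zero_le _) (Nat.le_of_ble_eq_true rfl) rfl

theorem c3481 : Block F al 0 891392 890761 :=
  block_comb c3480 b3481 (Nat.zero_le _) (Nat.le_of_ble_eq_true rfl) rfl

theorem c3482 : Block F al 0 891648 891017 :=
  block_comb c3481 b3482 (Nat.zero_le _) (Nat.le_of_ble_eq_true rfl) rfl

theorem c3483 : Block F al 0 891904 891273 :=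
  block_comb c3482 b3483 (Nat.zero_le _) (Nat.le_of_ble_eq_true rfl) rfl

theorem c3484 : Block F al 0 892160 891529 :=
  block_comb c3483 b3484 (Nat.zero_le _) (Nat.le_of_ble_eq_true rfl) rfl

theorem c3485 : Block F al 0 892416 891785 :=
  block_comb c3484 b3485 (Nat.zero_le _) (Nat.le_of_ble_eq_true rfl) rfl

theorem c3486 : Block F al 0 892672 892041 :=
  block_comb c3485 b3486 (Nat.zero_le _) (Nat.le_of_ble_eq_true rfl) rfl

theorem c3487 : Block F al 0 892928 892297 :=
  block_comb c3486 b3487 (Nat.zero_le _) (Nat.le_of_ble_eq_true rfl) rfl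

theorem c3488 : Block F al 0 893184 892553 :=
  block_comb c3487 b3488 (Nat.zero_le _) (Nat.le_of_ble_eq_true rfl) rfl

theorem c3489 : Block F al 0 893440 892809 :=
  block_comb c3488 b3489 (Nat.zero_le _) (Nat.le_of_ble_eq_true rfl) rfl

theorem c3490 : Block F al 0 893696 893065 :=
  block_comb c3489 b3490 (Nat.zero_le _) (Nat.le_of_ble_eq_true rfl) rfl

theorem c3491 : Block F al 0 893952 893321 :=
  block_comb c3490 b3491 (Nat.zero_le _) (Nat.le_of_ble_eq_true rfl) rfl

theorem c3492 : Block F al 0 894208 893577 :=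
  block_comb c3491 b3492 (Nat.zero_le _) (Nat.le_of_ble_eq_true rfl) rfl

theorem c3493 : Block F al 0 894464 893833 :=
  block_comb c3492 b3493 (Nat.zero_le _) (Nat.le_of_ble_eq_true rfl) rfl

theorem c3494 : Block F al 0 894720 894089 :=
  block_comb c3493 b3494 (Nat.zero_le _) (Nat.le_of_ble_eq_true rfl) rfl

theorem c3495 : Block F al 0 894976 894345 :=
  block_comb c3494 b3495 (Nat.zero_le _) (Nat.le_of_ble_eq_true rfl) rfl

theorem c3496 : Block F al 0 895232 894601 :=
  block_comb c3495 b3496 (Nat.zero_le _) (Nat.le_of_ble_eq_true rfl) rfl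

theorem c3497 : Block F al 0 895488 894857 :=
  block_comb c3496 b3497 (Nat.zero_le _) (Nat.le_of_ble_eq_true rfl) rfl

theorem c3498 : Block F al 0 895744 895113 :=
  block_comb c3497 b3498 (Nat.zero_le _) (Nat.le_of_ble_eq_true rfl) rfl

theorem c3499 : Block F al 0 896000 895369 :=
  block_comb c3498 b3499 (Nat.zero_le _) (Nat.le_of_ble_eq_true rfl) rfl

theorem c3500 : Block F al 0 896256 895625 :=
  block_comb c3499 b3500 (Nat.zero_le _) (Nat.le_of_ble_eq_true rfl) rfl

theorem c3501 : Block F al 0 896512 895881 :=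
  block_comb c3500 b3501 (Nat.zero_le _) (Nat.le_of_ble_eq_true rfl) rfl

theorem c3502 : Block F al 0 896768 896137 :=
  block_comb c3501 b3502 (Nat.zero_le _) (Nat.le_of_ble_eq_true rfl) rfl

theorem c3503 : Block F al 0 897024 896393 :=
  block_comb c3502 b3503 (Nat.zero_le _) (Nat.le_of_ble_eq_true rfl) rfl

theorem c3504 : Block F al 0 897280 896649 :=
  block_comb c3503 b3504 (Nat.zero_le _) (Nat.le_of_ble_eq_true rfl) rfl

theorem c3505 : Block F al 0 897536 896905 :=
  block_comb c3504 b3505 (Nat.zero_le _) (Nat.le_of_ble_eq_true rfl) rfl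

theorem c3506 : Block F al 0 897792 897161 :=
  block_comb c3505 b3506 (Nat.zero_le _) (Nat.le_of_ble_eq_true rfl) rfl

theorem c3507 : Block F al 0 898048 897417 :=
  block_comb c3506 b3507 (Nat.zero_le _) (Nat.le_of_ble_eq_true rfl) rfl

theorem c3508 : Block F al 0 898304 897673 :=
  block_comb c3507 b3508 (Nat.zero_le _) (Nat.le_of_ble_eq_true rfl) rfl

theorem c3509 : Block F al 0 898560 897929 :=
  block_comb c3508 b3509 (Nat.zero_le _) (Nat.le_of_ble_eq_true rfl) rfl

theorem c3510 : Block F al 0 898816 898185 :=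
  block_comb c3509 b3510 (Nat.zero_le _) (Nat.le_of_ble_eq_true rfl) rfl

theorem c3511 : Block F al 0 899072 898441 :=
  block_comb c3510 b3511 (Nat.zero_le _) (Nat.le_of_ble_eq_true rfl) rfl

theorem c3512 : Block F al 0 899328 898697 :=
  block_comb c3511 b3512 (Nat.zero_le _) (Nat.le_of_ble_eq_true rfl) rfl

theorem c3513 : Block F al 0 899584 898953 :=
  block_comb c3512 b3513 (Nat.zero_le _) (Nat.le_of_ble_eq_true rfl) rfl

theorem c3514 : Block F al 0 899840 899209 :=
  block_comb c3513 b3514 (Nat.zero_le _) (Nat.le_of_ble_eq_true rfl) rfl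

theorem c3515 : Block F al 0 900096 899465 :=
  block_comb c3514 b3515 (Nat.zero_le _) (Nat.le_of_ble_eq_true rfl) rfl

theorem c3516 : Block F al 0 900352 899721 :=
  block_comb c3515 b3516 (Nat.zero_le _) (Nat.le_of_ble_eq_true rfl) rfl

theorem c3517 : Block F al 0 900608 899977 :=
  block_comb c3516 b3517 (Nat.zero_le _) (Nat.le_of_ble_eq_true rfl) rfl

theorem c3518 : Block F al 0 900864 900233 :=
  block_comb c3517 b3518 (Nat.zero_le _) (Nat.le_of_ble_eq_true rfl) rfl

theorem c3519 : Block F al 0 901120 900489 :=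
  block_comb c3518 b3519 (Nat.zero_le _) (Nat.le_of_ble_eq_true rfl) rfl

theorem c3520 : Block F al 0 901376 900745 :=
  block_comb c3519 b3520 (Nat.zero_le _) (Nat.le_of_ble_eq_true rfl) rfl

theorem c3521 : Block F al 0 901632 901001 :=
  block_comb c3520 b3521 (Nat.zero_le _) (Nat.le_of_ble_eq_true rfl) rfl

theorem c3522 : Block F al 0 901888 901257 :=
  block_comb c3521 b3522 (Nat.zero_le _) (Nat.le_of_ble_eq_true rfl) rfl

theorem c3523 : Block F al 0 902144 901513 :=
  block_comb c3522 b3523 (Nat.zero_le _) (Nat.le_of_ble_eq_true rfl) rfl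

theorem c3524 : Block F al 0 902400 901769 :=
  block_comb c3523 b3524 (Nat.zero_le _) (Nat.le_of_ble_eq_true rfl) rfl

theorem c3525 : Block F al 0 902656 902025 :=
  block_comb c3524 b3525 (Nat.zero_le _) (Nat.le_of_ble_eq_true rfl) rfl

theorem c3526 : Block F al 0 902912 902281 :=
  block_comb c3525 b3526 (Nat.zero_le _) (Nat.le_of_ble_eq_true rfl) rfl

theorem c3527 : Block F al 0 903168 902537 :=
  block_comb c3526 b3527 (Nat.zero_le _) (Nat.le_of_ble_eq_true rfl) rfl

theorem c3528 : Block F al 0 903424 902793 :=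
  block_comb c3527 b3528 (Nat.zero_le _) (Nat.le_of_ble_eq_true rfl) rfl

theorem c3529 : Block F al 0 903680 903049 :=
  block_comb c3528 b3529 (Nat.zero_le _) (Nat.le_of_ble_eq_true rfl) rfl

theorem c3530 : Block F al 0 903936 903305 :=
  block_comb c3529 b3530 (Nat.zero_le _) (Nat.le_of_ble_eq_true rfl) rfl

theorem c3531 : Block F al 0 904192 903561 :=
  block_comb c3530 b3531 (Nat.zero_le _) (Nat.le_of_ble_eq_true rfl) rfl

theorem c3532 : Block F al 0 904448 903817 :=
  block_comb c3531 b3532 (Nat.zero_le _) (Nat.le_of_ble_eq_true rfl) rfl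

theorem c3533 : Block F al 0 904704 904073 :=
  block_comb c3532 b3533 (Nat.zero_le _) (Nat.le_of_ble_eq_true rfl) rfl

theorem c3534 : Block F al 0 904960 904329 :=
  block_comb c3533 b3534 (Nat.zero_le _) (Nat.le_of_ble_eq_true rfl) rfl

theorem c3535 : Block F al 0 905216 904585 :=
  block_comb c3534 b3535 (Nat.zero_le _) (Nat.le_of_ble_eq_true rfl) rfl

theorem c3536 : Block F al 0 905472 904841 :=
  block_comb c3535 b3536 (Nat.zero_le _) (Nat.le_of_ble_eq_true rfl) rfl

theorem c3537 : Block F al 0 905728 905097 :=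
  block_comb c3536 b3537 (Nat.zero_le _) (Nat.le_of_ble_eq_true rfl) rfl

theorem c3538 : Block F al 0 905984 905353 :=
  block_comb c3537 b3538 (Nat.zero_le _) (Nat.le_of_ble_eq_true rfl) rfl

theorem c3539 : Block F al 0 906240 905609 :=
  block_comb c3538 b3539 (Nat.zero_le _) (Nat.le_of_ble_eq_true rfl) rfl

theorem c3540 : Block F al 0 906496 905865 :=
  block_comb c3539 b3540 (Nat.zero_le _) (Nat.le_of_ble_eq_true rfl) rfl

theorem c3541 : Block F al 0 906752 906121 :=
  block_comb c3540 b3541 (Nat.zero_le _) (Nat.le_of_ble_eq_true rfl) rfl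

theorem c3542 : Block F al 0 907008 906377 :=
  block_comb c3541 b3542 (Nat.zero_le _) (Nat.le_of_ble_eq_true rfl) rfl

theorem c3543 : Block F al 0 907264 906633 :=
  block_comb c3542 b3543 (Nat.zero_le _) (Nat.le_of_ble_eq_true rfl) rfl

theorem c3544 : Block F al 0 907520 906889 :=
  block_comb c3543 b3544 (Nat.zero_le _) (Nat.le_of_ble_eq_true rfl) rfl

theorem c3545 : Block F al 0 907776 907145 :=
  block_comb c3544 b3545 (Nat.zero_le _) (Nat.le_of_ble_eq_true rfl) rfl

theorem c3546 : Block F al 0 908032 907401 :=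
  block_comb c3545 b3546 (Nat.zero_le _) (Nat.le_of_ble_eq_true rfl) rfl

theorem c3547 : Block F al 0 908288 907657 :=
  block_comb c3546 b3547 (Nat.zero_le _) (Nat.le_of_ble_eq_true rfl) rfl

theorem c3548 : Block F al 0 908544 907913 :=
  block_comb c3547 b3548 (Nat.zero_le _) (Nat.le_of_ble_eq_true rfl) rfl

theorem c3549 : Block F al 0 908800 908169 :=
  block_comb c3548 b3549 (Nat.zero_le _) (Nat.le_of_ble_eq_true rfl) rfl

theorem c3550 : Block F al 0 909056 908425 :=
  block_comb c3549 b3550 (Nat.zero_le _) (Nat.le_of_ble_eq_true rfl) rfl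

theorem c3551 : Block F al 0 909312 908681 :=
  block_comb c3550 b3551 (Nat.zero_le _) (Nat.le_of_ble_eq_true rfl) rfl

theorem c3552 : Block F al 0 909568 908937 :=
  block_comb c3551 b3552 (Nat.zero_le _) (Nat.le_of_ble_eq_true rfl) rfl

theorem c3553 : Block F al 0 909824 909193 :=
  block_comb c3552 b3553 (Nat.zero_le _) (Nat.le_of_ble_eq_true rfl) rfl

theorem c3554 : Block F al 0 910080 909449 :=
  block_comb c3553 b3554 (Nat.zero_le _) (Nat.le_of_ble_eq_true rfl) rfl

theorem c3555 : Block F al 0 910336 909705 :=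
  block_comb c3554 b3555 (Nat.zero_le _) (Nat.le_of_ble_eq_true rfl) rfl

theorem c3556 : Block F al 0 910592 909961 :=
  block_comb c3555 b3556 (Nat.zero_le _) (Nat.le_of_ble_eq_true rfl) rfl

theorem c3557 : Block F al 0 910848 910217 :=
  block_comb c3556 b3557 (Nat.zero_le _) (Nat.le_of_ble_eq_true rfl) rfl

theorem c3558 : Block F al 0 911104 910473 :=
  block_comb c3557 b3558 (Nat.zero_le _) (Nat.le_of_ble_eq_true rfl) rfl

theorem c3559 : Block F al 0 911360 910729 :=
  block_comb c3558 b3559 (Nat.zero_le _) (Nat.le_of_ble_eq_true rfl) rfl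

theorem c3560 : Block F al 0 911616 910985 :=
  block_comb c3559 b3560 (Nat.zero_le _) (Nat.le_of_ble_eq_true rfl) rfl

theorem c3561 : Block F al 0 911872 911241 :=
  block_comb c3560 b3561 (Nat.zero_le _) (Nat.le_of_ble_eq_true rfl) rfl

theorem c3562 : Block F al 0 912128 911497 :=
  block_comb c3561 b3562 (Nat.zero_le _) (Nat.le_of_ble_eq_true rfl) rfl

theorem c3563 : Block F al 0 912384 911753 :=
  block_comb c3562 b3563 (Nat.zero_le _) (Nat.le_of_ble_eq_true rfl) rfl

theorem c3564 : Block F al 0 912640 912009 :=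
  block_comb c3563 b3564 (Nat.zero_le _) (Nat.le_of_ble_eq_true rfl) rfl

theorem c3565 : Block F al 0 912896 912265 :=
  block_comb c3564 b3565 (Nat.zero_le _) (Nat.le_of_ble_eq_true rfl) rfl

theorem c3566 : Block F al 0 913152 912521 :=
  block_comb c3565 b3566 (Nat.zero_le _) (Nat.le_of_ble_eq_true rfl) rfl

theorem c3567 : Block F al 0 913408 912777 :=
  block_comb c3566 b3567 (Nat.zero_le _) (Nat.le_of_ble_eq_true rfl) rfl

theorem c3568 : Block F al 0 913664 913033 :=
  block_comb c3567 b3568 (Nat.zero_le _) (Nat.le_of_ble_eq_true rfl) rfl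

theorem c3569 : Block F al 0 913920 913289 :=
  block_comb c3568 b3569 (Nat.zero_le _) (Nat.le_of_ble_eq_true rfl) rfl

theorem c3570 : Block F al 0 914176 913545 :=
  block_comb c3569 b3570 (Nat.zero_le _) (Nat.le_of_ble_eq_true rfl) rfl

theorem c3571 : Block F al 0 914432 913801 :=
  block_comb c3570 b3571 (Nat.zero_le _) (Nat.le_of_ble_eq_true rfl) rfl

theorem c3572 : Block F al 0 914688 914057 :=
  block_comb c3571 b3572 (Nat.zero_le _) (Nat.le_of_ble_eq_true rfl) rfl

theorem c3573 : Block F al 0 914944 914313 :=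
  block_comb c3572 b3573 (Nat.zero_le _) (Nat.le_of_ble_eq_true rfl) rfl

theorem c3574 : Block F al 0 915200 914569 :=
  block_comb c3573 b3574 (Nat.zero_le _) (Nat.le_of_ble_eq_true rfl) rfl

theorem c3575 : Block F al 0 915456 914825 :=
  block_comb c3574 b3575 (Nat.zero_le _) (Nat.le_of_ble_eq_true rfl) rfl

theorem c3576 : Block F al 0 915712 915081 :=
  block_comb c3575 b3576 (Nat.zero_le _) (Nat.le_of_ble_eq_true rfl) rfl

theorem c3577 : Block F al 0 915968 915337 :=
  block_comb c3576 b3577 (Nat.zero_le _) (Nat.le_of_ble_eq_true rfl) rfl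

theorem c3578 : Block F al 0 916224 915593 :=
  block_comb c3577 b3578 (Nat.zero_le _) (Nat.le_of_ble_eq_true rfl) rfl

theorem c3579 : Block F al 0 916480 915849 :=
  block_comb c3578 b3579 (Nat.zero_le _) (Nat.le_of_ble_eq_true rfl) rfl

theorem c3580 : Block F al 0 916736 916105 :=
  block_comb c3579 b3580 (Nat.zero_le _) (Nat.le_of_ble_eq_true rfl) rfl

theorem c3581 : Block F al 0 916992 916361 :=
  block_comb c3580 b3581 (Nat.zero_le _) (Nat.le_of_ble_eq_true rfl) rfl

theorem c3582 : Block F al 0 917248 916617 :=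
  block_comb c3581 b3582 (Nat.zero_le _) (Nat.le_of_ble_eq_true rfl) rfl

theorem c3583 : Block F al 0 917504 916873 :=
  block_comb c3582 b3583 (Nat.zero_le _) (Nat.le_of_ble_eq_true rfl) rfl

theorem c3584 : Block F al 0 917760 917129 :=
  block_comb c3583 b3584 (Nat.zero_le _) (Nat.le_of_ble_eq_true rfl) rfl

theorem c3585 : Block F al 0 918016 917385 :=
  block_comb c3584 b3585 (Nat.zero_le _) (Nat.le_of_ble_eq_true rfl) rfl

theorem c3586 : Block F al 0 918272 917641 :=
  block_comb c3585 b3586 (Nat.zero_le _) (Nat.le_of_ble_eq_true rfl) rfl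

theorem c3587 : Block F al 0 918528 917897 :=
  block_comb c3586 b3587 (Nat.zero_le _) (Nat.le_of_ble_eq_true rfl) rfl

theorem c3588 : Block F al 0 918784 918153 :=
  block_comb c3587 b3588 (Nat.zero_le _) (Nat.le_of_ble_eq_true rfl) rfl

theorem c3589 : Block F al 0 919040 918409 :=
  block_comb c3588 b3589 (Nat.zero_le _) (Nat.le_of_ble_eq_true rfl) rfl

theorem c3590 : Block F al 0 919296 918665 :=
  block_comb c3589 b3590 (Nat.zero_le _) (Nat.le_of_ble_eq_true rfl) rfl

theorem c3591 : Block F al 0 919552 918921 :=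
  block_comb c3590 b3591 (Nat.zero_le _) (Nat.le_of_ble_eq_true rfl) rfl

theorem c3592 : Block F al 0 919808 919177 :=
  block_comb c3591 b3592 (Nat.zero_le _) (Nat.le_of_ble_eq_true rfl) rfl

theorem c3593 : Block F al 0 920064 919433 :=
  block_comb c3592 b3593 (Nat.zero_le _) (Nat.le_of_ble_eq_true rfl) rfl

theorem c3594 : Block F al 0 920320 919689 :=
  block_comb c3593 b3594 (Nat.zero_le _) (Nat.le_of_ble_eq_true rfl) rfl

theorem c3595 : Block F al 0 920576 919945 :=
  block_comb c3594 b3595 (Nat.zero_le _) (Nat.le_of_ble_eq_true rfl) rfl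

theorem c3596 : Block F al 0 920832 920201 :=
  block_comb c3595 b3596 (Nat.zero_le _) (Nat.le_of_ble_eq_true rfl) rfl

theorem c3597 : Block F al 0 921088 920457 :=
  block_comb c3596 b3597 (Nat.zero_le _) (Nat.le_of_ble_eq_true rfl) rfl

theorem c3598 : Block F al 0 921344 920713 :=
  block_comb c3597 b3598 (Nat.zero_le _) (Nat.le_of_ble_eq_true rfl) rfl

theorem c3599 : Block F al 0 921600 920808 :=
  block_comb c3598 b3599 (Nat.zero_le _) (Nat.le_of_ble_eq_true rfl) rfl

end Cfsg.Agent.TcData.Fi24C.I920808
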